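import Cfsg.Agent.Lib.Classical.TensorWreathU.Weak

set_option autoImplicit false
set_option linter.unusedSectionVars false

/-!
Contraction of a matrix at one factor against isotropic vectors.
-/

namespace CfsgLib.Classical.TensorWreathU

open Matrix CfsgLib.Classical.TensorWreath
open CfsgLib.Classical.TensorUnitary (cj cj_apply ph ph_dot IsHerm Iso adj)
open CfsgLib.Classical.TensorMax (kc kr)
open CfsgLib.ClassicalAut (Unitary.Conj)
open scoped MatrixGroups Kronecker

variable {F : Type*} [Field F] [Finite F] {q : ℕ} (K : Unitary.Conj F q)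
variable {τ : Type} [Fintype τ] [DecidableEq τ] {m : ℕ}

/-- The rank one matrix of a vector. -/
def nu (J : Matrix (Fin m) (Fin m) F) (u : Fin m → F) : Matrix (Fin m) (Fin m) F :=
  Matrix.vecMulVec u (ph K J u)

variable {K} {J : Matrix (Fin m) (Fin m) F}

theorem nu_mul (a b : Fin m → F) : nu K J a * nu K J b = (ph K J a ⬝ᵥ b) • Matrix.vecMulVec a (ph K J b) := by
  rw [nu, nu, Matrix.vecMulVec_mul_vecMulVec, Matrix.vecMulVec_smul]

theorem nu_sq {u : Fin m → F} (hu : ph K J u ⬝ᵥ u = 0) : nu K J u * nu K J u = 0 := by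
  rw [nu_mul, hu, zero_smul]

theorem nu_mul_vec {u : Fin m → F} (hu : ph K J u ⬝ᵥ u = 0) (a : Fin m → F) :
    nu K J u * Matrix.vecMulVec u a = 0 := by
  rw [nu, Matrix.vecMulVec_mul_vecMulVec, hu, zero_smul, Matrix.vecMulVec_zero]

theorem nu_smul (c : F) (u : Fin m → F) : nu K J (c • u) = (c * K.bar c) • nu K J u := by
  rw [nu, nu, TensorUnitary.ph_smul, Matrix.smul_vecMulVec, Matrix.vecMulVec_smul, smul_smul]

theorem nu_conj (hJ : IsHerm K J) {T : Matrix (Fin m) (Fin m) F} (hT : Iso K J T) (u : Fin m → F) :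
    T * nu K J u * T⁻¹ = nu K J (T *ᵥ u) :=
  hJ.rk_conj hT u u

theorem adj_nu (hJ : IsHerm K J) (u : Fin m → F) : adj K J (nu K J u) = nu K J u := hJ.adj_rk u u

theorem nu_ne_zero (hJ : IsHerm K J) {u : Fin m → F} (hu : u ≠ 0) : nu K J u ≠ 0 := fun h => by
  rcases Matrix.vecMulVec_eq_zero.1 h with h | h
  · exact hu h
  · exact hJ.ph_ne hu h

/-- A matrix isotropic on all isotropic vectors is a scalar. -/
theorem scalar_of_iso_any {γ : Type} [Fintype γ] [DecidableEq γ] {W : Matrix γ γ F} (hW : IsHerm K W)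
    (h2 : 2 ≤ Fintype.card γ) {X : Matrix γ γ F}
    (h : ∀ u, ph K W u ⬝ᵥ u = 0 → ph K W u ⬝ᵥ (X *ᵥ u) = 0) : ∃ c : F, X = c • 1 := by
  have key : ∀ c : F, ∃ s : F, c • X + K.bar c • adj K W X = s • 1 := fun c => by
    refine hW.scalar_of_iso h2 ?_ fun u hu => ?_
    · rw [hW.adj_add, hW.adj_smul, hW.adj_smul, hW.adj_adj, K.bar_bar, add_comm]
    · have e : ph K W u ⬝ᵥ (adj K W X *ᵥ u) = 0 := by
        rw [hW.dot_adj, hW.adj_adj, hW.swap, h u hu, map_zero]
      rw [Matrix.add_mulVec, Matrix.smul_mulVec, Matrix.smul_mulVec, dotProduct_add, dotProduct_smul,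
        dotProduct_smul, h u hu, e, smul_zero, smul_zero, add_zero]
  obtain ⟨θ, hθ⟩ := K.exists_moved
  obtain ⟨a, ha⟩ := key 1
  obtain ⟨b, hb⟩ := key θ
  rw [map_one, one_smul, one_smul] at ha
  refine ⟨(θ - K.bar θ)⁻¹ * (b - K.bar θ * a), ?_⟩
  rw [← smul_smul, eq_inv_smul_iff₀ (sub_ne_zero.2 hθ.symm)]
  linear_combination (norm := module) hb - K.bar θ • ha

theorem ins_left_cancel [NeZero m] (i : τ) {N : Matrix (Fin m) (Fin m) F} (hN : N ≠ 0)
    {A B : Matrix (Ix (Rest i) m) (Ix (Rest i) m) F} (h : ins i A N = ins i B N) : A = B := by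
  obtain ⟨a, b, hab⟩ : ∃ a b, N a b ≠ 0 := by
    by_contra hh
    push Not at hh
    exact hN (Matrix.ext hh)
  ext p r
  have := congrFun₂ h ((spl i).symm (p, a)) ((spl i).symm (r, b))
  rw [ins, ins, Matrix.submatrix_apply, Matrix.submatrix_apply, Equiv.apply_symm_apply, Equiv.apply_symm_apply,
    Matrix.kroneckerMap_apply, Matrix.kroneckerMap_apply] at this
  exact mul_right_cancel₀ hab this

/-- The contraction at `j`. -/
def contr (K : Unitary.Conj F q) (J : Matrix (Fin m) (Fin m) F) (j : τ) (u : Fin m → F)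
    (Y : Matrix (Ix τ m) (Ix τ m) F) : Matrix (Ix (Rest j) m) (Ix (Rest j) m) F :=
  (kr (Ix (Rest j) m) (ph K J u) : Matrix (Ix (Rest j) m) (Ix (Rest j) m × Fin m) F) *
      (Y.submatrix (spl j).symm (spl j).symm : Matrix (Ix (Rest j) m × Fin m) (Ix (Rest j) m × Fin m) F) *
    (kc (Ix (Rest j) m) u : Matrix (Ix (Rest j) m × Fin m) (Ix (Rest j) m) F)

theorem emb_contr (j : τ) (u : Fin m → F) (Y : Matrix (Ix τ m) (Ix τ m) F) :
    embM j (nu K J u) * Y * embM j (nu K J u) = ins j (contr K J j u Y) (nu K J u) := by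
  have hY : Y = back j (Y.submatrix (spl j).symm (spl j).symm) := by ext x y; simp [back]
  rw [embM_eq_ins, ← back_kron, ← back_kron]
  conv_lhs => rw [hY, ← back_mul, ← back_mul]
  refine congrArg (back j) ?_
  rw [nu, ← TensorMax.kc_mul_kr, ← TensorMax.kc_mul_mul_kr, contr]
  simp only [Matrix.mul_assoc]

/-- A matrix which is not central at `j` has a non-zero contraction. -/
theorem exists_contr [NeZero m] (hJ : IsHerm K J) (hm : 2 ≤ m) {j : τ} {Y : Matrix (Ix τ m) (Ix τ m) F}
    (h : ¬ Cen j Y) : ∃ u, u ≠ 0 ∧ ph K J u ⬝ᵥ u = 0 ∧ contr K J j u Y ≠ 0 := by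
  by_contra hh
  push Not at hh
  obtain ⟨Z, hZ⟩ : ∃ Z : Ix (Rest j) m → Ix (Rest j) m → Matrix (Fin m) (Fin m) F,
      Z = fun a b => Matrix.of fun k l => Y ((spl j).symm (a, k)) ((spl j).symm (b, l)) := ⟨_, rfl⟩
  have key : ∀ a b, ∃ c : F, Z a b = c • 1 := fun a b => by
    refine scalar_of_iso_any hJ (by rw [Fintype.card_fin]; exact hm) fun u hu => ?_
    by_cases hu0 : u = 0
    · rw [hu0, Matrix.mulVec_zero, dotProduct_zero]
    have := congrFun₂ (hh u hu0 hu) a b
    rw [Matrix.zero_apply, contr] at this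
    rw [← this, Matrix.mul_assoc, TensorSymp.kr_mul_apply]
    congr 1
    funext k
    simp [hZ, Matrix.mulVec, dotProduct, Matrix.mul_apply, TensorMax.kc_apply, Fintype.sum_prod_type, mul_ite]
  choose c hc using key
  refine h ?_
  have : Y = ins j (Matrix.of c) 1 := by
    ext x y
    have e := congrFun₂ (hc (fun i => x i) (fun i => y i)) (x j) (y j)
    simp only [hZ, Matrix.of_apply, Matrix.smul_apply, smul_eq_mul] at e
    rw [ins_apply, Matrix.of_apply, ← e, spl_symm_update, spl_symm_update, Function.update_eq_self,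
      Function.update_eq_self]
  rw [this]
  exact cen_ins_one j _

/-- Centrality passes to the contraction. -/
theorem cen_contr [NeZero m] (hJ : IsHerm K J) {j l : τ} (hl : l ≠ j) {u : Fin m → F} (hu : u ≠ 0)
    {Y : Matrix (Ix τ m) (Ix τ m) F} (hY : Cen l Y) : Cen l (ins j (contr K J j u Y) 1) := by
  intro b
  have hc : Cen j (embM l b) := cen_embM hl.symm b
  rw [hc.eq_ins, ins_mul, ins_mul, Matrix.one_mul]
  congr 1
  refine ins_left_cancel j (nu_ne_zero hJ hu) ?_
  have h1 : ins j (restM j (embM l b)) (1 : Matrix (Fin m) (Fin m) F) * ins j (contr K J j u Y) (nu K J u) =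
      ins j (contr K J j u Y) (nu K J u) * ins j (restM j (embM l b)) 1 := by
    rw [← hc.eq_ins, ← emb_contr]
    calc embM l b * (embM j (nu K J u) * Y * embM j (nu K J u))
        = embM j (nu K J u) * (embM l b * Y) * embM j (nu K J u) := by
          simp only [← mul_assoc, embM_comm hl b]
      _ = embM j (nu K J u) * (Y * embM l b) * embM j (nu K J u) := by rw [hY b]
      _ = _ := by simp only [mul_assoc, embM_comm hl b]
  simpa only [ins_mul, Matrix.one_mul, Matrix.mul_one] using h1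

end CfsgLib.Classical.TensorWreathU
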