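import Cfsg.Agent.Lib.Classical.TensorWreathU.Orth

set_option autoImplicit false
set_option linter.unusedSectionVars false

/-!
Characteristic two: conjugates of roots, components of pure tensors, and the partner of a root in the
centraliser of a pure tensor.
-/

namespace CfsgLib.Classical.TensorWreathU

open Matrix CfsgLib.Classical.TensorWreath
open CfsgLib.Classical.TensorUnitary (cj ph IsHerm Iso adj tau)
open CfsgLib.ClassicalAut (Unitary.Conj)
open scoped MatrixGroups Kronecker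

variable {F : Type*} [Field F] [Finite F] {q : ℕ} {K : Unitary.Conj F q}
variable {τ : Type} [Fintype τ] [DecidableEq τ] {m : ℕ}
variable {J : Matrix (Fin m) (Fin m) F} {M : Subgroup (GL (Ix τ m) F)}

variable (K J M) in
/-- A conjugate of a root. -/
def RootConj (k : GL (Ix τ m) F) : Prop :=
  ∃ g ∈ M, ∃ (o : τ) (Y : Matrix (Ix τ m) (Ix τ m) F) (y : GL (Ix τ m) F),
    URoot K J o Y ∧ y ∈ M ∧ y.1 = 1 + Y ∧ k = g * y * g⁻¹

theorem rootConj_of_root {o : τ} {Y : Matrix (Ix τ m) (Ix τ m) F} {y : GL (Ix τ m) F} (hY : URoot K J o Y)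
    (hyM : y ∈ M) (hyv : y.1 = 1 + Y) : RootConj K J M y :=
  ⟨1, M.one_mem, o, Y, y, hY, hyM, hyv, by rw [one_mul, inv_one, mul_one]⟩

theorem RootConj.conj {k c : GL (Ix τ m) F} (hk : RootConj K J M k) (hc : c ∈ M) :
    RootConj K J M (c * k * c⁻¹) := by
  obtain ⟨g, hg, o, Y, y, hY, hyM, hyv, rfl⟩ := hk
  exact ⟨c * g, M.mul_mem hc hg, o, Y, y, hY, hyM, hyv, by group⟩

theorem RootConj.mem {k : GL (Ix τ m) F} (hk : RootConj K J M k) : k ∈ M := by
  obtain ⟨g, hg, o, Y, y, -, hyM, -, rfl⟩ := hk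
  exact M.mul_mem (M.mul_mem hg hyM) (M.inv_mem hg)

theorem RootConj.sq [NeZero m] (hJ : IsHerm K J) (h2 : (2 : F) = 0) {k : GL (Ix τ m) F} (hk : RootConj K J M k) :
    k * k = 1 := by
  obtain ⟨g, -, o, Y, y, hY, -, hyv, rfl⟩ := hk
  have := TensorWreath.Ctx.invol_sq h2 hyv (hY.sq_zero hJ)
  calc g * y * g⁻¹ * (g * y * g⁻¹) = g * (y * y) * g⁻¹ := by group
    _ = 1 := by rw [this]; group

theorem RootConj.rank_le [NeZero m] (hJ : IsHerm K J) {k : GL (Ix τ m) F} (hk : RootConj K J M k) (i : τ) :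
    (k.1 - 1).rank ≤ Fintype.card (Ix (Rest i) m) := by
  obtain ⟨g, -, o, Y, y, hY, -, hyv, rfl⟩ := hk
  rw [conj_val g hyv, add_sub_cancel_left, rank_conj]
  exact hY.rank_le hJ i

theorem mem_centralizer_of_closure {G : Type*} [Group G] {a b z w : G} (ha : a * z = z * a) (hb : b * z = z * b)
    (hw : w ∈ Subgroup.closure ({a, b} : Set G)) : w * z = z * w := by
  induction hw using Subgroup.closure_induction with
  | mem u hu => rcases hu with rfl | rfl <;> assumption
  | one => rw [one_mul, mul_one]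
  | mul u v _ _ h1 h2 => rw [mul_assoc, h2, ← mul_assoc, h1, mul_assoc]
  | inv u _ h1 => exact (Commute.inv_left (h1 : Commute u z)).eq

/-! ### Components -/

theorem embM_comm_pure {f : τ → Matrix (Fin m) (Fin m) F} {l : τ} {b : Matrix (Fin m) (Fin m) F}
    (h : f l * b = b * f l) : embM l b * pureM f = pureM f * embM l b := by
  rw [embM, pureM_mul, pureM_mul]
  refine congrArg pureM (funext fun j => ?_)
  by_cases hj : j = l
  · subst hj; simp [h]
  · simp [hj]

theorem one_add_ne_scalar [NeZero m] {n : Matrix (Fin m) (Fin m) F} (h0 : n ≠ 0) (hn : n * n = 0) (x : F) :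
    1 + n ≠ x • 1 := fun e => ne_scalar_of_sq_zero h0 hn (x - 1) (by rw [sub_smul, one_smul, ← e, add_sub_cancel_left])

/-- A monomial element centralising a pure involution permutes its components. -/
theorem components (hm : 3 ≤ m) (h2 : (2 : F) = 0) {h : τ → Matrix (Fin m) (Fin m) F} {σ : Equiv.Perm τ}
    {f : τ → Matrix (Fin m) (Fin m) F} (hd : (pureM h * permM F m σ).det ≠ 0) (hf : ∀ j, f j * f j = 1)
    (hc : pureM h * permM F m σ * pureM f = pureM f * (pureM h * permM F m σ)) (j : τ) :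
    h (σ j) * f j = f (σ j) * h (σ j) := by
  haveI : NeZero m := ⟨by omega⟩
  have hd' : (pureM h).det ≠ 0 := fun h0 => hd (by rw [Matrix.det_mul, h0, zero_mul])
  have e1 : pureM (h * fun j => f (σ.symm j)) = pureM (f * h) := by
    rw [mul_assoc, permM_mul_pureM, ← mul_assoc, ← mul_assoc, pureM_mul, pureM_mul] at hc
    have := congrArg (· * permM F m σ⁻¹) hc
    simpa only [mul_assoc, permM_mul_inv, mul_one] using this
  obtain ⟨B', hB'⟩ : ∃ B' : τ → Matrix (Fin m) (Fin m) F, B' = fun j => (h j)⁻¹ * f j := ⟨_, rfl⟩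
  have hBB : ∀ j, B' j * (f * h) j = 1 := fun j => by
    rw [hB', Pi.mul_apply, mul_assoc, ← mul_assoc (f j), hf, one_mul,
      mul_eq_one_comm.1 (nonsing_inv_of_pureM hd' j)]
  have e2 : pureM ((h * fun j => f (σ.symm j)) * B') * permM F m (1 : Equiv.Perm τ) = 1 := by
    rw [permM_one, mul_one, ← pureM_mul, e1, pureM_mul, ← pureM_one (τ := τ) (m := m) (F := F)]
    refine congrArg pureM (funext fun j => ?_)
    exact mul_eq_one_comm.1 (hBB j)
  obtain ⟨s, hs⟩ := (eq_one_of_pure_perm hm e2).2 (σ j)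
  have e3 : h (σ j) * f j = s • (f (σ j) * h (σ j)) := by
    have := congrArg (· * (f * h) (σ j)) hs
    rw [smul_mul_assoc, one_mul, Pi.mul_apply, mul_assoc, hBB, mul_one, Pi.mul_apply] at this
    simpa using this
  have e4 : h (σ j) = (s * s) • h (σ j) := by
    calc h (σ j) = h (σ j) * f j * f j := by rw [mul_assoc, hf, mul_one]
      _ = s • (f (σ j) * (h (σ j) * f j)) := by rw [e3, smul_mul_assoc, mul_assoc]; simp [mul_assoc, e3]
      _ = (s * s) • (f (σ j) * f (σ j) * h (σ j)) := by rw [e3, mul_smul_comm, smul_smul, mul_assoc]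
      _ = _ := by rw [hf, one_mul]
  have hs1 : s = 1 := by
    have h0 : (s * s - 1) • h (σ j) = 0 := by rw [sub_smul, one_smul, ← e4, sub_self]
    haveI : Nonempty (Fin m) := ⟨0⟩
    rcases smul_eq_zero.1 h0 with h0 | h0
    · exact sub_eq_zero.1 (mul_self_eq_zero.1 (show (s - 1) * (s - 1) = 0 by linear_combination h0 - (s - 1) * h2))
    · exact absurd (by rw [h0, Matrix.det_zero]) (det_ne_zero_of_pureM hd' (σ j))
  rw [e3, hs1, one_smul]

/-- A monomial element centralising a pure involution and moving a root matches the components there. -/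
theorem component_move (hm : 3 ≤ m) (h2 : (2 : F) = 0) {e : GL (Ix τ m) F} (he : Mono e.1)
    {f : τ → Matrix (Fin m) (Fin m) F} (hf : ∀ j, f j * f j = 1) (hc : e.1 * pureM f = pureM f * e.1) {i l : τ}
    {a b : Matrix (Fin m) (Fin m) F} (ha : ∀ x : F, a ≠ x • 1) (hab : e.1 * embM i a = embM l b * e.1) :
    f i = 1 + a ↔ f l = 1 + b := by
  haveI : NeZero m := ⟨by omega⟩
  obtain ⟨h, σ, hev⟩ := he
  have hd : (pureM h * permM F m σ).det ≠ 0 := by
    rw [← hev]; exact ((Matrix.isUnit_iff_isUnit_det _).1 e.isUnit).ne_zero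
  have hd' : (pureM h).det ≠ 0 := fun h0 => hd (by rw [Matrix.det_mul, h0, zero_mul])
  rw [hev] at hc hab
  rw [mono_mul_embM (g' := fun j => (h j)⁻¹) σ i (nonsing_inv_of_pureM hd' _)] at hab
  have hab' := ((Matrix.isUnit_iff_isUnit_det _).2 hd.isUnit).mul_right_cancel hab
  have hinv : ∀ j, (h j)⁻¹ * h j = 1 := fun j => mul_eq_one_comm.1 (nonsing_inv_of_pureM hd' j)
  have hσ : σ i = l := by
    by_contra hne
    obtain ⟨x, hx⟩ := embM_eq_scalar hne hab'
    refine ha x ?_
    have := congrArg (fun X => (h (σ i))⁻¹ * X * h (σ i)) hx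
    simp only [← mul_assoc, hinv, one_mul, mul_smul_comm, mul_one, smul_mul_assoc] at this
    rwa [mul_assoc, hinv, mul_one] at this
  rw [hσ] at hab'
  have hb : h l * a = b * h l := by
    have := congrArg (· * h l) (embM_injective l hab')
    simpa only [mul_assoc, hinv, mul_one] using this
  have hcomp := components hm h2 hd hf hc i
  rw [hσ] at hcomp
  have hu : IsUnit (h l) := IsUnit.of_mul_eq_one _ (nonsing_inv_of_pureM hd' l)
  constructor
  · intro hi
    refine hu.mul_right_cancel ?_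
    rw [← hcomp, hi, mul_add, mul_one, hb, add_mul, one_mul]
  · intro hl
    refine hu.mul_left_cancel ?_
    rw [hcomp, hl, mul_add, mul_one, hb, add_mul, one_mul]

/-- Commuting roots of one factor have orthogonal vectors. -/
theorem orth_of_comm [NeZero m] (hJ : IsHerm K J) {l : τ} {u s : Fin m → F} {c d : F} (hu0 : u ≠ 0)
    (hu : ph K J u ⬝ᵥ u = 0) (hs0 : s ≠ 0) (hc0 : c ≠ 0) (hd0 : d ≠ 0) {x r : GL (Ix τ m) F}
    (hxv : x.1 = 1 + embM l (c • nu K J u)) (hrv : r.1 = 1 + embM l (d • nu K J s)) (hxr : x * r = r * x) :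
    ph K J u ⬝ᵥ s = 0 := by
  have hn : nu K J u * nu K J s = nu K J s * nu K J u := by
    have h3 := congrArg Units.val hxr
    rw [Units.val_mul, Units.val_mul, hxv, hrv, mul_add, mul_one, add_mul, one_mul, mul_add, mul_one, add_mul,
      one_mul, embM_mul, embM_mul] at h3
    have h4 := embM_injective l (show (embM l (c • nu K J u * (d • nu K J s)) : Matrix (Ix τ m) (Ix τ m) F) =
      embM l (d • nu K J s * (c • nu K J u)) by linear_combination (norm := abel) h3)
    rw [smul_mul_smul_comm, smul_mul_smul_comm, mul_comm d] at h4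
    exact smul_right_injective _ (mul_ne_zero hc0 hd0) h4
  by_contra hne
  have hsu : ph K J s ⬝ᵥ u ≠ 0 := hJ.ne_comm hne
  obtain ⟨y, hy⟩ := hJ.exists_one hs0
  have h5 := congrArg (· *ᵥ y) hn
  simp only [← Matrix.mulVec_mulVec, nu, Matrix.vecMulVec_mulVec, op_smul_eq_smul, hy, one_smul,
    Matrix.mulVec_smul, dotProduct_smul, smul_smul] at h5
  have h6 := congrArg (ph K J u ⬝ᵥ ·) h5
  simp only [dotProduct_smul, smul_eq_mul, hu, mul_zero] at h6
  have h7 := h6.symm
  rw [mul_eq_zero, mul_eq_zero] at h7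
  rcases h7 with (h7 | h7) | h7
  · rw [h7, zero_mul, zero_smul, smul_eq_zero] at h5
    exact hu0 (h5.resolve_left hne)
  · exact hsu h7
  · exact hne h7

namespace Ctx

/-- A monomial conjugate of a root is a root. -/
theorem root_of_mono (C : Ctx K J M) {k : GL (Ix τ m) F} (hk : RootConj K J M k) (hm : Mono k.1) :
    ∃ (o : τ) (R : Matrix (Ix τ m) (Ix τ m) F), URoot K J o R ∧ k.1 = 1 + R := by
  obtain ⟨g, hg, o, Y, y, hY, -, hyv, rfl⟩ := hk
  rw [conj_val g hyv] at hm ⊢
  obtain ⟨p, hp⟩ := C.uRoot_of_mono_conj hg hY hm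
  exact ⟨p, _, hp, rfl⟩

/-- A conjugate of a root commuting with a root is a root. -/
theorem root_of_commute (C : Ctx K J M) {k x : GL (Ix τ m) F} (hk : RootConj K J M k) {i : τ}
    {X : Matrix (Ix τ m) (Ix τ m) F} (hX : URoot K J i X) (hxv : x.1 = 1 + X) (hc : k * x = x * k) :
    ∃ (o : τ) (R : Matrix (Ix τ m) (Ix τ m) F), URoot K J o R ∧ k.1 = 1 + R :=
  C.root_of_mono hk (C.mono_of_commute_root hk.mem hX ((commute_val_iff hxv).1 hc))

/-- A conjugator with a monomial image is monomial. -/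
theorem mono_of_mono_image (C : Ctx K J M) {h x : GL (Ix τ m) F} (hh : h ∈ M) {i : τ}
    {X : Matrix (Ix τ m) (Ix τ m) F} (hX : URoot K J i X) (hxv : x.1 = 1 + X) (hm : Mono (h * x * h⁻¹).1) :
    Mono h.1 :=
  C.mono_of_conj_root hh hX (by rwa [← conj_val h hxv])

/-- Two commuting roots of one factor. -/
theorem mono_of_commute_same (C : Ctx K J M) {l : τ} {X R : Matrix (Ix τ m) (Ix τ m) F} (hX : URoot K J l X)
    (hR : URoot K J l R) {x r h : GL (Ix τ m) F} (hxv : x.1 = 1 + X) (hrv : r.1 = 1 + R) (hxr : x * r = r * x)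
    (h1 : x * r ≠ 1) (hh : h ∈ M) (hc : h * (x * r) = x * r * h) : Mono h.1 := by
  haveI := C.hyp.neZero
  have hJ := C.hyp.hJ
  obtain ⟨u, c, hu0, hu, hc0, hcs, rfl⟩ := hX.exists_nu
  obtain ⟨s, d, hs0, hs, hd0, hds, rfl⟩ := hR.exists_nu
  have hus : ph K J u ⬝ᵥ s = 0 := orth_of_comm hJ hu0 hu hs0 hc0 hd0 hxv hrv hxr
  have hprod : (x * r).1 = 1 + embM l (c • nu K J u + d • nu K J s) := by
    rw [Units.val_mul, hxv, hrv, mul_add, mul_one, add_mul, one_mul, embM_mul, smul_mul_smul_comm, nu, nu,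
      Matrix.vecMulVec_mul_vecMulVec, hus, zero_smul, Matrix.vecMulVec_zero, smul_zero, embM_zero, add_zero,
      embM_add, add_assoc]
  have hcv := (commute_val_iff hprod).1 hc
  by_cases hpar : ∃ a : F, s = a • u
  · obtain ⟨a, rfl⟩ := hpar
    rw [nu_smul, smul_smul, ← add_smul] at hprod hcv
    refine C.mono_of_commute_root hh (uRoot_mk hu0 hu (c := c + d * (a * K.bar a)) (fun e0 => h1 (Units.ext ?_)) ?_ l) hcv
    · rw [hprod, e0, zero_smul, embM_zero, add_zero, Units.val_one]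
    · rw [map_add, map_mul, map_mul, K.bar_bar]; linear_combination hcs + a * K.bar a * hds
  · push Not at hpar
    exact C.mono_of_commute_pair hh hu0 hu hs hus hpar hc0 hcs hcv

/-- The partner of a root in the centraliser of a pure involution. -/
theorem partner (C : Ctx K J M) (h2 : (2 : F) = 0) {i l : τ} {a b : Matrix (Fin m) (Fin m) F}
    (hX : URoot K J i (embM i a)) (hY : URoot K J l (embM l b)) {f : τ → Matrix (Fin m) (Fin m) F}
    (hf : ∀ j, f j * f j = 1) (hfi : f i = 1 + a) (hfl : f l ≠ 1 + b) {z x y : GL (Ix τ m) F}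
    (hzv : z.1 = pureM f) (hxM : x ∈ M) (hxv : x.1 = 1 + embM i a) (hyM : y ∈ M) (hyv : y.1 = 1 + embM l b)
    (hxz : x * z = z * x) (hyz : y * z = z * y) {h : GL (Ix τ m) F} (hh : h ∈ M) (hhm : ¬ Mono h.1)
    (hhz : h * z = z * h) :
    ∃ (o : τ) (R : Matrix (Ix τ m) (Ix τ m) F) (r : GL (Ix τ m) F), o ≠ l ∧ URoot K J o R ∧ r ∈ M ∧ r.1 = 1 + R ∧
      y * r = r * y ∧ r * z = z * r ∧ y * r * (h * x * h⁻¹) = h * x * h⁻¹ * (y * r) ∧
      RootConj K J M (y * r * (h * x * h⁻¹)) := by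
  haveI := C.hyp.neZero
  have hJ := C.hyp.hJ
  have hm := C.hyp.three
  obtain ⟨k, hk⟩ : ∃ k, k = h * x * h⁻¹ := ⟨_, rfl⟩
  rw [← hk]
  have hkR : RootConj K J M k := hk ▸ (rootConj_of_root hX hxM hxv).conj hh
  have hyR := rootConj_of_root hY hyM hyv
  have hkz : k * z = z * k := by
    rw [hk, mul_assoc, (Commute.inv_left (hhz : Commute h z)).eq, ← mul_assoc, mul_assoc h, hxz, ← mul_assoc, hhz,
      mul_assoc z, mul_assoc z]
  have ha : ∀ s : F, a ≠ s • 1 := by
    have h0 : a ≠ 0 := fun e => hX.ne_zero hJ (by rw [e, embM_zero])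
    exact ne_scalar_of_sq_zero h0 (embM_injective i (by rw [← embM_mul, hX.sq_zero hJ, embM_zero]))
  have hy2 := hyR.sq hJ h2
  rcases dihedral_cases (hkR.sq hJ h2) hy2 with ⟨d, hd, hdy⟩ | ⟨w, hw, hww, hw1, hwk, hwy, hcases⟩
  · exfalso
    obtain ⟨e, he⟩ : ∃ e, e = d * h := ⟨_, rfl⟩
    have heM : e ∈ M := he ▸ M.mul_mem (closure_pair_le hkR.mem hyM hd) hh
    have hez : e * z = z * e := by
      rw [he, mul_assoc, hhz, ← mul_assoc, mem_centralizer_of_closure hkz hyz hd, mul_assoc]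
    have hexy : e * x * e⁻¹ = y := by rw [hdy, he, hk]; group
    have hem : Mono e.1 := C.mono_of_mono_image heM hX hxv (by
      rw [hexy, hyv, ← embM_one (F := F) (m := m) l, ← embM_add]; exact mono_pure _)
    refine hfl ((component_move hm h2 hem hf ?_ ha ?_).1 hfi)
    · rw [← hzv, ← Units.val_mul, hez, Units.val_mul]
    · have := congrArg Units.val (mul_inv_eq_iff_eq_mul.1 hexy)
      rwa [Units.val_mul, Units.val_mul, hxv, hyv, mul_add, mul_one, add_mul, one_mul, add_right_inj] at this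
  have hcl := closure_pair_le hkR.mem hyM
  have hwM := hcl hw
  have hconj : RootConj K J M (w * k) ∧ RootConj K J M (w * y) := by
    rcases hcases with ⟨⟨c, hc, e1⟩, ⟨c', hc', e2⟩⟩ | ⟨⟨c, hc, e1⟩, ⟨c', hc', e2⟩⟩
    · exact ⟨e1 ▸ hkR.conj (hcl hc), e2 ▸ hyR.conj (hcl hc')⟩
    · exact ⟨e1 ▸ hyR.conj (hcl hc), e2 ▸ hkR.conj (hcl hc')⟩
  obtain ⟨r, hr⟩ : ∃ r, r = w * y := ⟨_, rfl⟩
  have hry : r * y = y * r := by rw [hr, mul_assoc, hy2, mul_one, ← mul_assoc, ← hwy, mul_assoc, hy2, mul_one]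
  obtain ⟨o, R, hR, hrv⟩ := C.root_of_commute (hr ▸ hconj.2) hY hyv hry
  have hyr : y * r = w := by rw [← hry, hr, mul_assoc, hy2, mul_one]
  have hrz : r * z = z * r := by
    rw [hr, mul_assoc, hyz, ← mul_assoc, mem_centralizer_of_closure hkz hyz hw, mul_assoc]
  refine ⟨o, R, r, fun hol => ?_, hR, hr ▸ M.mul_mem hwM hyM, hrv, hry.symm, hrz, by rw [hyr, hwk],
    by rw [hyr]; exact hconj.1⟩
  subst hol
  refine hhm (C.mono_of_mono_image hh hX hxv (hk ▸ C.mono_of_commute_same hY hR hyv hrv hry.symm ?_ hkR.mem ?_))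
  · rw [hyr]; exact hw1
  · rw [hyr, hwk]

end Ctx

end CfsgLib.Classical.TensorWreathU
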