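import Cfsg.Agent.Lib.Classical.TensorWreathU.Form
import Cfsg.Agent.Lib.Classical.TensorWreath.ThreeBase

set_option autoImplicit false
set_option linter.unusedSectionVars false

/-!
Identities in characteristic two, and a lower bound for the rank next to a product of two roots.
-/

namespace CfsgLib.Classical.TensorWreathU

open Matrix CfsgLib.Classical.TensorWreath
open CfsgLib.Classical.TensorUnitary (ph IsHerm Rk)
open CfsgLib.Classical.TensorMax (kc kr)
open CfsgLib.ClassicalAut (Unitary.Conj)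
open scoped MatrixGroups Kronecker

variable {F : Type*} [Field F]

theorem neg_eq_two {R : Type*} [AddCommGroup R] [Module F R] (h2 : (2 : F) = 0) (x : R) : -x = x :=
  neg_eq_of_add_eq_zero_left (char_two_add_self h2 x)

theorem eq_of_add_two {R : Type*} [AddCommGroup R] [Module F R] (h2 : (2 : F) = 0) {x y : R} (h : x + y = 0) :
    x = y := by
  rw [eq_neg_of_add_eq_zero_left h, neg_eq_two h2]

/-- A product of two quadratic elements satisfies a cubic. -/
theorem cubic_of_pair {R : Type*} [Ring R] [Algebra F R] (h2 : (2 : F) = 0) {P Q : R} {t : F} (hP : P * P = 0)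
    (hQ : Q * Q = 0) (hPQ : P * Q * P = t • P) (hQP : Q * P * Q = t • Q) :
    (P + Q + P * Q) * (P + Q + P * Q) * (P + Q + P * Q) + t • ((P + Q + P * Q) * (P + Q + P * Q)) +
      t • (P + Q + P * Q) = 0 := by
  obtain ⟨S, hS⟩ : ∃ S, S = P + Q + P * Q := ⟨_, rfl⟩
  rw [← hS]
  have e1 : P * (Q * P) = t • P := by rw [← mul_assoc, hPQ]
  have e2 : Q * (P * Q) = t • Q := by rw [← mul_assoc, hQP]
  have p1 : ∀ X : R, P * (P * X) = 0 := fun X => by rw [← mul_assoc, hP, zero_mul]
  have q1 : ∀ X : R, Q * (Q * X) = 0 := fun X => by rw [← mul_assoc, hQ, zero_mul]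
  have hSS : S * S = P * Q + Q * P + t • S := by
    rw [hS]
    simp only [mul_add, add_mul, mul_assoc, hP, hQ, p1, q1, e1, e2, mul_smul_comm, zero_add, add_zero, mul_zero,
      smul_add]
    abel
  have hSD : S * (P * Q + Q * P) = t • S := by
    rw [hS]
    simp only [mul_add, add_mul, mul_assoc, hP, hQ, p1, q1, e1, e2, mul_smul_comm, zero_add, add_zero, mul_zero,
      smul_add]
    abel
  rw [show S * S * S = S * (S * S) from mul_assoc S S S, hSS, mul_add, hSD, mul_smul_comm, hSS,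
    show t • S + t • (P * Q + Q * P + t • S) + t • (P * Q + Q * P + t • S) + t • S =
      (2 : F) • (t • S + t • (P * Q + Q * P + t • S)) by module, h2, zero_smul]

/-- Two such cubics force a scalar. -/
theorem scalar_of_cubics {R : Type*} [Ring R] [Algebra F R] (h2 : (2 : F) = 0) {B B' : R} (hB : B' * B = 1) [Nontrivial R] {s c : F}
    (hc0 : c ≠ 0) (hc1 : c ≠ 1) (h1 : (1 + c * c) • (B * B * B) + (s * c) • (B * B) + s • B = 0)
    (h3 : (1 + c + c * c) • (B * B * B) + (s * (1 + c)) • (B * B) + s • B + (1 : F) • (1 : R) = 0)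
    (h4 : B * B * B + s • (B * B) + s • B + 1 = 0) : ∃ β : F, B = β • (1 : R) := by
  obtain ⟨a, ha⟩ : ∃ a, a = 1 + c := ⟨_, rfl⟩
  have ha0 : a ≠ 0 := fun e => hc1 (by linear_combination (e.symm.trans ha).symm - h2)
  have h3n : (3 : F) = 1 := by linear_combination h2
  have h4n : (4 : F) = 0 := by linear_combination 2 * h2
  have h5n : (5 : F) = 1 := by linear_combination 2 * h2
  have h6n : (6 : F) = 0 := by linear_combination 3 * h2
  have two0 : ∀ x : R, (2 : F) • x = 0 := fun x => by rw [h2, zero_smul]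
  have e1 : (a * a) • (B * B) + (s * c) • B + s • (1 : R) = 0 := by
    have h := congrArg (B' * ·) h1
    simp only [mul_add, mul_smul_comm, ← mul_assoc, hB, one_mul, mul_zero] at h
    linear_combination (norm := skip) h + two0 (c • (B * B))
    rw [ha]; match_scalars <;> (ring_nf; try simp [h2, h4n, h3n, h6n, h5n])
  have e2 : (s * a) • (B * B) + (s * c) • B + a • (1 : R) = 0 := by
    linear_combination (norm := skip) c • h4 + h3 + h1 + two0 (-((1 + c + c * c) • (B * B * B)) - (s * c) • (B * B) - s • B)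
    rw [ha]; match_scalars <;> (ring_nf; try simp [h2, h4n, h3n, h6n, h5n])
  by_cases hs : s + a = 0
  · have hsa : s = a := eq_of_add_two h2 hs
    rw [hsa] at e2
    obtain ⟨Y, hY⟩ : ∃ Y, Y = B + 1 := ⟨_, rfl⟩
    have f1 : a • (Y * Y) + c • Y = 0 := by
      refine smul_right_injective _ ha0 (?_ : a • _ = a • (0 : R))
      rw [smul_zero, hY]
      simp only [mul_add, add_mul, mul_one, one_mul]
      linear_combination (norm := skip) e2 + two0 ((a * a) • B) + two0 ((a * c) • (1 : R) - a • 1)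
      rw [ha]
      match_scalars <;> (ring_nf; try simp [h2, h4n, h3n, h6n, h5n])
    have f2 : Y * Y * Y + c • (Y * Y) + c • Y = 0 := by
      rw [hY]
      simp only [mul_add, add_mul, mul_one, one_mul]
      rw [hsa, ha] at h4
      linear_combination (norm := skip) h4 + two0 (B * B + B + (c : F) • B) + two0 ((c : F) • (1 : R))
      match_scalars <;> (ring_nf; try simp [h2, h4n, h3n, h6n, h5n])
    refine ⟨1, ?_⟩
    rw [one_smul]
    have f1' : a • (Y * Y * Y) + c • (Y * Y) = 0 := by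
      have h := congrArg (· * Y) f1
      simpa only [add_mul, smul_mul_assoc, zero_mul] using h
    have hY0 : c • Y = 0 := by
      linear_combination (norm := skip) (a * a) • f2 - a • f1' - (a * c - c) • f1
      rw [ha]
      match_scalars <;> (ring_nf; try simp [h2, h4n, h3n, h6n, h5n])
    have := (smul_eq_zero.1 hY0).resolve_left hc0
    exact eq_of_add_two h2 (hY ▸ this)
  · have f1 : a • (B * B) + (1 : R) = 0 := by
      refine smul_right_injective _ hs (?_ : (s + a) • _ = (s + a) • (0 : R))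
      rw [smul_zero]
      linear_combination (norm := skip) e1 + e2 - two0 ((s * c) • B)
      match_scalars <;> (ring_nf; try simp [h2, h4n, h3n, h6n, h5n])
    have hs0 : s ≠ 0 := fun e => by
      rw [e] at e1 hs
      have := congrArg (a • ·) f1
      rw [smul_zero, smul_add, smul_smul] at this
      have h5 : a • (1 : R) = 0 := by linear_combination (norm := skip) this - e1; module
      exact smul_ne_zero ha0 (one_ne_zero : (1 : R) ≠ 0) h5
    refine ⟨(a + s) / (s * c), ?_⟩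
    refine smul_right_injective _ (mul_ne_zero hs0 hc0) (?_ : (s * c) • B = (s * c) • _)
    rw [smul_smul, mul_div_cancel₀ _ (mul_ne_zero hs0 hc0)]
    linear_combination (norm := skip) e1 - a • f1 + two0 (a • (1 : R)) - two0 ((s + a) • (1 : R)) + two0 (s • (1:R))
    match_scalars <;> (ring_nf; try simp [h2, h4n, h3n, h6n, h5n])

/-- Two quadratic elements generating a two-group: the nilpotency. -/
theorem stable_pow {R : Type*} [Ring R] [Algebra F R] (h2 : (2 : F) = 0) {A B G h h' Z X Y : R} {c d : F}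
    (hA : A * A = 0) (hB : B * B = 0) (hAB : A * B = B * A) (hAG : A * G = G * A) (hBG : B * G * B = B)
    (hd : d ≠ 0) (hZd : Z = c • A + d • B + (c * d) • (A * B)) (hh : h * h' = 1) (hh' : h' * h = 1)
    (hZ : h * Z = Z * h) (hXd : X = c • A) (hYd : Y = h * X * h') (hK : Y * (A * B) = A * B * Y) :
    (X + Y + X * Y) ^ 8 = 0 := by
  obtain ⟨E, hE⟩ : ∃ E, E = A * B := ⟨_, rfl⟩
  rw [← hE] at hK
  obtain ⟨P, hP⟩ : ∃ P, P = X + Y + X * Y := ⟨_, rfl⟩
  rw [← hP]
  have hZ' : h' * Z = Z * h' := by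
    calc h' * Z = h' * (Z * h) * h' := by rw [mul_assoc h', mul_assoc Z, hh, mul_one]
      _ = Z * h' := by rw [← hZ, ← mul_assoc, hh', one_mul]
  have hAE : A * E = 0 := by rw [hE, ← mul_assoc, hA, zero_mul]
  have hBE : B * E = 0 := by rw [hE, hAB, ← mul_assoc, hB, zero_mul]
  have hAZ : A * Z = d • E := by
    rw [hZd, mul_add, mul_add, mul_smul_comm, mul_smul_comm, mul_smul_comm, hA, smul_zero, zero_add, ← hE, hAE,
      smul_zero, add_zero]
  have hZE : Z * E = 0 := by
    rw [hZd, add_mul, add_mul, smul_mul_assoc, smul_mul_assoc, smul_mul_assoc, mul_assoc, hAE, hBE, mul_zero,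
      smul_zero, smul_zero, smul_zero, add_zero, add_zero]
  -- the image of the kernel
  have key : ∀ V, Z * V = 0 → X * V = E * (c • (G * V)) := by
    intro V hV
    have h1 : E * V = 0 := by
      have := congrArg (A * ·) hV
      rw [mul_zero, ← mul_assoc, hAZ, smul_mul_assoc, smul_eq_zero] at this
      exact this.resolve_left hd
    have h3 : c • (A * V) = d • (B * V) := by
      refine eq_of_add_two h2 ?_
      rw [← hV, hZd, add_mul, add_mul, smul_mul_assoc, smul_mul_assoc, smul_mul_assoc, ← hE, h1, smul_zero, add_zero]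
    calc X * V = c • (A * V) := by rw [hXd, smul_mul_assoc]
      _ = d • (B * G * B * V) := by rw [h3, hBG]
      _ = B * G * (d • (B * V)) := by rw [mul_smul_comm]; simp only [mul_assoc]
      _ = B * G * (c • (A * V)) := by rw [h3]
      _ = c • (B * (G * A) * V) := by rw [mul_smul_comm]; simp only [mul_assoc]
      _ = c • (A * B * G * V) := by rw [← hAG, ← mul_assoc B A G, hAB]
      _ = _ := by rw [hE, mul_smul_comm]; simp only [mul_assoc]
  have hXE : X * E = 0 := by rw [hXd, smul_mul_assoc, hAE, smul_zero]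
  have hYh : ∀ b, Y * (h * (E * b)) = 0 := fun b => by
    rw [hYd, mul_assoc, ← mul_assoc h' h, hh', one_mul, mul_assoc h, ← mul_assoc X E, hXE, zero_mul, mul_zero]
  have hZh : ∀ b, Z * (h * (E * b)) = 0 := fun b => by
    rw [← mul_assoc, ← hZ, mul_assoc, ← mul_assoc Z E, hZE, zero_mul, mul_zero]
  have hPE : ∀ b, P * (E * b) = E * (Y * b) := fun b => by
    rw [hP, add_mul, add_mul, ← mul_assoc X E, hXE, zero_mul, zero_add, ← mul_assoc Y E, hK, mul_assoc E, mul_assoc X,
      ← mul_assoc Y E, hK, mul_assoc E, ← mul_assoc X E, hXE, zero_mul, add_zero]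
  have hPh : ∀ b, ∃ a, P * (h * (E * b)) = E * a := fun b => ⟨c • (G * (h * (E * b))), by
    rw [hP, add_mul, add_mul, mul_assoc X Y, hYh, mul_zero, add_zero, add_zero, key _ (hZh b)]⟩
  have hY2 : ∀ b, Y * (Y * b) = 0 := fun b => by
    rw [← mul_assoc, hYd, show h * X * h' * (h * X * h') = h * (X * (h' * h) * X) * h' by simp only [mul_assoc],
      hh', mul_one, hXd, smul_mul_smul_comm, hA, smul_zero, mul_zero, zero_mul, zero_mul]
  have h4 : ∀ V, Z * V = 0 → P * (P * (P * (P * V))) = 0 := by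
    intro V hV
    obtain ⟨b, hb⟩ : ∃ b, b = c • (G * (h' * V)) := ⟨_, rfl⟩
    have hYV : Y * V = h * (E * b) := by
      rw [hYd, mul_assoc, mul_assoc, key _ (by rw [← mul_assoc, ← hZ', mul_assoc, hV, mul_zero]), hb]
    obtain ⟨a, ha⟩ : ∃ a, a = c • (G * V) + c • (G * (h * (E * b))) := ⟨_, rfl⟩
    have h5 : P * V = E * a + h * (E * b) := by
      rw [hP, add_mul, add_mul, mul_assoc, hYV, key _ hV, key _ (hZh b), ha, mul_add]
      abel
    obtain ⟨a', ha'⟩ := hPh b
    rw [h5, mul_add, hPE, ha', ← mul_add, hPE, hPE, hY2, mul_zero]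
  have hPc : P * Z = Z * P := by
    have hc1 : X * Z = Z * X := by
      rw [hXd, hZd, smul_mul_assoc, mul_smul_comm, mul_add, mul_add, add_mul, add_mul, mul_smul_comm, mul_smul_comm,
        mul_smul_comm, smul_mul_assoc, smul_mul_assoc, smul_mul_assoc, hAB, ← mul_assoc, hAB]
    have hc2 : Y * Z = Z * Y := by
      rw [hYd, mul_assoc _ h' Z, hZ', ← mul_assoc, mul_assoc h X Z, hc1, ← mul_assoc, hZ, mul_assoc Z h X, mul_assoc]
    rw [hP, mul_add, mul_add, add_mul, add_mul, hc1, hc2, mul_assoc X Y, hc2, ← mul_assoc, hc1, mul_assoc]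
  have hZZ : Z * Z = 0 := by
    conv_lhs => arg 1; rw [hZd]
    rw [add_mul, add_mul, smul_mul_assoc, smul_mul_assoc, smul_mul_assoc, mul_assoc A B, hAZ]
    have : B * Z = c • E := by
      rw [hZd, mul_add, mul_add, mul_smul_comm, mul_smul_comm, mul_smul_comm, hB, smul_zero, add_zero, ← hE, hBE,
        smul_zero, add_zero, ← hAB, ← hE]
    rw [this, smul_smul, smul_smul, mul_smul_comm, smul_smul, hAE, smul_zero, add_zero, mul_comm d, char_two_add_self h2]
  have e4 : ∀ V, P * (P * (P * (P * V))) = P ^ 4 * V := fun V => by simp only [pow_succ, pow_zero, one_mul, mul_assoc]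
  have hcp : P ^ 4 * Z = Z * P ^ 4 := (Commute.pow_left (hPc : Commute P Z) 4).eq
  have := h4 (P ^ 4) (by rw [← hcp, ← e4, h4 Z hZZ])
  rwa [e4, ← pow_add] at this

section plane

variable [Finite F] {q : ℕ} {K : Unitary.Conj F q} {m : ℕ} {J : Matrix (Fin m) (Fin m) F}
variable {α : Type} [Fintype α] [DecidableEq α]

/-- The rank next to a product of two roots of a hyperbolic line. -/
theorem rank_two_plane (hJ : IsHerm K J) (h2 : (2 : F) = 0) (hm : 3 ≤ m) {a v : Fin m → F}
    (haa : ph K J a ⬝ᵥ a = 0) (hvv : ph K J v ⬝ᵥ v = 0) (hav : ph K J a ⬝ᵥ v = 1) (B : Matrix α α F) :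
    2 * Fintype.card α + (B - 1).rank * (m - 3) ≤
      (B ⊗ₖ ((1 + Rk K J a a) * (1 + Rk K J v v)) - 1).rank := by
  have hva : ph K J v ⬝ᵥ a = 1 := by rw [hJ.swap, hav, map_one]
  obtain ⟨A, hA⟩ : ∃ A, A = (1 + Rk K J a a) * (1 + Rk K J v v) := ⟨_, rfl⟩
  rw [← hA]
  obtain ⟨P, hP⟩ : ∃ P, P = Rk K J a v + Rk K J v a := ⟨_, rfl⟩
  have hPP : P * P = P := by
    rw [hP]
    simp [Rk, mul_add, add_mul, Matrix.vecMulVec_mul_vecMulVec, haa, hvv, hav, hva]
  have p2 : 2 ≤ P.rank := by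
    have := le_rank_of_sandwich (X := P) (L := Matrix.of ![ph K J v, ph K J a]) (R := (Matrix.of ![a, v])ᵀ) (by
      have e : ∀ (x : Fin m → F) (y : Fin m → F), ∀ i j, (Matrix.of ![x, y]) i j = ![x, y] i j := fun _ _ _ _ => rfl
      ext i j
      have hPa : P *ᵥ a = a := by rw [hP]; simp [Rk, Matrix.add_mulVec, Matrix.vecMulVec_mulVec, haa, hva]
      have hPv : P *ᵥ v = v := by rw [hP]; simp [Rk, Matrix.add_mulVec, Matrix.vecMulVec_mulVec, hvv, hav]
      rw [Matrix.mul_assoc, Matrix.mul_apply_eq_vecMul]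
      show (![ph K J v, ph K J a] i) ⬝ᵥ (fun k => (P * (Matrix.of ![a, v])ᵀ) k j) = _
      rw [show (fun k => (P * (Matrix.of ![a, v])ᵀ) k j) = P *ᵥ (![a, v] j) from rfl]
      fin_cases i <;> fin_cases j <;> simp [hPa, hPv, haa, hvv, hav, hva])
    simpa using this
  have p3 : m - 2 ≤ (1 - P).rank := by
    have h1 : (1 : Matrix (Fin m) (Fin m) F).rank ≤ (1 - P).rank + P.rank := by
      conv_lhs => rw [← sub_add_cancel 1 P]
      exact TensorWreath.rank_add_le' _ _
    have h3 : P.rank ≤ 2 := by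
      rw [hP]
      exact (TensorWreath.rank_add_le' _ _).trans (Nat.add_le_add (Matrix.rank_vecMulVec_le _ _) (Matrix.rank_vecMulVec_le _ _))
    rw [Matrix.rank_one, Fintype.card_fin] at h1
    omega
  obtain ⟨X0, hX0⟩ : ∃ X0, X0 = (B - 1) ⊗ₖ (1 - P) + (1 : Matrix α α F) ⊗ₖ P := ⟨_, rfl⟩
  have r0 : (B - 1).rank * (m - 2) + Fintype.card α * 2 ≤ X0.rank := by
    have z0 : ∀ S : Matrix α α F, S ⊗ₖ (0 : Matrix (Fin m) (Fin m) F) = 0 := fun S => by ext ⟨i, j⟩ ⟨k, l⟩; simp
    have e1 : X0 * ((1 : Matrix α α F) ⊗ₖ (1 - P)) = (B - 1) ⊗ₖ (1 - P) := by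
      rw [hX0, Matrix.add_mul, ← Matrix.mul_kronecker_mul, ← Matrix.mul_kronecker_mul, Matrix.mul_one, Matrix.mul_one,
        sub_mul, one_mul, mul_sub P, mul_one, hPP, sub_self, sub_zero, z0, add_zero]
    have e2 : ((1 : Matrix α α F) ⊗ₖ P) * X0 = (1 : Matrix α α F) ⊗ₖ P := by
      rw [hX0, Matrix.mul_add, ← Matrix.mul_kronecker_mul, ← Matrix.mul_kronecker_mul, Matrix.one_mul, Matrix.one_mul,
        mul_sub P, mul_one, hPP, sub_self, z0, zero_add]
    have h := rank_add_rank_le (X := X0) (Q := (1 : Matrix α α F) ⊗ₖ (1 - P)) (L := (1 : Matrix α α F) ⊗ₖ P) (by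
      rw [e2, ← Matrix.mul_kronecker_mul, show P * (1 - P) = 0 by rw [mul_sub, mul_one, hPP, sub_self], z0])
    rw [e1, e2] at h
    refine le_trans (add_le_add ((Nat.mul_le_mul_left _ p3).trans (rank_mul_rank_le _ _))
      (le_trans ?_ (rank_mul_rank_le _ _))) h
    rw [Matrix.rank_one]
    exact Nat.mul_le_mul_left _ p2
  obtain ⟨L, hL⟩ : ∃ L, L = (B - 1) * (kr α (ph K J a) : Matrix α (α × Fin m) F) := ⟨_, rfl⟩
  obtain ⟨Y, hY⟩ : ∃ Y, Y = B ⊗ₖ A - 1 := ⟨_, rfl⟩
  rw [← hY]
  have hker : LinearMap.ker Y.mulVecLin ⊓ LinearMap.ker L.mulVecLin ≤ LinearMap.ker X0.mulVecLin := by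
    intro y hy
    simp only [Submodule.mem_inf, LinearMap.mem_ker, Matrix.mulVecLin_apply] at hy ⊢
    obtain ⟨hy1, hy2⟩ := hy
    rw [hY, Matrix.sub_mulVec, Matrix.one_mulVec, sub_eq_zero] at hy1
    obtain ⟨qa, hqa⟩ : ∃ qa, qa = (kr α (ph K J a) : Matrix α (α × Fin m) F) *ᵥ y := ⟨_, rfl⟩
    obtain ⟨qv, hqv⟩ : ∃ qv, qv = (kr α (ph K J v) : Matrix α (α × Fin m) F) *ᵥ y := ⟨_, rfl⟩
    have fa : ph K J a ᵥ* A = ph K J a + ph K J v := by
      rw [hA]
      simp [Rk, mul_add, add_mul, Matrix.vecMul_add, Matrix.vecMulVec_mul_vecMulVec, Matrix.vecMul_vecMulVec, haa, hav]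
    have fv : ph K J v ᵥ* A = ph K J a := by
      rw [hA]
      simp [Rk, mul_add, add_mul, Matrix.vecMul_add, Matrix.vecMulVec_mul_vecMulVec, Matrix.vecMul_vecMulVec, hvv, hav,
        hva]
      rw [add_comm (ph K J v), add_assoc, char_two_add_self h2, add_zero]
    have e1 : B *ᵥ (qa + qv) = qa := by
      conv_rhs => rw [hqa, ← hy1, Matrix.mulVec_mulVec, TensorMax.kr_mul_kron, fa, ← Matrix.mulVec_mulVec]
      rw [hqa, hqv, ← Matrix.add_mulVec, TensorMax.kr_add]
    have e2 : B *ᵥ qa = qv := by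
      conv_rhs => rw [hqv, ← hy1, Matrix.mulVec_mulVec, TensorMax.kr_mul_kron, fv, ← Matrix.mulVec_mulVec, ← hqa]
    rw [hL, ← Matrix.mulVec_mulVec, ← hqa, Matrix.sub_mulVec, Matrix.one_mulVec, sub_eq_zero, e2] at hy2
    have qa0 : qa = 0 := by
      rw [← e1, hy2, char_two_add_self h2, Matrix.mulVec_zero]
    have qv0 : qv = 0 := hy2.trans qa0
    rw [hqa] at qa0
    rw [hqv] at qv0
    have kill : ∀ (x : Fin m → F) (φ : Fin m → F), (kr α φ : Matrix α (α × Fin m) F) *ᵥ y = 0 →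
        ((1 : Matrix α α F) ⊗ₖ Matrix.vecMulVec x φ) *ᵥ y = 0 := fun x φ h => by
      rw [← TensorMax.kc_mul_kr, ← Matrix.mulVec_mulVec, h, Matrix.mulVec_zero]
    have hP0 : ((1 : Matrix α α F) ⊗ₖ P) *ᵥ y = 0 := by
      rw [hP, Rk, Rk, Matrix.kronecker_add, Matrix.add_mulVec, kill _ _ qv0, kill _ _ qa0, add_zero]
    have hA1 : ((1 : Matrix α α F) ⊗ₖ A) *ᵥ y = y := by
      rw [hA]
      simp only [Rk, mul_add, add_mul, mul_one, one_mul, Matrix.vecMulVec_mul_vecMulVec, hav, one_smul,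
        Matrix.kronecker_add, Matrix.add_mulVec, kill _ _ qa0, kill _ _ qv0, add_zero, Matrix.one_kronecker_one,
        Matrix.one_mulVec]
    have hB1 : (B ⊗ₖ (1 : Matrix (Fin m) (Fin m) F)) *ᵥ y = y := by
      conv_lhs => rw [← hA1]
      rw [Matrix.mulVec_mulVec, ← Matrix.mul_kronecker_mul, Matrix.mul_one, Matrix.one_mul, hy1]
    have ksub : (B - 1) ⊗ₖ (1 : Matrix (Fin m) (Fin m) F) = B ⊗ₖ (1 : Matrix (Fin m) (Fin m) F) - 1 := by
      rw [sub_eq_add_neg, Matrix.add_kronecker, ← neg_one_smul F (1 : Matrix α α F), Matrix.smul_kronecker,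
        Matrix.one_kronecker_one, neg_one_smul, ← sub_eq_add_neg]
    have hd : (B - 1) ⊗ₖ (1 - P) = (B ⊗ₖ (1 : Matrix (Fin m) (Fin m) F) - 1) * (1 - (1 : Matrix α α F) ⊗ₖ P) := by
      rw [← ksub, Matrix.mul_sub, Matrix.mul_one, ← Matrix.mul_kronecker_mul, Matrix.mul_one, Matrix.one_mul]
      ext ⟨p, k⟩ ⟨p', k'⟩
      simp only [Matrix.sub_apply, Matrix.kroneckerMap_apply]
      ring
    rw [hX0, Matrix.add_mulVec, hP0, add_zero, hd, ← Matrix.mulVec_mulVec, Matrix.sub_mulVec _ _ y, Matrix.one_mulVec,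
      hP0, sub_zero, Matrix.sub_mulVec, hB1, Matrix.one_mulVec, sub_self]
  have d1 := Submodule.finrank_sup_add_finrank_inf_eq (LinearMap.ker Y.mulVecLin) (LinearMap.ker L.mulVecLin)
  have d2 := Submodule.finrank_le (LinearMap.ker Y.mulVecLin ⊔ LinearMap.ker L.mulVecLin)
  have d3 := Submodule.finrank_mono hker
  have d4 := LinearMap.finrank_range_add_finrank_ker Y.mulVecLin
  have d5 := LinearMap.finrank_range_add_finrank_ker L.mulVecLin
  have d6 := LinearMap.finrank_range_add_finrank_ker X0.mulVecLin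
  have d7 : L.rank ≤ (B - 1).rank := hL ▸ Matrix.rank_mul_le_left _ _
  rw [Module.finrank_pi] at d2 d4 d5 d6
  simp only [Matrix.rank] at r0 d7 ⊢
  obtain ⟨m', rfl⟩ : ∃ m', m = m' + 3 := ⟨m - 3, by omega⟩
  simp only [show m' + 3 - 2 = m' + 1 by omega, Nat.add_sub_cancel, mul_add, mul_one] at r0 ⊢
  omega

end plane

end CfsgLib.Classical.TensorWreathU
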