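import Cfsg.Agent.Lib.Classical.TensorWreathU.Split

set_option autoImplicit false
set_option linter.unusedSectionVars false

/-!
The action on the first factor of a conjugator made of a central element and a product.
-/

namespace CfsgLib.Classical.TensorWreathU

open Matrix CfsgLib.Classical.TensorUnitary CfsgLib.Classical.TensorMax
open CfsgLib.ClassicalAut (Unitary.Conj)
open scoped MatrixGroups Kronecker

variable {F : Type*} [Field F] [Finite F] {q : ℕ} {K : Unitary.Conj F q}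
variable {α β : Type} [Fintype α] [DecidableEq α] [Fintype β] [DecidableEq β]
variable {JA : Matrix α α F} {JB : Matrix β β F} {M M' : Subgroup (GL (α × β) F)}

theorem iso_right_of_kron (hA : IsHerm K JA) (h : Nonempty α) {X : Matrix β β F}
    (hi : Iso K (JA ⊗ₖ JB) ((1 : Matrix α α F) ⊗ₖ X)) : Iso K JB X := by
  rw [TensorUnitary.Iso, cj_kron, ← Matrix.mul_kronecker_mul, ← Matrix.mul_kronecker_mul, cj_one, Matrix.one_mul,
    Matrix.mul_one] at hi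
  haveI := h
  obtain ⟨a, b, hab⟩ : ∃ a b, JA a b ≠ 0 := by
    by_contra hh
    push Not at hh
    exact hA.det_ne (by rw [show JA = 0 from Matrix.ext hh, Matrix.det_zero])
  ext k l
  exact mul_left_cancel₀ hab (congrFun₂ hi (a, k) (b, l))

theorem iso_left_of_kron (hB : IsHerm K JB) (h : Nonempty β) {X : Matrix α α F}
    (hi : Iso K (JA ⊗ₖ JB) (X ⊗ₖ (1 : Matrix β β F))) : Iso K JA X := by
  rw [TensorUnitary.Iso, cj_kron, ← Matrix.mul_kronecker_mul, ← Matrix.mul_kronecker_mul, cj_one, Matrix.one_mul,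
    Matrix.mul_one] at hi
  haveI := h
  obtain ⟨a, b, hab⟩ : ∃ a b, JB a b ≠ 0 := by
    by_contra hh
    push Not at hh
    exact hB.det_ne (by rw [show JB = 0 from Matrix.ext hh, Matrix.det_zero])
  ext k l
  exact mul_right_cancel₀ hab (congrFun₂ hi (k, a) (l, b))

/-- The image of an element of the first factor. -/
theorem conj_left (H₁ : Weak K JA JB M) (H₂ : Weak K JA JB M') (hS : Small K JB M') {g : GL (α × β) F}
    (hrel : ∀ x ∈ M, g * x * g⁻¹ ∈ M') {w : β → F} (hw : ph K JB w ⬝ᵥ w = 0) (hw0 : w ≠ 0) {C : Matrix α α F}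
    {A : GL α F} {T : Matrix β β F} (hA : Iso K JA A.1) (hT : Iso K JB T)
    (hg : g.1 = (1 + Zm K JB w C) * (A.1 ⊗ₖ T)) {a : GL α F} (ha : InM M (a.1 ⊗ₖ (1 : Matrix β β F))) :
    InM M' ((A * a * A⁻¹).1 ⊗ₖ (1 : Matrix β β F)) ∧
      ∃ c : F, C - (A * a * A⁻¹).1 * C * ((A * a * A⁻¹)⁻¹).1 = c • 1 := by
  haveI hne : Nonempty β := Fintype.card_pos_iff.1 (by have := H₁.three; omega)
  haveI hne' : Nonempty α := Fintype.card_pos_iff.1 (by have := H₁.two_le; omega)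
  obtain ⟨x, hxM, hx⟩ := ha
  obtain ⟨N, hN⟩ : ∃ N, N = Matrix.vecMulVec w (ph K JB w) := ⟨_, rfl⟩
  have NN : N * N = 0 := by rw [hN, Matrix.vecMulVec_mul_vecMulVec, hw, zero_smul, Matrix.vecMulVec_zero]
  obtain ⟨a', ha'⟩ : ∃ a', a' = A * a * A⁻¹ := ⟨_, rfl⟩
  rw [← ha']
  obtain ⟨D, hD⟩ : ∃ D, D = C - a'.1 * C * (a'⁻¹).1 := ⟨_, rfl⟩
  rw [← hD]
  have zero_kron : ((0 : Matrix α α F) ⊗ₖ (0 : Matrix β β F)) = 0 := by ext ⟨i, j⟩ ⟨k, l⟩; simp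
  have kron_zero : ∀ X : Matrix α α F, X ⊗ₖ (0 : Matrix β β F) = 0 := fun X => by ext ⟨i, j⟩ ⟨k, l⟩; simp
  have ksub : ∀ (X Y : Matrix α α F), (X - Y) ⊗ₖ N = X ⊗ₖ N - Y ⊗ₖ N := fun X Y => by
    ext ⟨i, j⟩ ⟨k, l⟩; simp [sub_mul]
  -- the value of the conjugate
  obtain ⟨y, hy⟩ : ∃ y, y = g * x * g⁻¹ := ⟨_, rfl⟩
  have hyM : y ∈ M' := hy ▸ hrel x hxM
  have hTT := Matrix.mul_nonsing_inv T (H₁.hB.det_iso hT)
  have hgi : (g⁻¹).1 = ((A⁻¹).1 ⊗ₖ T⁻¹) * (1 - Zm K JB w C) := by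
    refine left_inv_eq_right_inv (a := g.1) g.inv_mul ?_
    rw [hg, Matrix.mul_assoc, ← Matrix.mul_assoc (A.1 ⊗ₖ T), ← Matrix.mul_kronecker_mul, A.mul_inv, hTT,
      Matrix.one_kronecker_one, Matrix.one_mul, one_kron_sub K JB hw]
  have hyv : y.1 = (1 + D ⊗ₖ N) * (a'.1 ⊗ₖ (1 : Matrix β β F)) := by
    rw [hy, Units.val_mul, Units.val_mul, hgi, hg, hx]
    calc (1 + Zm K JB w C) * (A.1 ⊗ₖ T) * (a.1 ⊗ₖ (1 : Matrix β β F)) *
          (((A⁻¹).1 ⊗ₖ T⁻¹) * (1 - Zm K JB w C))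
        = (1 + Zm K JB w C) * ((A.1 ⊗ₖ T) * (a.1 ⊗ₖ (1 : Matrix β β F)) * ((A⁻¹).1 ⊗ₖ T⁻¹)) *
            (1 - Zm K JB w C) := by simp only [Matrix.mul_assoc]
      _ = (1 + C ⊗ₖ N) * (a'.1 ⊗ₖ (1 : Matrix β β F)) * (1 - C ⊗ₖ N) := by
          rw [← Matrix.mul_kronecker_mul, ← Matrix.mul_kronecker_mul, Matrix.mul_one, hTT, ha', Units.val_mul,
            Units.val_mul, zm_kron, hN]
      _ = _ := by
          simp only [Matrix.add_mul, Matrix.mul_sub, Matrix.one_mul, Matrix.mul_one, ← Matrix.mul_kronecker_mul, NN,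
            kron_zero, sub_zero, hD, Matrix.sub_mul, ksub, Matrix.mul_assoc, a'.inv_mul]
          abel
  have hpairs : ∀ S : Matrix β β F, Iso K JB S → S.det = 1 →
      InM M' ((1 + Zm K JB w D) * (1 - Zm K JB (S *ᵥ w) D)) := by
    intro S hS dS
    obtain ⟨s, hsM, hs⟩ := H₂.right S hS dS
    have hSS := Matrix.mul_nonsing_inv S (H₁.hB.det_iso hS)
    have hS' := Matrix.nonsing_inv_mul S (H₁.hB.det_iso hS)
    have hsi : (s⁻¹).1 = (1 : Matrix α α F) ⊗ₖ S⁻¹ := by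
      refine left_inv_eq_right_inv (a := s.1) s.inv_mul ?_
      rw [hs, ← Matrix.mul_kronecker_mul, Matrix.one_mul, hSS, Matrix.one_kronecker_one]
    have hz : (s * y * s⁻¹).1 = (1 + Zm K JB (S *ᵥ w) D) * (a'.1 ⊗ₖ (1 : Matrix β β F)) := by
      rw [Units.val_mul, Units.val_mul, hsi, hs, hyv, zm_kron, ← H₁.hB.rk_conj hS, ← hN]
      simp only [Matrix.add_mul, Matrix.mul_add, Matrix.one_mul, Matrix.mul_one, ← Matrix.mul_kronecker_mul, hSS]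
    refine ⟨y * (s * y * s⁻¹)⁻¹, M'.mul_mem hyM (M'.inv_mem (M'.mul_mem (M'.mul_mem hsM hyM) (M'.inv_mem hsM))), ?_⟩
    have hsw : ph K JB (S *ᵥ w) ⬝ᵥ (S *ᵥ w) = 0 := by rw [H₁.hB.dot_image hS, hw]
    have hzi : ((s * y * s⁻¹)⁻¹).1 = ((a'⁻¹).1 ⊗ₖ (1 : Matrix β β F)) * (1 - Zm K JB (S *ᵥ w) D) := by
      refine left_inv_eq_right_inv (a := (s * y * s⁻¹).1) (s * y * s⁻¹).inv_mul ?_
      rw [hz, Matrix.mul_assoc, ← Matrix.mul_assoc (a'.1 ⊗ₖ _), ← Matrix.mul_kronecker_mul, a'.mul_inv, Matrix.one_mul,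
        Matrix.one_kronecker_one, Matrix.one_mul, one_kron_sub K JB hsw]
    rw [Units.val_mul, hzi, hyv, Matrix.mul_assoc, ← Matrix.mul_assoc (a'.1 ⊗ₖ _), ← Matrix.mul_kronecker_mul,
      a'.mul_inv, Matrix.one_mul, Matrix.one_kronecker_one, Matrix.one_mul, zm_kron K JB w, ← hN]
  obtain ⟨c, hc⟩ := H₂.scalar_of_pairs hS hw hw0 hpairs
  refine ⟨?_, c, hc⟩
  -- the central part is in the second factor
  have hsp : ((1 : Matrix α α F) ⊗ₖ (1 + c • N)) * (a'.1 ⊗ₖ (1 : Matrix β β F)) = y.1 := by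
    rw [hyv, hc, Matrix.kronecker_add, Matrix.one_kronecker_one, Matrix.kronecker_smul, Matrix.smul_kronecker]
  have hai : Iso K JA a.1 := iso_left_of_kron H₁.hB hne (hx ▸ (H₁.le x hxM).1)
  have ha'i : Iso K JA a'.1 := by
    rw [ha', Units.val_mul, Units.val_mul]
    exact H₁.hA.iso_mul (H₁.hA.iso_mul hA hai) (iso_inv hA)
  have hti : Iso K JB (1 + c • N) := by
    refine iso_right_of_kron H₁.hA hne' ?_
    have e : (1 : Matrix α α F) ⊗ₖ (1 + c • N) = y.1 * ((a'⁻¹).1 ⊗ₖ (1 : Matrix β β F)) := by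
      rw [← hsp, Matrix.mul_assoc, ← Matrix.mul_kronecker_mul, a'.mul_inv, Matrix.one_mul, Matrix.one_kronecker_one,
        Matrix.mul_one]
    rw [e]
    refine iso_mul (H₂.le y hyM).1 ?_
    show cj K ((a'⁻¹).1 ⊗ₖ (1 : Matrix β β F)) * (JA ⊗ₖ JB) * ((a'⁻¹).1 ⊗ₖ (1 : Matrix β β F)) = _
    rw [cj_kron, ← Matrix.mul_kronecker_mul, ← Matrix.mul_kronecker_mul, cj_one, Matrix.one_mul, Matrix.mul_one,
      show cj K (a'⁻¹).1 * JA * (a'⁻¹).1 = JA from iso_inv ha'i]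
  obtain ⟨s, hsM, hs⟩ := H₂.right _ hti (by rw [hN]; exact det_tau K hw c)
  refine ⟨s⁻¹ * y, M'.mul_mem (M'.inv_mem hsM) hyM, ?_⟩
  rw [Units.val_mul, ← hsp, ← hs, ← Matrix.mul_assoc, s.inv_mul, Matrix.one_mul]

/-- The inverse of such a conjugator has the same form. -/
theorem inv_form (hB : IsHerm K JB) {g : GL (α × β) F} {w : β → F} (hw : ph K JB w ⬝ᵥ w = 0) {C : Matrix α α F}
    {A : GL α F} {T : Matrix β β F} (hT : Iso K JB T) {ν : F} (hTw : T *ᵥ w = ν • w) (hν : ν ≠ 0)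
    (hg : g.1 = (1 + Zm K JB w C) * (A.1 ⊗ₖ T)) :
    ∃ C' : Matrix α α F, (g⁻¹).1 = (1 + Zm K JB w C') * ((A⁻¹).1 ⊗ₖ T⁻¹) := by
  have hTT := Matrix.mul_nonsing_inv T (hB.det_iso hT)
  have hT' := Matrix.nonsing_inv_mul T (hB.det_iso hT)
  have hTw' : T⁻¹ *ᵥ w = ν⁻¹ • w := by
    have := congrArg (T⁻¹ *ᵥ ·) hTw
    simp only [Matrix.mulVec_mulVec, hT', Matrix.one_mulVec, Matrix.mulVec_smul] at this
    rw [eq_inv_smul_iff₀ hν, ← this]
  have hTi : Iso K JB T⁻¹ := by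
    show cj K T⁻¹ * JB * T⁻¹ = JB
    conv_lhs => rw [← show cj K T * JB * T = JB from hT]
    rw [← Matrix.mul_assoc, ← Matrix.mul_assoc, ← cj_mul, hTT, cj_one, Matrix.one_mul, Matrix.mul_assoc, hTT,
      Matrix.mul_one]
  refine ⟨-((ν⁻¹ * K.bar ν⁻¹) • ((A⁻¹).1 * C * A.1)), ?_⟩
  refine left_inv_eq_right_inv (a := g.1) g.inv_mul ?_
  have e := hB.rk_conj hTi w w
  rw [hTw', ph_smul, Matrix.smul_vecMulVec, Matrix.vecMulVec_smul, smul_smul, Matrix.nonsing_inv_nonsing_inv T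
    (hB.det_iso hT)] at e
  have key : (A.1 ⊗ₖ T) * (1 + Zm K JB w (-((ν⁻¹ * K.bar ν⁻¹) • ((A⁻¹).1 * C * A.1)))) =
      (1 - Zm K JB w C) * (A.1 ⊗ₖ T) := by
    obtain ⟨N, hN⟩ : ∃ N, N = Matrix.vecMulVec w (ph K JB w) := ⟨_, rfl⟩
    rw [zm_kron, zm_kron, ← hN, ← neg_one_smul F ((ν⁻¹ * K.bar ν⁻¹) • _), Matrix.smul_kronecker,
      Matrix.smul_kronecker, ← Matrix.kronecker_smul, hN, ← e, ← hN]
    simp only [Matrix.mul_add, Matrix.sub_mul, Matrix.one_mul, Matrix.mul_one, Matrix.mul_smul,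
      ← Matrix.mul_kronecker_mul, ← Matrix.mul_assoc, A.mul_inv, hTT, Matrix.one_mul, neg_one_smul, sub_eq_add_neg,
      Matrix.mul_neg, Matrix.neg_mul, Matrix.add_mul]
  rw [hg, Matrix.mul_assoc, ← Matrix.mul_assoc (A.1 ⊗ₖ T), key, Matrix.mul_assoc (1 - _),
    ← Matrix.mul_kronecker_mul, A.mul_inv, hTT, Matrix.one_kronecker_one, Matrix.mul_one, one_kron_sub K JB hw]

end CfsgLib.Classical.TensorWreathU
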