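import Cfsg.Agent.Lib.Classical.TensorWreathU.Top
import Cfsg.Agent.Lib.Classical.TensorWreathU.Left

set_option autoImplicit false
set_option linter.unusedSectionVars false

/-!
Descent to the other factors: a conjugator mapping a root to a root is monomial.
-/

namespace CfsgLib.Classical.TensorWreathU

open Matrix CfsgLib.Classical.TensorWreath
open CfsgLib.Classical.TensorUnitary (cj ph IsHerm Iso adj tau Zm)
open CfsgLib.Classical.TensorMax (kc kr)
open CfsgLib.ClassicalAut (Unitary.Conj)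
open scoped MatrixGroups Kronecker

variable {F : Type*} [Field F] [Finite F] {q : ℕ} {K : Unitary.Conj F q}
variable {τ : Type} [Fintype τ] [DecidableEq τ] {m : ℕ}
variable {J : Matrix (Fin m) (Fin m) F} {M M' : Subgroup (GL (Ix τ m) F)} {g : GL (Ix τ m) F} {i : τ}

variable (K J)

/-- A conjugator with a monomial image of a root is monomial. -/
def MonoConj (τ : Type) [Fintype τ] [DecidableEq τ] : Prop :=
  ∀ (M M' : Subgroup (GL (Ix τ m) F)) (g : GL (Ix τ m) F), Hyp K J M → Hyp K J M' → ¬ Top K J M → ¬ Top K J M' →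
    Iso K (JJ J τ) g.1 → Rel M M' g → ∀ (i : τ) (X : Matrix (Ix τ m) (Ix τ m) F), URoot K J i X →
      Mono (1 + g.1 * X * (g⁻¹).1) → Mono g.1

/-- The statements for the fewer factors. -/
def Low (τ : Type) [Fintype τ] [DecidableEq τ] : Prop :=
  ∀ i : τ, 2 ≤ Fintype.card (Rest i) → AllMono K J (Rest i) ∧ MonoConj K J (Rest i)

variable {K J}

theorem Hyp.of_rel (H : Hyp K J M) {u : GL (Ix τ m) F} (hi : Iso K (JJ J τ) u.1) (hu : Mono u.1) (h : Rel M M' u) :
    Hyp K J M' where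
  hJ := H.hJ
  three := H.three
  hex := H.hex
  le g hg := by
    have hx : g = u * (u⁻¹ * g * u) * u⁻¹ := by simp [mul_assoc]
    obtain ⟨h1, h2⟩ := H.le (u⁻¹ * g * u) ((h _).2 (by rwa [← hx]))
    rw [hx, TensorWreath.det_conj, h2]
    refine ⟨?_, rfl⟩
    rw [Units.val_mul, Units.val_mul]
    exact iso_mul (iso_mul hi h1) (iso_inv hi)
  mono g hgi hd hg := by
    haveI := H.neZero
    have hx : g = u * (u⁻¹ * g * u) * u⁻¹ := by simp [mul_assoc]
    rw [hx]
    refine (h _).1 (H.mono _ ?_ ?_ ?_)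
    · rw [Units.val_mul, Units.val_mul]
      exact iso_mul (iso_mul (iso_inv hi) hgi) hi
    · have := TensorWreath.det_conj u⁻¹ g
      rw [inv_inv] at this
      rw [this, hd]
    · rw [Units.val_mul, Units.val_mul]
      exact ((mono_inv hu).mul hg).mul hu

theorem Top.of_rel {u : GL (Ix τ m) F} (hi : Iso K (JJ J τ) u.1) (h : Rel M M' u) (ht : Top K J M') : Top K J M :=
  fun g hg hd => (h g).2 (ht _ (by rw [Units.val_mul, Units.val_mul]; exact iso_mul (iso_mul hi hg) (iso_inv hi))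
    (by rw [TensorWreath.det_conj, hd]))

theorem Hyp.weak (H : Hyp K J M) (ht : 2 ≤ Fintype.card τ) (i : τ) :
    Weak K (JJ J (Rest i)) J (M.map (two i).toMonoidHom) where
  hA := herm_JJ H.hJ _
  hB := H.hJ
  two_le := two_le_rest H.three ht
  three := by rw [Fintype.card_fin]; exact H.three
  hex := fun h => by rw [Fintype.card_fin]; exact H.hex h
  le := by
    rintro _ ⟨g, hg, rfl⟩
    exact ⟨(iso_two i).2 (H.le g hg).1, by rw [show ((two i).toMonoidHom g) = two i g from rfl, det_two, (H.le g hg).2]⟩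
  right T hT dT := by
    obtain ⟨g, hg, hg'⟩ := H.inM_embM i hT dT
    exact ⟨two i g, ⟨g, hg, rfl⟩, back_inj i (by rw [back_two, hg', back_kron, embM_eq_ins])⟩

theorem map_rel (hR : Rel M M' g) (i : τ) :
    ∀ x ∈ M.map (two i).toMonoidHom, two i g * x * (two i g)⁻¹ ∈ M'.map (two i).toMonoidHom := by
  rintro _ ⟨x, hx, rfl⟩
  exact ⟨g * x * g⁻¹, (hR x).1 hx, by simp⟩

theorem inM_lift [NeZero m] {A : GL (Ix (Rest i) m) F} :
    lift i A ∈ M ↔ TensorMax.InM (M.map (two i).toMonoidHom) (A.1 ⊗ₖ (1 : Matrix (Fin m) (Fin m) F)) := by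
  constructor
  · exact fun h => ⟨two i (lift i A), ⟨_, h, rfl⟩, back_inj i (by rw [back_two, back_kron, lift_val])⟩
  · rintro ⟨_, ⟨x, hx, rfl⟩, e⟩
    have : x = lift i A := Units.ext (by
      rw [lift_val, ← back_kron, ← back_two i x]; exact congrArg (back i) e)
    exact this ▸ hx

theorem rank_add_le' {γ : Type} [Fintype γ] [DecidableEq γ] (A B : Matrix γ γ F) :
    (A + B).rank ≤ A.rank + B.rank := by
  refine (Submodule.finrank_mono ?_).trans (Submodule.finrank_add_le_finrank_add_finrank (LinearMap.range A.mulVecLin)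
    (LinearMap.range B.mulVecLin))
  rintro _ ⟨v, rfl⟩
  rw [Matrix.mulVecLin_add]
  exact Submodule.add_mem_sup ⟨v, rfl⟩ ⟨v, rfl⟩

/-- A matrix commuting up to scalars with all transvections of the factors is scalar. -/
theorem scalar_of_conj {κ : Type} [Fintype κ] [DecidableEq κ] (hJ : IsHerm K J) (hm : 3 ≤ m)
    {C : Matrix (Ix κ m) (Ix κ m) F}
    (h : ∀ (j : κ) (T : Matrix (Fin m) (Fin m) F), Iso K J T → T.det = 1 →
      ∃ c : F, C - embM j T * C * embM j T⁻¹ = c • 1) : ∃ c : F, C = c • 1 := by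
  haveI : NeZero m := ⟨by omega⟩
  refine exists_eq_smul_one_of_cen fun j => ?_
  by_contra hnc
  obtain ⟨u, hu0, hu, hne⟩ := exists_contr hJ (by omega) hnc
  obtain ⟨θ, hθ0, hθ⟩ := TensorUnitary.exists_skew K
  have hθs : θ + K.bar θ = 0 := by rw [hθ, add_neg_cancel]
  obtain ⟨c, hc⟩ := h j _ (hJ.iso_tau hu hθs) (TensorUnitary.det_tau K hu θ)
  have hinv : (tau K J u θ)⁻¹ = 1 - θ • nu K J u := by
    refine Matrix.inv_eq_right_inv ?_
    rw [tau, ← nu, mul_sub, mul_one, add_mul, one_mul, smul_mul_smul_comm, nu_sq hu, smul_zero, add_zero,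
      add_sub_cancel_right]
  obtain ⟨N, hN⟩ : ∃ N : Matrix (Ix κ m) (Ix κ m) F, N = embM j (nu K J u) := ⟨_, rfl⟩
  rw [hinv, tau, ← nu, embM_add, embM_sub, embM_one, embM_smul, ← hN] at hc
  obtain ⟨P, hP⟩ : ∃ P, P = (1 + θ • N) * C := ⟨_, rfl⟩
  have e : (θ • (P * N - N * C) : Matrix (Ix κ m) (Ix κ m) F) = c • 1 := by
    rw [← hc, hP]
    simp only [mul_sub, add_mul, one_mul, mul_one, smul_sub, smul_add, mul_smul_comm, smul_mul_assoc, smul_smul]
    module
  have hr : (θ • (P * N - N * C)).rank ≤ 2 * Fintype.card (Ix (Rest j) m) := by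
    refine (Matrix.rank_smul_of_mem_nonZeroDivisors _ (mem_nonZeroDivisors_of_ne_zero hθ0)).le.trans ?_
    have hn : N.rank ≤ Fintype.card (Ix (Rest j) m) := by rw [hN]; exact rank_embM_vecMulVec_le _ _ _
    rw [sub_eq_add_neg, two_mul]
    refine (rank_add_le' _ _).trans (Nat.add_le_add ((Matrix.rank_mul_le_right _ _).trans hn) ?_)
    rw [← neg_mul]
    refine (Matrix.rank_mul_le_left _ _).trans ?_
    rw [show -N = (-1 : F) • N by simp, Matrix.rank_smul_of_mem_nonZeroDivisors _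
      (mem_nonZeroDivisors_of_ne_zero (neg_ne_zero.2 one_ne_zero))]
    exact hn
  have hc0 : c = 0 := by
    by_contra hc0
    rw [e, Matrix.rank_smul_of_mem_nonZeroDivisors _ (mem_nonZeroDivisors_of_ne_zero hc0), Matrix.rank_one, card_ix j] at hr
    have hpos : 0 < Fintype.card (Ix (Rest j) m) := Fintype.card_pos
    nlinarith
  rw [hc0, zero_smul, smul_eq_zero, or_iff_right hθ0, sub_eq_zero, hP] at e
  have h2 := congrArg (N * ·) e
  have NN : N * N = 0 := by rw [hN, embM_mul, nu_sq hu, embM_zero]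
  simp only [add_mul, one_mul, mul_add, smul_mul_assoc, mul_smul_comm, ← mul_assoc, NN, zero_mul, smul_zero,
    add_zero] at h2
  rw [hN, emb_contr] at h2
  refine hne (ins_left_cancel j (nu_ne_zero hJ hu0) (h2.trans ?_))
  ext x y; simp [ins_apply]

/-- The image of a root under an isometry, if it is a root, is a root of a transvection. -/
theorem uRoot_of_rootAt (hJ : IsHerm K J) (hm : 3 ≤ m) {j : τ} {X : Matrix (Ix τ m) (Ix τ m) F} (hX : RootAt j X)
    (hI : Iso K (JJ J τ) (1 + X)) : URoot K J j X := by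
  haveI : NeZero m := ⟨by omega⟩
  obtain ⟨u, v, hu, hv, h0, rfl⟩ := hX
  rw [← embM_one (F := F) (m := m) j, ← embM_add, embM_eq_ins, ← back_kron, iso_back] at hI
  have hi : Iso K J (1 + Matrix.vecMulVec u v) :=
    iso_right_of_kron (herm_JJ hJ (Rest j)) ⟨fun _ => 0⟩ hI
  have key : ∀ x y, ph K J ((1 + Matrix.vecMulVec u v) *ᵥ x) ⬝ᵥ ((1 + Matrix.vecMulVec u v) *ᵥ y) = ph K J x ⬝ᵥ y :=
    fun x y => hJ.dot_image hi x y
  simp only [Matrix.add_mulVec, Matrix.one_mulVec, Matrix.vecMulVec_mulVec, op_smul_eq_smul, TensorUnitary.ph_add,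
    TensorUnitary.ph_smul, add_dotProduct, smul_dotProduct, dotProduct_add, dotProduct_smul, smul_eq_mul] at key
  obtain ⟨x₁, hx₁⟩ := TensorMax.exists_dual_one hv
  rw [dotProduct_comm] at hx₁
  have huu : ph K J u ⬝ᵥ u = 0 := by
    have := key x₁ u
    rw [hx₁, h0, map_one] at this
    linear_combination this
  obtain ⟨y₁, hy₁⟩ := hJ.exists_one hu
  obtain ⟨d, hd⟩ : ∃ d, d = ph K J x₁ ⬝ᵥ u := ⟨_, rfl⟩
  have hd0 : d ≠ 0 := fun e0 => by
    have := key x₁ y₁
    rw [hx₁, map_one, huu, ← hd, e0, hy₁] at this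
    exact one_ne_zero (by linear_combination this)
  have hall : ∀ y, ph K J u ⬝ᵥ y = -(v ⬝ᵥ y) * d := fun y => by
    have := key x₁ y
    rw [hx₁, map_one, huu, ← hd] at this
    linear_combination this
  have hv' : v = (-d⁻¹) • ph K J u := funext fun k => by
    have := hall (Pi.single k 1)
    rw [dotProduct_single_one, dotProduct_single_one] at this
    rw [Pi.smul_apply, smul_eq_mul, this]
    field_simp
  have hdd : d + K.bar d = 0 := by
    obtain ⟨z, uz, -, -⟩ := hJ.exists_dual huu hu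
    have := key z z
    simp only [huu, hv', smul_dotProduct, smul_eq_mul, uz, hJ.swap u z, map_one, mul_one, map_neg, map_inv₀, mul_zero,
      add_zero] at this
    have hdb : K.bar d ≠ 0 := fun e0 => hd0 (by rw [← K.bar_bar d, e0, map_zero])
    field_simp at this
    linear_combination -this
  refine ⟨u, -d⁻¹, hu, huu, neg_ne_zero.2 (inv_ne_zero hd0), ?_, ?_⟩
  · rw [map_neg, map_inv₀, eq_neg_of_add_eq_zero_right hdd, inv_neg, neg_neg, neg_add_cancel]
  · rw [hv', Matrix.vecMulVec_smul]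

namespace Hyp

/-- A conjugator mapping a root to a root of the same factor is monomial. -/
theorem mono_of_root_same (H : Hyp K J M) (H' : Hyp K J M') (hlow : Low K J τ) (ht : 2 ≤ Fintype.card τ)
    (hT : ¬ Top K J M) (hT' : ¬ Top K J M') (hgi : Iso K (JJ J τ) g.1) (hR : Rel M M' g)
    {X : Matrix (Ix τ m) (Ix τ m) F} (hX : URoot K J i X) (hgX : URoot K J i (g.1 * X * (g⁻¹).1)) : Mono g.1 := by
  classical
  haveI := H.neZero
  have hJ := H.hJ
  have hlow' : ∀ l : τ, 2 ≤ Fintype.card (Rest l) → AllMono K J (Rest l) := fun l hl => (hlow l hl).1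
  obtain ⟨w, c, hw0, hw, hc0, -, rfl⟩ := hX
  obtain ⟨w', c', hw'0, hw', -, -, hgX⟩ := hgX
  -- fix the vector
  obtain ⟨T₀, d, hT₀, dT₀, hd, hTw⟩ := hJ.move hw' hw'0 hw hw0
  obtain ⟨n, hnM, hn⟩ := H'.inM_embM i hT₀ dT₀
  obtain ⟨g₂, hg₂⟩ : ∃ g₂, g₂ = n * g := ⟨_, rfl⟩
  have hg₂i : Iso K (JJ J τ) g₂.1 := by
    rw [hg₂, Units.val_mul]; exact iso_mul (H'.le n hnM).1 hgi
  have hR₂ : Rel M M' g₂ := hg₂ ▸ hR.trans (Rel.refl hnM)
  suffices hgoal : Mono g₂.1 by
    have h1 : Mono (n⁻¹).1 := mono_inv (hn ▸ mono_pure _)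
    have := h1.mul hgoal
    rwa [hg₂, Units.val_mul, ← mul_assoc, n.inv_mul, one_mul] at this
  obtain ⟨G, hG⟩ : ∃ G, G = two i g₂ := ⟨_, rfl⟩
  obtain ⟨A, hA⟩ : ∃ A : Matrix (Ix (Rest i) m) (Ix (Rest i) m) F,
      G.1 * (kc (Ix (Rest i) m) w : Matrix (Ix (Rest i) m × Fin m) (Ix (Rest i) m) F) =
        (kc (Ix (Rest i) m) w : Matrix (Ix (Rest i) m × Fin m) (Ix (Rest i) m) F) * A := by
    obtain ⟨z, wz, -, -⟩ := hJ.exists_dual hw hw0
    have e1 : g₂.1 * embM i (c • nu K J w) = embM i (c' • (d * K.bar d) • nu K J w) * g₂.1 := by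
      have e0 : g.1 * embM i (c • nu K J w) = embM i (c' • nu K J w') * g.1 := by
        rw [nu, nu, ← hgX]; simp only [mul_assoc, g.inv_mul, mul_one]
      have e2 : n.1 * embM i (c' • nu K J w') = embM i (c' • (d * K.bar d) • nu K J w) * n.1 := by
        rw [hn, embM_mul, embM_mul]
        congr 1
        rw [← nu_smul, ← hTw, ← nu_conj hJ hT₀, mul_smul_comm, smul_mul_assoc, mul_assoc (T₀ * nu K J w'),
          Matrix.nonsing_inv_mul _ (hJ.det_iso hT₀), mul_one]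
      rw [hg₂, Units.val_mul, mul_assoc, e0, ← mul_assoc, e2, mul_assoc]
    rw [← back_two i g₂, ← hG, embM_eq_ins, embM_eq_ins, ← back_kron, ← back_kron, ← back_mul, ← back_mul] at e1
    have e3 := congrArg (· * kc (Ix (Rest i) m) z) (back_inj i e1)
    simp only [Matrix.kronecker_smul, nu, ← TensorMax.kc_mul_kr, Matrix.smul_mul, Matrix.mul_smul,
      Matrix.mul_assoc, TensorMax.kr_mul_kc, wz, one_smul, Matrix.mul_one, smul_smul] at e3
    refine ⟨(c⁻¹ * (c' * (d * K.bar d))) • ((kr (Ix (Rest i) m) (ph K J w) : Matrix (Ix (Rest i) m) (Ix (Rest i) m × Fin m) F) *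
      (G.1 * (kc (Ix (Rest i) m) z : Matrix (Ix (Rest i) m × Fin m) (Ix (Rest i) m) F))), ?_⟩
    rw [Matrix.mul_smul, mul_smul, ← e3, smul_smul, inv_mul_cancel₀ hc0, one_smul]
  have W := H.weak ht i
  have W' := H'.weak ht i
  have hS := H.small hlow' ht hT i
  have hS' := H'.small hlow' ht hT' i
  have hGi : Iso K (JJ J (Rest i) ⊗ₖ J) G.1 := hG ▸ (iso_two i).2 hg₂i
  obtain ⟨T₁, C, A₁, T, ν, hT₁, dT₁, hA₁, hTs, hTw₁, hν, hGv⟩ :=
    exists_split W W' hS' hGi (hG ▸ map_rel hR₂ i) hw hw0 hA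
  obtain ⟨n₁, hn₁M, hn₁⟩ := H'.inM_embM i hT₁ dT₁
  obtain ⟨g₃, hg₃⟩ : ∃ g₃, g₃ = n₁⁻¹ * g₂ := ⟨_, rfl⟩
  have hR₃ : Rel M M' g₃ := hg₃ ▸ hR₂.trans (Rel.refl (M'.inv_mem hn₁M))
  obtain ⟨A0, hA0⟩ : ∃ A0 : GL (Ix (Rest i) m) F, A0.1 = A₁ :=
    ⟨Matrix.GeneralLinearGroup.mkOfDetNeZero A₁ ((herm_JJ hJ _).det_iso hA₁).ne_zero, rfl⟩
  subst hA0
  have hv₃ : (two i g₃).1 = (1 + Zm K J w C) * (A0.1 ⊗ₖ T) := by
    have h1 : (two i n₁).1 = (1 : Matrix (Ix (Rest i) m) (Ix (Rest i) m) F) ⊗ₖ T₁ :=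
      back_inj i (by rw [back_two, hn₁, back_kron, embM_eq_ins])
    rw [hg₃, map_mul, map_inv, Units.val_mul, ← hG, hGv, ← h1]
    simp only [← Matrix.mul_assoc, Units.inv_mul, Matrix.one_mul]
  suffices hgoal : Mono g₃.1 by
    have h1 : Mono n₁.1 := hn₁ ▸ mono_pure _
    have := h1.mul hgoal
    rwa [hg₃, Units.val_mul, ← mul_assoc, n₁.mul_inv, one_mul] at this
  -- the two directions on the other factors
  have hfwd : ∀ a, a ∈ TensorWreath.down i M → A0 * a * A0⁻¹ ∈ TensorWreath.down i M' ∧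
      ∃ s : F, C - (A0 * a * A0⁻¹).1 * C * ((A0 * a * A0⁻¹)⁻¹).1 = s • 1 := by
    intro a ha
    obtain ⟨h1, h2⟩ := conj_left W W' hS' (map_rel hR₃ i) hw hw0 hA₁ hTs hv₃ (inM_lift.1 (mem_down.1 ha).1)
    exact ⟨mem_down.2 ⟨inM_lift.2 h1, by rw [TensorWreath.det_conj, (mem_down.1 ha).2]⟩, h2⟩
  obtain ⟨C', hC'⟩ := inv_form hJ hw hTs hTw₁ hν hv₃
  have hbwd : ∀ b, b ∈ TensorWreath.down i M' → A0⁻¹ * b * A0⁻¹⁻¹ ∈ TensorWreath.down i M := by
    intro b hb
    have hTi : Iso K J T⁻¹ := by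
      rw [← hJ.adj_iso hTs]
      show cj K _ * J * _ = J
      have e := iso_inv (g := Matrix.GeneralLinearGroup.mkOfDetNeZero T (hJ.det_iso hTs).ne_zero) hTs
      rw [Matrix.coe_units_inv] at e
      rw [hJ.adj_iso hTs]
      exact e
    obtain ⟨h1, -⟩ := conj_left W' W hS (g := two i g₃⁻¹) (map_rel hR₃.symm i) hw hw0 (iso_inv hA₁) hTi
      (by rw [map_inv]; exact hC') (inM_lift.1 (mem_down.1 hb).1)
    exact mem_down.2 ⟨inM_lift.2 h1, by rw [TensorWreath.det_conj, (mem_down.1 hb).2]⟩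
  have hR0 : Rel (TensorWreath.down i M) (TensorWreath.down i M') A0 := fun a => ⟨fun ha => (hfwd a ha).1, fun ha => by
    have := hbwd _ ha
    rwa [inv_inv, show A0⁻¹ * (A0 * a * A0⁻¹) * A0 = a by group] at this⟩
  have hmA : Mono A0.1 := by
    have hcard : Fintype.card (Rest i) = Fintype.card τ - 1 := by
      rw [Fintype.card_subtype_compl, Fintype.card_subtype_eq]
    by_cases h2 : 2 ≤ Fintype.card (Rest i)
    swap
    · exact mono_of_card_one (by omega) _
    obtain ⟨hAll, hConj⟩ := hlow i h2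
    obtain ⟨j⟩ : Nonempty (Rest i) := Fintype.card_pos_iff.1 (by omega)
    obtain ⟨θ, hθ0, hθ⟩ := TensorUnitary.exists_skew K
    have hX : URoot K J j (embM j (θ • nu K J w)) := ⟨w, θ, hw0, hw, hθ0, by rw [hθ, add_neg_cancel], rfl⟩
    have hTdM' : ¬ Top K J (TensorWreath.down i M') := fun h => hT' (H'.top_of_down h2 h)
    obtain ⟨y, hy, hy'⟩ := hR0.inM ((H.down i).inM_uRoot hX)
    exact hConj _ _ A0 (H.down i) (H'.down i) (fun h => hT (H.top_of_down h2 h)) hTdM' hA₁ hR0 j _ hX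
      (hy' ▸ hAll _ (H'.down i) hTdM' y hy)
  obtain ⟨s, hs⟩ : ∃ s : F, C = s • 1 := by
    refine scalar_of_conj hJ H.three fun j T' hT' dT' => ?_
    obtain ⟨b, hbM, hb⟩ := (H'.down i).inM_embM j hT' dT'
    have ha := hbwd b hbM
    rw [inv_inv] at ha
    obtain ⟨-, s, hs⟩ := hfwd _ ha
    rw [show A0 * (A0⁻¹ * b * A0) * A0⁻¹ = b by group, hb] at hs
    have hbi : (b⁻¹).1 = embM j T'⁻¹ := by
      refine left_inv_eq_right_inv (a := b.1) b.inv_mul ?_
      rw [hb, embM_mul, Matrix.mul_nonsing_inv _ (hJ.det_iso hT'), embM_one]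
    exact ⟨s, hbi ▸ hs⟩
  have e : g₃.1 = embM i (1 + s • nu K J w) * (ins i A0.1 1 * embM i T) := by
    rw [← back_two i g₃, hv₃, hs, TensorUnitary.zm_kron, Matrix.smul_kronecker, back_mul, back_add, back_one,
      ← Matrix.kronecker_smul, back_kron, back_kron, embM_add, embM_one, embM_eq_ins i (s • _), embM_eq_ins i T,
      ins_mul, Matrix.mul_one, Matrix.one_mul]
    rfl
  rw [e]
  exact (mono_pure _).mul ((mono_ins i hmA).mul (mono_pure _))

/-- A conjugator mapping a root to a root is monomial. -/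
theorem mono_of_root (H : Hyp K J M) (H' : Hyp K J M') (hlow : Low K J τ) (ht : 2 ≤ Fintype.card τ)
    (hT : ¬ Top K J M) (hT' : ¬ Top K J M') (hgi : Iso K (JJ J τ) g.1) (hR : Rel M M' g) {j : τ}
    {X : Matrix (Ix τ m) (Ix τ m) F} (hX : URoot K J i X) (hgX : URoot K J j (g.1 * X * (g⁻¹).1)) : Mono g.1 := by
  haveI := H.neZero
  set u : GL (Ix τ m) F := permU F m (Equiv.swap j i) with hu
  have hum : Mono u.1 := mono_perm _
  have hui : Iso K (JJ J τ) u.1 := iso_permM K J _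
  have H'' : Hyp K J (M'.map (MulAut.conj u).toMonoidHom) := H'.of_rel hui hum (rel_map M' u)
  have hgX2 : URoot K J i ((u * g).1 * X * ((u * g)⁻¹).1) := by
    obtain ⟨a, c, ha, h0, hc, hcc, hab⟩ := hgX
    refine ⟨a, c, ha, h0, hc, hcc, ?_⟩
    calc (u * g).1 * X * ((u * g)⁻¹).1 = u.1 * (g.1 * X * (g⁻¹).1) * (u⁻¹).1 := by
          rw [_root_.mul_inv_rev, Units.val_mul, Units.val_mul]; simp only [mul_assoc]
      _ = _ := by rw [hab, hu, permU_conj_embM, Equiv.swap_apply_left]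
  have key := mono_of_root_same H H'' hlow ht hT (fun h => hT' (Top.of_rel hui (rel_map M' u) h))
    (by rw [Units.val_mul]; exact iso_mul hui hgi) (hR.trans (rel_map M' u)) hX hgX2
  have := (mono_inv hum).mul key
  rwa [Units.val_mul, ← mul_assoc, u.inv_mul, one_mul] at this

end Hyp

end CfsgLib.Classical.TensorWreathU
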