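import Cfsg.Agent.Lib.Classical.TensorWreathU.Two

set_option autoImplicit false
set_option linter.unusedSectionVars false

/-!
Characteristic two: a proper intermediate group is monomial.
-/

namespace CfsgLib.Classical.TensorWreathU

open Matrix CfsgLib.Classical.TensorWreath
open CfsgLib.Classical.TensorUnitary (cj ph IsHerm Iso adj tau trl)
open CfsgLib.ClassicalAut (Unitary.Conj)
open scoped MatrixGroups Kronecker

variable {F : Type*} [Field F] [Finite F] {q : ℕ} {K : Unitary.Conj F q}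
variable {τ : Type} [Fintype τ] [DecidableEq τ] {m : ℕ}
variable {J : Matrix (Fin m) (Fin m) F} {M : Subgroup (GL (Ix τ m) F)}

/-- The product of commuting pure involutions. -/
theorem pure_mul_sq (hm : 3 ≤ m) (h2 : (2 : F) = 0) {f f' : τ → Matrix (Fin m) (Fin m) F}
    (hf : ∀ o, f o * f o = 1) (hf' : ∀ o, f' o * f' o = 1) (hc : pureM f * pureM f' = pureM f' * pureM f) (o : τ) :
    (f * f') o * (f * f') o = 1 := by
  haveI : NeZero m := ⟨by omega⟩
  haveI : Nonempty (Ix τ m) := ⟨fun _ => 0⟩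
  have hd : (pureM f * permM F m (1 : Equiv.Perm τ)).det ≠ 0 := by
    rw [permM_one, mul_one]
    intro h0
    have h1 : pureM f * pureM f = 1 := by
      rw [pureM_mul, ← pureM_one (τ := τ) (m := m) (F := F)]; exact congrArg pureM (funext hf)
    have := congrArg Matrix.det h1
    rw [Matrix.det_mul, h0, zero_mul, Matrix.det_one] at this
    exact zero_ne_one this
  have h := components hm h2 hd hf' (by rwa [permM_one, mul_one]) o
  rw [Equiv.Perm.one_apply] at h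
  rw [Pi.mul_apply, mul_assoc, ← mul_assoc (f' o), ← h, mul_assoc (f o), hf' o, mul_one, hf o]

/-- A root as a pure tensor. -/
theorem root_pure [NeZero m] (hJ : IsHerm K J) (h2 : (2 : F) = 0) {i : τ} {X : Matrix (Ix τ m) (Ix τ m) F}
    (hX : URoot K J i X) : ∃ a : Matrix (Fin m) (Fin m) F, a ≠ 0 ∧ a * a = 0 ∧ X = embM i a ∧
      1 + X = pureM (Function.update (1 : τ → Matrix (Fin m) (Fin m) F) i (1 + a)) ∧
      ∀ o, Function.update (1 : τ → Matrix (Fin m) (Fin m) F) i (1 + a) o *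
        Function.update (1 : τ → Matrix (Fin m) (Fin m) F) i (1 + a) o = 1 := by
  obtain ⟨u, c, hu0, hu, hc0, -, rfl⟩ := hX.exists_nu
  refine ⟨_, smul_nu_ne hJ hu0 hc0, smul_nu_sq hu c c, rfl, ?_, fun o => ?_⟩
  · rw [← embM_one (F := F) (m := m) i, ← embM_add]; rfl
  · by_cases ho : o = i
    · subst ho; rw [Function.update_self]; exact two_mul_one_add_sq h2 (smul_nu_sq hu c c)
    · rw [Function.update_of_ne ho, Pi.one_apply, mul_one]

/-- A root commuting with a monomial involution at a fixed factor. -/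
theorem exists_root_commute_invol (C : Ctx K J M) (h2 : (2 : F) = 0) {e : GL (Ix τ m) F} (he : e ∈ M)
    (hee : e * e = 1) {h : τ → Matrix (Fin m) (Fin m) F} {σ : Equiv.Perm τ} (hev : e.1 = pureM h * permM F m σ)
    {i : τ} (hσ : σ i = i) :
    ∃ (R : Matrix (Ix τ m) (Ix τ m) F), URoot K J i R ∧ e.1 * R = R * e.1 := by
  haveI := C.hyp.neZero
  haveI : Nonempty (Fin m) := ⟨0⟩
  have hJ := C.hyp.hJ
  have hm := C.hyp.three
  obtain ⟨ν, A, hν, hsplit, hA, hAu⟩ := exists_split_invol hm h2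
    (by rw [← hev, ← Units.val_mul, hee, Units.val_one]) hσ
  rw [← hev] at hsplit
  suffices hu : ∃ u : Fin m → F, u ≠ 0 ∧ ph K J u ⬝ᵥ u = 0 ∧ ν *ᵥ u = 0 ∧ ph K J u ᵥ* ν = 0 by
    obtain ⟨u, hu0, hu, hu1, hu2⟩ := hu
    refine ⟨_, uRoot_mk hu0 hu one_ne_zero (skew_of_real h2 (map_one _)) i, ?_⟩
    rw [hsplit, mul_assoc, ← hA, ← mul_assoc, ← mul_assoc, embM_mul, embM_mul]
    congr 2
    rw [one_smul, mul_add, add_mul, one_mul, mul_one, nu, Matrix.mul_vecMulVec, Matrix.vecMulVec_mul, hu1, hu2]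
    simp
  by_cases hν0 : ν = 0
  · obtain ⟨u, hu0, hu, -⟩ := hJ.exists_iso_perp (fun x : Fin 0 => x.elim0) (by simp only [Fintype.card_fin]; omega)
    exact ⟨u, hu0, hu, by rw [hν0, Matrix.zero_mulVec], by rw [hν0, Matrix.vecMul_zero]⟩
  obtain ⟨A0, hA0⟩ : ∃ A0, A0 = restM i A := ⟨_, rfl⟩
  have hins : e.1 = ins i A0 (1 + ν) := by
    rw [hsplit, hA0]
    conv_lhs => rw [hA.eq_ins, embM_eq_ins, ins_mul, one_mul, mul_one]
  have hiso := (C.hyp.le e he).1
  rw [hins, ← back_kron, iso_back] at hiso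
  unfold TensorUnitary.Iso at hiso
  rw [TensorUnitary.cj_kron, ← Matrix.mul_kronecker_mul, ← Matrix.mul_kronecker_mul] at hiso
  have hX0 : cj K A0 * JJ J (Rest i) * A0 ≠ 0 := fun e0 => by
    rw [e0] at hiso
    have h3 := congrArg Matrix.det hiso
    rw [show (0 : Matrix (Ix (Rest i) m) (Ix (Rest i) m) F) ⊗ₖ (cj K (1 + ν) * J * (1 + ν)) = 0 by
      ext ⟨a, b⟩ ⟨c, d⟩; simp] at h3
    haveI : Nonempty (Ix (Rest i) m × Fin m) := ⟨(fun _ => 0, 0)⟩
    rw [Matrix.det_zero, Matrix.det_kronecker] at h3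
    exact mul_ne_zero (pow_ne_zero _ (herm_JJ hJ _).det_ne) (pow_ne_zero _ hJ.det_ne) h3.symm
  obtain ⟨s, hs⟩ := exists_smul_of_ins_eq (i := i) hX0
    (b := cj K (1 + ν) * J * (1 + ν)) (b' := J) (X' := JJ J (Rest i)) (congrArg (back i) hiso)
  have hinv := two_mul_one_add_sq h2 hν
  have h3 : adj K J (1 + ν) = s • (1 + ν) := by
    have h4 := congrArg (fun X => J⁻¹ * (X * (1 + ν))) hs
    simp only [mul_assoc, hinv, mul_one, smul_mul_assoc, mul_smul_comm, ← mul_assoc J⁻¹ J,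
      Matrix.nonsing_inv_mul J hJ.isUnit, one_mul] at h4
    rw [adj, ← h4]
    simp only [mul_assoc]
  have hs1 : s = 1 := by
    have h4 := congrArg (adj K J) hinv
    rw [hJ.adj_mul, hJ.adj_one, h3, smul_mul_smul_comm, hinv] at h4
    have h5 := congrFun₂ h4 (0 : Fin m) 0
    rw [Matrix.smul_apply, Matrix.one_apply_eq, smul_eq_mul, mul_one] at h5
    exact sub_eq_zero.1 (mul_self_eq_zero.1 (show (s - 1) * (s - 1) = 0 by linear_combination h5 - (s - 1) * h2))
  rw [hs1, one_smul, hJ.adj_add, hJ.adj_one, add_right_inj] at h3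
  obtain ⟨y, hy⟩ : ∃ y, ν *ᵥ y ≠ 0 := by
    by_contra hh
    push Not at hh
    exact hν0 (Matrix.ext_of_mulVec_single fun a => by rw [hh, Matrix.zero_mulVec])
  refine ⟨ν *ᵥ y, hy, ?_, by rw [Matrix.mulVec_mulVec, hν, Matrix.zero_mulVec], ?_⟩
  · rw [hJ.dot_adj, h3, Matrix.mulVec_mulVec, hν, Matrix.zero_mulVec, TensorUnitary.ph_zero, zero_dotProduct]
  · rw [hJ.ph_vecMul, h3, Matrix.mulVec_mulVec, hν, Matrix.zero_mulVec, TensorUnitary.ph_zero]

namespace Ctx

/-- Every root is conjugate to a given conjugate inside the group they generate. -/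
theorem odd_pair (C : Ctx K J M) (h2 : (2 : F) = 0) {k y : GL (Ix τ m) F} (hk : RootConj K J M k) (hkm : ¬ Mono k.1)
    {l : τ} {Y : Matrix (Ix τ m) (Ix τ m) F} (hY : URoot K J l Y) (hyM : y ∈ M) (hyv : y.1 = 1 + Y) :
    ∃ d ∈ Subgroup.closure ({k, y} : Set (GL (Ix τ m) F)), y = d * k * d⁻¹ := by
  haveI := C.hyp.neZero
  have hJ := C.hyp.hJ
  have hyR := rootConj_of_root hY hyM hyv
  have hy2 := hyR.sq hJ h2
  rcases dihedral_cases (hk.sq hJ h2) hy2 with h | ⟨w, hw, hww, hw1, hwk, hwy, hcases⟩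
  · exact h
  exfalso
  have hcl := closure_pair_le hk.mem hyM
  have hr : RootConj K J M (w * y) := by
    rcases hcases with ⟨-, ⟨c, hc, e⟩⟩ | ⟨-, ⟨c, hc, e⟩⟩
    · exact e ▸ hyR.conj (hcl hc)
    · exact e ▸ hk.conj (hcl hc)
  have hry : w * y * y = y * (w * y) := by rw [← mul_assoc y, ← hwy]
  obtain ⟨o, R, hR, hrv⟩ := C.root_of_commute hr hY hyv hry
  have e : y * (w * y) = w := by rw [← hry, mul_assoc, hy2, mul_one]
  exact hkm (C.mono_of_commute_two h2 hY hR hyM hyv hrv hry.symm (e.symm ▸ hw1) hk.mem (by rw [e, hwk]))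

/-- A pure involution with a root as a component is centralised only by monomial conjugates of roots. -/
theorem not_single (C : Ctx K J M) (h2 : (2 : F) = 0) {f : τ → Matrix (Fin m) (Fin m) F} (hf : ∀ o, f o * f o = 1)
    {l : τ} {u : Fin m → F} {c : F} (hu0 : u ≠ 0) (hu : ph K J u ⬝ᵥ u = 0) (hc0 : c ≠ 0) (hc : K.bar c = c)
    (hfl : f l = 1 + c • nu K J u) {z k : GL (Ix τ m) F} (hzv : z.1 = pureM f) (hk : RootConj K J M k)
    (hkm : ¬ Mono k.1) (hkz : k * z = z * k) : False := by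
  haveI := C.hyp.neZero
  have hJ := C.hyp.hJ
  have hm := C.hyp.three
  obtain ⟨u', c', hu'0, hu', hc'0, hc', huu, hne⟩ : ∃ (u' : Fin m → F) (c' : F), u' ≠ 0 ∧ ph K J u' ⬝ᵥ u' = 0 ∧
      c' ≠ 0 ∧ K.bar c' = c' ∧ ph K J u ⬝ᵥ u' = 0 ∧ c • nu K J u ≠ c' • nu K J u' := by
    by_cases h4 : 4 ≤ m
    · obtain ⟨a, v, haa, -, ua, -, -, ha, -⟩ := exists_plane hJ h4 hu0 hu
      exact ⟨a, 1, fun e => ha 0 (by rw [e, zero_smul]), haa, one_ne_zero, map_one _, ua, nu_ne hJ hu0 ha one_ne_zero⟩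
    · obtain ⟨r₀, hr₀, hr₀0, hr₀1⟩ := TensorUnitary.exists_real K (fun e => by have := C.hyp.hex e; omega)
      refine ⟨u, c * r₀, hu0, hu, mul_ne_zero hc0 hr₀0, by rw [map_mul, hc, hr₀], hu, fun e => hr₀1 ?_⟩
      have h5 := smul_left_injective F (nu_ne_zero hJ hu0) e
      rw [mul_left_cancel₀ hc0 (show c * r₀ = c * 1 by rw [mul_one, ← h5]), one_mul, sub_self]
  have hX := uRoot_mk hu0 hu hc0 (skew_of_real h2 hc) l
  have hY := uRoot_mk hu'0 hu' hc'0 (skew_of_real h2 hc') l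
  obtain ⟨x, hxM, hxv, -⟩ := C.exists_root hX
  obtain ⟨y, hyM, hyv, -⟩ := C.exists_root hY
  have comm : ∀ {b : Matrix (Fin m) (Fin m) F} {w : GL (Ix τ m) F}, w.1 = 1 + embM l b → f l * b = b * f l →
      w * z = z * w := fun hwv hb => ((commute_val_iff hwv).2 (by rw [hzv]; exact (embM_comm_pure hb).symm)).symm
  have hxz : x * z = z * x := comm hxv (by rw [hfl, mul_add, add_mul, mul_one, one_mul])
  have hyz : y * z = z * y := comm hyv (by
    rw [hfl, mul_add, add_mul, mul_one, one_mul, smul_mul_smul_comm, smul_mul_smul_comm, nu, nu,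
      Matrix.vecMulVec_mul_vecMulVec, Matrix.vecMulVec_mul_vecMulVec, huu, hJ.orth_comm huu]
    simp)
  obtain ⟨d, hd, hdx⟩ := C.odd_pair h2 hk hkm hX hxM hxv
  obtain ⟨d', hd', hdy⟩ := C.odd_pair h2 hk hkm hY hyM hyv
  obtain ⟨e, he⟩ : ∃ e, e = d' * d⁻¹ := ⟨_, rfl⟩
  have heM : e ∈ M := he ▸ M.mul_mem (closure_pair_le hk.mem hyM hd') (M.inv_mem (closure_pair_le hk.mem hxM hd))
  have hez : e * z = z * e := he ▸ (Commute.mul_left (mem_centralizer_of_closure hkz hyz hd' : Commute d' z)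
    (Commute.inv_left (mem_centralizer_of_closure hkz hxz hd : Commute d z))).eq
  have hexy : e * x * e⁻¹ = y := by rw [hdx, hdy, he]; group
  have hem : Mono e.1 := C.mono_of_mono_image heM hX hxv (by
    rw [hexy, hyv, ← embM_one (F := F) (m := m) l, ← embM_add]; exact mono_pure _)
  have h6 := (component_move hm h2 hem hf (by rw [← hzv, ← Units.val_mul, hez, Units.val_mul])
    (smul_nu_ne_scalar hJ hu0 hu hc0) (by
      have := congrArg Units.val (mul_inv_eq_iff_eq_mul.1 hexy)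
      rwa [Units.val_mul, Units.val_mul, hxv, hyv, mul_add, mul_one, add_mul, one_mul, add_right_inj] at this)).1 hfl
  exact hne (add_left_cancel (hfl.symm.trans h6))

set_option maxHeartbeats 1000000 in
/-- The characteristic two case. -/
theorem allMono_even (C : Ctx K J M) (h2 : (2 : F) = 0) {g : GL (Ix τ m) F} (hg : g ∈ M) : Mono g.1 := by
  haveI := C.hyp.neZero
  have hJ := C.hyp.hJ
  have hm := C.hyp.three
  by_contra hgm
  obtain ⟨i, j, hij⟩ := Fintype.exists_pair_of_one_lt_card (show 1 < Fintype.card τ by have := C.two; omega)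
  obtain ⟨u, hu0, hu, -⟩ := hJ.exists_iso_perp (fun x : Fin 0 => x.elim0) (by simp only [Fintype.card_fin]; omega)
  have hs1 : (1 : F) + K.bar 1 = 0 := skew_of_real h2 (map_one _)
  obtain ⟨a, ha⟩ : ∃ a, a = (1 : F) • nu K J u := ⟨_, rfl⟩
  have hXi : URoot K J i (embM i a) := ha ▸ uRoot_mk hu0 hu one_ne_zero hs1 i
  have hXj : URoot K J j (embM j a) := ha ▸ uRoot_mk hu0 hu one_ne_zero hs1 j
  have ha2 : a * a = 0 := by rw [ha]; exact smul_nu_sq hu 1 1
  have hans : ∀ s : F, a ≠ s • 1 := fun s => ha ▸ smul_nu_ne_scalar hJ hu0 hu one_ne_zero s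
  have h1a : 1 + a ≠ 1 := fun e => hans 0 (by rw [zero_smul]; exact add_eq_left.1 e)
  obtain ⟨x, hxM, hxv, hxm⟩ := C.exists_root hXi
  obtain ⟨x', hxM', hxv', hxm'⟩ := C.exists_root hXj
  have hx2 := TensorWreath.Ctx.invol_sq h2 hxv (hXi.sq_zero hJ)
  have hx2' := TensorWreath.Ctx.invol_sq h2 hxv' (hXj.sq_zero hJ)
  have hxx : x * x' = x' * x := (commute_val_iff hxv').2 (by
    rw [hxv, mul_add, add_mul, one_mul, mul_one, embM_comm hij])
  obtain ⟨k, hk⟩ : ∃ k, k = g * x * g⁻¹ := ⟨_, rfl⟩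
  have hkR : RootConj K J M k := hk ▸ (rootConj_of_root hXi hxM hxv).conj hg
  have hkm : ¬ Mono k.1 := fun h => hgm (C.mono_of_mono_image hg hXi hxv (hk ▸ h))
  obtain ⟨f, hfd⟩ : ∃ f : τ → Matrix (Fin m) (Fin m) F, f = Function.update (1 : τ → Matrix (Fin m) (Fin m) F) i (1 + a) *
      Function.update (1 : τ → Matrix (Fin m) (Fin m) F) j (1 + a) := ⟨_, rfl⟩
  have hfi : f i = 1 + a := by simp [hfd, hij]
  have hfj : f j = 1 + a := by simp [hfd, Ne.symm hij]
  have hfo : ∀ o, o ≠ i → o ≠ j → f o = 1 := fun o p r => by simp [hfd, p, r]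
  have hf : ∀ o, f o * f o = 1 := fun o => by
    by_cases p : o = i
    · subst p; rw [hfi]; exact two_mul_one_add_sq h2 ha2
    by_cases r : o = j
    · subst r; rw [hfj]; exact two_mul_one_add_sq h2 ha2
    rw [hfo o p r, mul_one]
  obtain ⟨w, hw⟩ : ∃ w, w = x * x' := ⟨_, rfl⟩
  have hwv : w.1 = pureM f := by
    rw [hw, Units.val_mul, hxv, hxv', ← embM_one (F := F) (m := m) i, ← embM_add]
    rw [embM_one, ← embM_one (F := F) (m := m) j, ← embM_add, embM, embM, pureM_mul, hfd]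
  have hw1 : w ≠ 1 := fun e => by
    rw [e, Units.val_one] at hwv
    obtain ⟨c, hc⟩ := (eq_one_of_pure_perm hm (g := f) (π := 1) (by rw [permM_one, mul_one, ← hwv])).2 i
    rw [hfi] at hc
    exact hans (c - 1) (by rw [sub_smul, one_smul, ← hc, add_sub_cancel_left])
  have hwM : w ∈ M := hw ▸ M.mul_mem hxM hxM'
  have hwm : Mono w.1 := hwv ▸ mono_pure _
  have hw2 : w * w = 1 := by rw [hw, mul_assoc, ← mul_assoc x', ← hxx, mul_assoc x, hx2', mul_one, hx2]
  have hPw : ∀ e ∈ M, e * w = w * e → Mono e.1 := fun e he h =>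
    C.mono_of_commute_two h2 hXi hXj hxM hxv hxv' hxx (hw ▸ hw1) he (hw ▸ h)
  rcases dihedral_cases (hkR.sq hJ h2) hw2 with ⟨c, hc, hcw⟩ | ⟨z, hz, hzz, hz1, hzk, hzw, hcases⟩
  · obtain ⟨o, R, hR, hRv⟩ := C.root_of_mono (hcw ▸ hkR.conj (closure_pair_le hkR.mem hwM hc)) hwm
    obtain ⟨b, -, -, -, hbv, -⟩ := root_pure hJ h2 hR
    rw [hwv, hbv] at hRv
    have e1 : pureM (f * Function.update (1 : τ → Matrix (Fin m) (Fin m) F) o (1 + b)) *
        permM F m (1 : Equiv.Perm τ) = 1 := by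
      rw [permM_one, mul_one, ← pureM_mul, ← hRv, pureM_mul, ← pureM_one (τ := τ) (m := m) (F := F)]
      exact congrArg pureM (funext hf)
    obtain ⟨l, hlo, hl⟩ : ∃ l, l ≠ o ∧ f l = 1 + a := by
      by_cases p : o = i
      · exact ⟨j, fun e => hij (p.symm.trans e.symm), hfj⟩
      · exact ⟨i, Ne.symm p, hfi⟩
    obtain ⟨s, hs⟩ := (eq_one_of_pure_perm hm e1).2 l
    rw [Pi.mul_apply, Function.update_of_ne hlo, Pi.one_apply, mul_one, hl] at hs
    exact hans (s - 1) (by rw [sub_smul, one_smul, ← hs, add_sub_cancel_left])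
  have hcl := closure_pair_le hkR.mem hwM
  have hzM : z ∈ M := hcl hz
  have hzm : Mono z.1 := hPw z hzM hzw
  rcases hcases with ⟨⟨c, hc, hck⟩, -⟩ | ⟨-, ⟨c, hc, hcw⟩⟩
  swap
  · -- a third root
    obtain ⟨r, hr⟩ : ∃ r, r = z * w := ⟨_, rfl⟩
    have hrR : RootConj K J M r := hr ▸ hcw ▸ hkR.conj (hcl hc)
    obtain ⟨o, R, hR, hrv⟩ := C.root_of_mono hrR (hr ▸ (by rw [Units.val_mul]; exact hzm.mul hwm))
    obtain ⟨b, -, -, -, hbv, hbsq⟩ := root_pure hJ h2 hR
    rw [hbv] at hrv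
    have hzv : z.1 = pureM (Function.update (1 : τ → Matrix (Fin m) (Fin m) F) o (1 + b) * f) := by
      rw [← pureM_mul, ← hrv, ← hwv, ← Units.val_mul, hr, mul_assoc, hw2, mul_one]
    have hsq := pure_mul_sq hm h2 hbsq hf (by
      rw [← hrv, ← hwv, ← Units.val_mul, ← Units.val_mul, hr, ← mul_assoc w, ← hzw])
    obtain ⟨l, hlo, hl⟩ : ∃ l, l ≠ o ∧ f l = 1 + a := by
      by_cases p : o = i
      · exact ⟨j, fun e => hij (p.symm.trans e.symm), hfj⟩
      · exact ⟨i, Ne.symm p, hfi⟩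
    exact C.not_single h2 hsq hu0 hu one_ne_zero (map_one _)
      (by rw [Pi.mul_apply, Function.update_of_ne hlo, Pi.one_apply, one_mul, hl, ha]) hzv hkR hkm hzk.symm
  -- the centraliser of the involution is in a conjugate of the monomial group
  obtain ⟨r, hr⟩ : ∃ r, r = g⁻¹ * (z * k) * g := ⟨_, rfl⟩
  have hrx : r * x = x * r := by
    rw [hr, show g⁻¹ * (z * k) * g * x = g⁻¹ * (z * k * k) * g by rw [hk]; group,
      show x * (g⁻¹ * (z * k) * g) = g⁻¹ * (k * (z * k)) * g by rw [hk]; group, ← mul_assoc k, ← hzk]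
  have hrR : RootConj K J M r := by
    have := (hck ▸ hkR.conj (hcl hc) : RootConj K J M (z * k)).conj (M.inv_mem hg)
    rwa [inv_inv, ← hr] at this
  obtain ⟨b, R, hR, hrv⟩ := C.root_of_commute hrR hXi hxv hrx
  obtain ⟨w0, hw0⟩ : ∃ w0, w0 = x * r := ⟨_, rfl⟩
  have hgz : g⁻¹ * z * g = w0 := by
    rw [hw0, ← hrx, hr, show g⁻¹ * (z * k) * g * x = g⁻¹ * (z * (k * k)) * g by rw [hk]; group, hkR.sq hJ h2, mul_one]
  have hw01 : w0 ≠ 1 := fun e => hz1 (by
    rw [show z = g * (g⁻¹ * z * g) * g⁻¹ by group, hgz, e]; group)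
  have hpull : ∀ e ∈ M, e * z = z * e → Mono (g⁻¹ * e * g).1 := fun e he h =>
    C.mono_of_commute_two h2 hXi hR hxM hxv hrv hrx.symm (hw0 ▸ hw01) (M.mul_mem (M.mul_mem (M.inv_mem hg) he) hg) (by
      rw [← hw0, ← hgz, show g⁻¹ * e * g * (g⁻¹ * z * g) = g⁻¹ * (e * z) * g by group, h]; group)
  have hno : ∀ (o : τ) (Y : Matrix (Ix τ m) (Ix τ m) F) (y : GL (Ix τ m) F), URoot K J o Y → y ∈ M → y.1 = 1 + Y →
      y * z ≠ z * y := fun o Y y hY hyM hyv h => hgm (inv_inv g ▸ mono_inv (C.mono_of_mono_image (M.inv_mem hg) hY hyv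
        (by rw [inv_inv]; exact hpull y hyM h)))
  obtain ⟨h, σ, hzv⟩ := hzm
  have hzd : (pureM h * permM F m σ).det ≠ 0 := by
    rw [← hzv]; exact ((Matrix.isUnit_iff_isUnit_det _).1 z.isUnit).ne_zero
  have hzd' : (pureM h).det ≠ 0 := fun h0 => hzd (by rw [Matrix.det_mul, h0, zero_mul])
  have hcompz := components hm h2 hzd hf (by
    rw [← hzv, ← hwv, ← Units.val_mul, hzw, Units.val_mul]) i
  have hσj : σ i = j := by
    by_contra hne
    by_cases hi : σ i = i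
    · rw [hi, hfi, mul_add, add_mul, mul_one, one_mul, add_right_inj] at hcompz
      refine hno i _ x hXi hxM hxv ((commute_val_iff hxv).2 ?_).symm
      rw [hzv, mono_mul_embM (g' := fun o => (h o)⁻¹) σ i (nonsing_inv_of_pureM hzd' _), hi, hcompz, mul_assoc a,
        nonsing_inv_of_pureM hzd' i, mul_one]
    · rw [hfo _ hi hne, one_mul, hfi, mul_add, mul_one, add_eq_left] at hcompz
      have h7 := congrArg ((h (σ i))⁻¹ * ·) hcompz
      simp only [← mul_assoc, mul_eq_one_comm.1 (nonsing_inv_of_pureM hzd' (σ i)), one_mul, mul_zero] at h7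
      exact hans 0 (by rw [zero_smul]; exact h7)
  obtain ⟨v, uv, vu, vv⟩ := hJ.exists_dual hu hu0
  obtain ⟨p, up, -, pp⟩ := hJ.exists_aniso (by simp only [Fintype.card_fin]; omega) hu vv uv
  obtain ⟨κ, hκ⟩ := hJ.exists_k p
  obtain ⟨Tm, hTm⟩ : ∃ Tm, Tm = trl K J u p κ := ⟨_, rfl⟩
  obtain ⟨T, hTM, hTv⟩ := C.hyp.inM_embM i (hTm ▸ hJ.iso_trl hu up hκ) (hTm ▸ hJ.det_trl hu up κ)
  obtain ⟨B, hB⟩ : ∃ B, B = z * T * z := ⟨_, rfl⟩
  have hBv : B.1 = embM j (h j * Tm * (h j)⁻¹) := by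
    rw [hB, Units.val_mul, Units.val_mul, hzv, hTv, mono_mul_embM (g' := fun o => (h o)⁻¹) σ i
      (nonsing_inv_of_pureM hzd' _), hσj, mul_assoc, ← hzv, ← Units.val_mul, hzz, Units.val_one, mul_one]
  have hTB : T * B = B * T := Units.ext (by rw [Units.val_mul, Units.val_mul, hTv, hBv, embM_comm hij])
  obtain ⟨y, hy⟩ : ∃ y, y = T * T := ⟨_, rfl⟩
  have hYy : URoot K J i (embM i ((ph K J p ⬝ᵥ p) • nu K J u)) :=
    uRoot_mk hu0 hu pp (skew_of_real h2 (hJ.self_real p)) i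
  have hyv : y.1 = 1 + embM i ((ph K J p ⬝ᵥ p) • nu K J u) := by
    rw [hy, Units.val_mul, hTv, embM_mul, ← embM_one (F := F) (m := m) i, ← embM_add]
    congr 1
    rw [hTm, trl, add_sub_assoc, add_assoc, one_add_sq h2, add_right_inj]
    simp only [nu, sub_eq_add_neg, neg_eq_two h2, mul_add, add_mul, Matrix.vecMulVec_mul_vecMulVec, smul_mul_assoc,
      mul_smul_comm, hu, up, hJ.orth_comm up, zero_smul, Matrix.vecMulVec_zero, smul_zero, add_zero, zero_add,
      Matrix.vecMulVec_smul]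
  have hyM : y ∈ M := hy ▸ M.mul_mem hTM hTM
  have hy' : RootConj K J M (z * y * z⁻¹) := (rootConj_of_root hYy hyM hyv).conj hzM
  have hy'm : Mono (z * y * z⁻¹).1 := by
    rw [Units.val_mul, Units.val_mul]
    refine Mono.mul (Mono.mul ⟨h, σ, hzv⟩ ?_) (mono_inv ⟨h, σ, hzv⟩)
    rw [hyv, ← embM_one (F := F) (m := m) i, ← embM_add]; exact mono_pure _
  obtain ⟨o, Y', hY', hy'v⟩ := C.root_of_mono hy' hy'm
  obtain ⟨e0, he0⟩ : ∃ e0, e0 = T * B := ⟨_, rfl⟩
  have hzi : z⁻¹ = z := inv_eq_of_mul_eq_one_right hzz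
  have he0M : e0 ∈ M := he0 ▸ hB ▸ M.mul_mem hTM (M.mul_mem (M.mul_mem hzM hTM) hzM)
  have he0z : e0 * z = z * e0 := by
    have h1 : z * e0 = B * T * z := by
      rw [he0, hB, mul_assoc (z * T) z T, mul_assoc (z * T) (z * T) z]
      simp only [← mul_assoc]
    rw [h1, ← hTB, he0]
  have hBB : z * y * z⁻¹ = B * B := by
    rw [hB, hy, hzi]; simp only [mul_assoc, ← mul_assoc z z, hzz, one_mul]
  have hee : e0 * e0 = y * (z * y * z⁻¹) := by
    rw [hBB, hy, he0, mul_assoc T B, ← mul_assoc B T, ← hTB]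
    simp only [mul_assoc]
  have hyy' : y * (z * y * z⁻¹) = z * y * z⁻¹ * y := by
    rw [hBB, hy]
    exact ((Commute.mul_left (Commute.mul_right hTB hTB) (Commute.mul_right hTB hTB))).eq
  have hW1 : y * (z * y * z⁻¹) ≠ 1 := fun e => hno i _ y hYy hyM hyv (by
    have h5 : y * y = 1 := TensorWreath.Ctx.invol_sq h2 hyv (hYy.sq_zero hJ)
    have h6 : z * y * z⁻¹ = y := mul_left_cancel (e.trans h5.symm)
    exact (mul_inv_eq_iff_eq_mul.1 h6).symm)
  -- the image fixes a factor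
  obtain ⟨η, π, hev⟩ := hpull e0 he0M he0z
  obtain ⟨n, hn0, hn2, -, hnv, hnsq⟩ := root_pure hJ h2 hR
  obtain ⟨fw, hfw⟩ : ∃ fw : τ → Matrix (Fin m) (Fin m) F, fw = Function.update (1 : τ → Matrix (Fin m) (Fin m) F) i (1 + a) *
      Function.update (1 : τ → Matrix (Fin m) (Fin m) F) b (1 + n) := ⟨_, rfl⟩
  have hxp : x.1 = pureM (Function.update (1 : τ → Matrix (Fin m) (Fin m) F) i (1 + a)) := by
    rw [hxv, ← embM_one (F := F) (m := m) i, ← embM_add]; rfl
  have hxsq : ∀ o, Function.update (1 : τ → Matrix (Fin m) (Fin m) F) i (1 + a) o *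
      Function.update (1 : τ → Matrix (Fin m) (Fin m) F) i (1 + a) o = 1 := fun o => by
    by_cases ho : o = i
    · subst ho; rw [Function.update_self]; exact two_mul_one_add_sq h2 ha2
    · rw [Function.update_of_ne ho, Pi.one_apply, mul_one]
  rw [hnv] at hrv
  have hfwv : w0.1 = pureM fw := by rw [hw0, Units.val_mul, hxp, hrv, pureM_mul, hfw]
  have hfwsq : ∀ o, fw o * fw o = 1 := hfw ▸ pure_mul_sq hm h2 hxsq hnsq (by
    rw [← hxp, ← hrv, ← Units.val_mul, ← Units.val_mul, hrx])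
  have hsupp : ∀ o, fw o ≠ 1 → o = i ∨ o = b := fun o ho => by
    by_contra hh
    push Not at hh
    exact ho (by simp [hfw, hh.1, hh.2])
  have hfwi : fw i ≠ 1 := fun e => by
    by_cases hbi : b = i
    · refine hw01 (Units.ext ?_)
      rw [hfwv, Units.val_one, ← pureM_one (τ := τ) (m := m) (F := F)]
      refine congrArg pureM (funext fun o => ?_)
      by_cases ho : o = i
      · subst ho; exact e
      · by_contra h8; rcases hsupp o h8 with h9 | h9
        · exact ho h9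
        · exact ho (h9.trans hbi)
    · rw [hfw, Pi.mul_apply, Function.update_self, Function.update_of_ne (Ne.symm hbi), Pi.one_apply, mul_one] at e
      exact h1a e
  have hed : (pureM η * permM F m π).det ≠ 0 := by
    rw [← hev]; exact ((Matrix.isUnit_iff_isUnit_det _).1 (g⁻¹ * e0 * g).isUnit).ne_zero
  have hed' : (pureM η).det ≠ 0 := fun h0 => hed (by rw [Matrix.det_mul, h0, zero_mul])
  have hcompe := components hm h2 hed hfwsq (by
    rw [← hev, ← hfwv, ← Units.val_mul, ← Units.val_mul, ← hgz,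
      show g⁻¹ * e0 * g * (g⁻¹ * z * g) = g⁻¹ * (e0 * z) * g by group, he0z]
    group)
  have hmove : ∀ o, fw o ≠ 1 → fw (π o) ≠ 1 := fun o ho e => ho (by
    have h7 := congrArg ((η (π o))⁻¹ * ·) (hcompe o)
    simp only [e, one_mul, ← mul_assoc, mul_eq_one_comm.1 (nonsing_inv_of_pureM hed' (π o))] at h7
    exact h7)
  have hππ : (π * π) i = i := by
    rw [Equiv.Perm.mul_apply]
    rcases hsupp _ (hmove i hfwi) with h8 | h8
    · rw [h8, h8]
    · by_cases hbi : b = i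
      · rw [h8, hbi, h8, hbi]
      · rcases hsupp _ (hmove _ (hmove i hfwi)) with h9 | h9
        · exact h9
        · exact absurd (π.injective (h9.trans h8.symm)) (by rw [h8]; exact hbi)
  obtain ⟨W, hW⟩ : ∃ W, W = y * (z * y * z⁻¹) := ⟨_, rfl⟩
  have hWM : W ∈ M := hW ▸ M.mul_mem hyM hy'.mem
  obtain ⟨e1, he1⟩ : ∃ e1, e1 = g⁻¹ * W * g := ⟨_, rfl⟩
  have hW2 : W * W = 1 := by
    have q1 := TensorWreath.Ctx.invol_sq h2 hyv (hYy.sq_zero hJ)
    have q2 := hy'.sq hJ h2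
    rw [hW, mul_assoc, ← mul_assoc (z * y * z⁻¹), ← hyy', mul_assoc y, q2, mul_one, q1]
  have he1v : e1.1 = pureM (η * fun o => η (π.symm o)) * permM F m (π * π) := by
    rw [← mono_mul_self, ← hev, ← Units.val_mul, he1, hW, ← hee]
    congr 1
    group
  obtain ⟨Y0, hY0, hY0c⟩ := exists_root_commute_invol C h2
    (e := e1) (he1 ▸ M.mul_mem (M.mul_mem (M.inv_mem hg) hWM) hg)
    (by rw [he1, show g⁻¹ * W * g * (g⁻¹ * W * g) = g⁻¹ * (W * W) * g by group, hW2]; group) he1v hππ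
  obtain ⟨y0, hy0M, hy0v, -⟩ := C.exists_root hY0
  have hc0 : e1 * y0 = y0 * e1 := (commute_val_iff hy0v).2 hY0c
  have hWc : g * y0 * g⁻¹ * W = W * (g * y0 * g⁻¹) := by
    rw [show g * y0 * g⁻¹ * W = g * (y0 * e1) * g⁻¹ by rw [he1]; group, ← hc0, he1]; group
  exact hgm (C.mono_of_mono_image hg hY0 hy0v (C.mono_of_commute_two h2 hYy hY' hyM hyv hy'v hyy' hW1
    (M.mul_mem (M.mul_mem hg hy0M) (M.inv_mem hg)) (hW ▸ hWc)))

end Ctx

end CfsgLib.Classical.TensorWreathU
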