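import Cfsg.Agent.Lib.Classical.TensorWreath.Pairs
import Cfsg.Agent.Lib.Classical.TensorUnitary.Root

set_option autoImplicit false
set_option linter.unusedSectionVars false

/-!
Tensor powers of a Hermitian space: the form, the setting, and the view as a product of the other factors with
one factor.
-/

namespace CfsgLib.Classical.TensorWreathU

open Matrix CfsgLib.Classical.TensorWreath
open CfsgLib.Classical.TensorUnitary (cj cj_apply cj_mul cj_one cj_kron cj_det ph ph_dot IsHerm Iso adj tau trl Rk Zm)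
open CfsgLib.Classical.TensorMax (Tens kc kr)
open CfsgLib.ClassicalAut (Unitary.Conj)
open scoped MatrixGroups Kronecker

variable {F : Type*} [Field F] [Finite F] {q : ℕ} (K : Unitary.Conj F q)
variable {τ : Type} [Fintype τ] [DecidableEq τ] {m : ℕ}

/-- The matrix of the tensor power of the form. -/
abbrev JJ (J : Matrix (Fin m) (Fin m) F) (τ : Type) [Fintype τ] [DecidableEq τ] : Matrix (Ix τ m) (Ix τ m) F :=
  pureM fun _ : τ => J

theorem cj_pureM (g : τ → Matrix (Fin m) (Fin m) F) : cj K (pureM g) = pureM fun j => cj K (g j) := by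
  ext x y
  simp [cj_apply, pureM_apply, map_prod]

theorem cj_permM (σ : Equiv.Perm τ) : cj K (permM F m σ) = permM F m σ⁻¹ := by
  ext x y
  simp only [cj_apply, permM, Matrix.of_apply]
  have h : (x = y ∘ σ) ↔ (y = x ∘ (σ⁻¹ : Equiv.Perm τ)) := by
    constructor <;> rintro rfl <;> ext j <;> simp
  by_cases hx : x = y ∘ σ
  · rw [if_pos hx, if_pos (h.1 hx), map_one]
  · rw [if_neg hx, if_neg (fun e => hx (h.2 e)), map_zero]

theorem iso_permM (J : Matrix (Fin m) (Fin m) F) (σ : Equiv.Perm τ) : Iso K (JJ J τ) (permM F m σ) := by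
  show cj K (permM F m σ) * JJ J τ * permM F m σ = JJ J τ
  rw [cj_permM, permM_mul_pureM, Matrix.mul_assoc, permM_inv_mul, Matrix.mul_one]

theorem iso_pureM {J : Matrix (Fin m) (Fin m) F} {g : τ → Matrix (Fin m) (Fin m) F} (h : ∀ j, Iso K J (g j)) :
    Iso K (JJ J τ) (pureM g) := by
  show cj K (pureM g) * JJ J τ * pureM g = JJ J τ
  rw [cj_pureM, pureM_mul, pureM_mul]
  exact congrArg pureM (funext fun j => h j)

variable {K} {J : Matrix (Fin m) (Fin m) F}

theorem iso_embM (hJ : IsHerm K J) {b : Matrix (Fin m) (Fin m) F} (hb : Iso K J b) (i : τ) :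
    Iso K (JJ J τ) (embM i b) := by
  refine iso_pureM K fun j => ?_
  by_cases h : j = i
  · subst h; rw [Function.update_self]; exact hb
  · rw [Function.update_of_ne h]; exact hJ.iso_one

theorem herm_JJ (hJ : IsHerm K J) (τ : Type) [Fintype τ] [DecidableEq τ] : IsHerm K (JJ J τ) where
  herm := by rw [cj_pureM, hJ.herm]
  det_ne := by
    intro h0
    have e : JJ J τ * pureM (fun _ : τ => J⁻¹) = 1 := by
      rw [pureM_mul]
      convert pureM_one (F := F) (τ := τ) (m := m) using 2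
      funext j
      exact Matrix.mul_nonsing_inv J hJ.isUnit
    have := congrArg Matrix.det e
    rw [Matrix.det_mul, h0, zero_mul, Matrix.det_one] at this
    exact zero_ne_one this

/-- The inverse of an isometry. -/
theorem iso_inv {γ : Type} [Fintype γ] [DecidableEq γ] {W : Matrix γ γ F} {g : GL γ F} (hg : Iso K W g.1) :
    Iso K W (g⁻¹).1 := by
  have h : cj K g.1 * W * g.1 = W := hg
  show cj K (g⁻¹).1 * W * (g⁻¹).1 = W
  calc cj K (g⁻¹).1 * W * (g⁻¹).1 = cj K (g⁻¹).1 * (cj K g.1 * W * g.1) * (g⁻¹).1 := by rw [h]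
    _ = cj K (g.1 * (g⁻¹).1) * W * (g.1 * (g⁻¹).1) := by rw [cj_mul]; simp only [Matrix.mul_assoc]
    _ = W := by rw [g.mul_inv, cj_one, Matrix.one_mul, Matrix.mul_one]

theorem iso_mul {γ : Type} [Fintype γ] [DecidableEq γ] {W A B : Matrix γ γ F} (hA : Iso K W A) (hB : Iso K W B) :
    Iso K W (A * B) := by
  have h1 : cj K A * W * A = W := hA
  have h2 : cj K B * W * B = W := hB
  show cj K (A * B) * W * (A * B) = W
  rw [cj_mul]
  calc cj K B * cj K A * W * (A * B) = cj K B * (cj K A * W * A) * B := by simp only [Matrix.mul_assoc]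
    _ = W := by rw [h1, h2]

variable (K)

/-- An intermediate group. -/
structure Hyp (J : Matrix (Fin m) (Fin m) F) (M : Subgroup (GL (Ix τ m) F)) : Prop where
  hJ : IsHerm K J
  three : 3 ≤ m
  hex : q = 2 → 4 ≤ m
  le : ∀ g ∈ M, Iso K (JJ J τ) g.1 ∧ g.1.det = 1
  mono : ∀ g : GL (Ix τ m) F, Iso K (JJ J τ) g.1 → g.1.det = 1 → Mono g.1 → g ∈ M

/-- The group contains all of the special unitary group. -/
def Top (J : Matrix (Fin m) (Fin m) F) (M : Subgroup (GL (Ix τ m) F)) : Prop :=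
  ∀ g : GL (Ix τ m) F, Iso K (JJ J τ) g.1 → g.1.det = 1 → g ∈ M

/-- A transvection of the factor `i`, minus one. -/
def URoot (J : Matrix (Fin m) (Fin m) F) (i : τ) (X : Matrix (Ix τ m) (Ix τ m) F) : Prop :=
  ∃ (u : Fin m → F) (c : F), u ≠ 0 ∧ ph K J u ⬝ᵥ u = 0 ∧ c ≠ 0 ∧ c + K.bar c = 0 ∧
    X = embM i (c • Matrix.vecMulVec u (ph K J u))

variable {K} {M : Subgroup (GL (Ix τ m) F)}

theorem Hyp.inM (H : Hyp K J M) {X : Matrix (Ix τ m) (Ix τ m) F} (hI : Iso K (JJ J τ) X) (hd : X.det = 1)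
    (hX : Mono X) : InM M X :=
  ⟨glOf X hd, H.mono _ hI hd hX, rfl⟩

theorem Hyp.neZero (H : Hyp K J M) : NeZero m := ⟨by have := H.three; omega⟩

theorem Hyp.inM_embM (H : Hyp K J M) (i : τ) {b : Matrix (Fin m) (Fin m) F} (hb : Iso K J b) (hd : b.det = 1) :
    InM M (embM i b) :=
  H.inM (iso_embM H.hJ hb i) (by rw [det_embM, hd, one_pow]) (mono_pure _)

theorem URoot.rootAt (hJ : IsHerm K J) {i : τ} {X : Matrix (Ix τ m) (Ix τ m) F} (h : URoot K J i X) : RootAt i X := by
  obtain ⟨u, c, hu, hu0, hc, -, rfl⟩ := h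
  refine ⟨c • u, ph K J u, smul_ne_zero hc hu, hJ.ph_ne hu, by rw [dotProduct_smul, hu0, smul_zero], ?_⟩
  rw [Matrix.smul_vecMulVec]

theorem Hyp.inM_uRoot (H : Hyp K J M) {i : τ} {X : Matrix (Ix τ m) (Ix τ m) F} (h : URoot K J i X) :
    InM M (1 + X) := by
  obtain ⟨u, c, -, hu0, -, hc, rfl⟩ := h
  rw [← embM_one (F := F) (m := m) i, ← embM_add]
  exact H.inM_embM i (H.hJ.iso_tau hu0 hc) (TensorUnitary.det_tau K hu0 c)

/-! ### The view at a factor -/

/-- The view at the factor `i`. -/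
def two (i : τ) : GL (Ix τ m) F ≃* GL (Ix (Rest i) m × Fin m) F := Cfsg.Geo.glReindex (F := F) (spl i)

/-- Back from the view. -/
def back (i : τ) (Y : Matrix (Ix (Rest i) m × Fin m) (Ix (Rest i) m × Fin m) F) : Matrix (Ix τ m) (Ix τ m) F :=
  Y.submatrix (spl i) (spl i)

theorem two_val (i : τ) (g : GL (Ix τ m) F) : (two i g).1 = g.1.submatrix (spl i).symm (spl i).symm := rfl

theorem back_two (i : τ) (g : GL (Ix τ m) F) : back i (two i g).1 = g.1 := by
  simp [back, two_val]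

theorem back_inj (i : τ) {Y Y' : Matrix (Ix (Rest i) m × Fin m) (Ix (Rest i) m × Fin m) F}
    (h : back i Y = back i Y') : Y = Y' := by
  have := congrArg (fun X => X.submatrix (spl i).symm (spl i).symm) h
  simpa [back] using this

theorem back_kron (i : τ) (A : Matrix (Ix (Rest i) m) (Ix (Rest i) m) F) (b : Matrix (Fin m) (Fin m) F) :
    back i (A ⊗ₖ b) = ins i A b := rfl

theorem back_mul (i : τ) (Y Y' : Matrix (Ix (Rest i) m × Fin m) (Ix (Rest i) m × Fin m) F) :
    back i (Y * Y') = back i Y * back i Y' := by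
  rw [back, back, back, Matrix.submatrix_mul_equiv]

theorem back_one (i : τ) : back i (1 : Matrix (Ix (Rest i) m × Fin m) (Ix (Rest i) m × Fin m) F) = 1 :=
  Matrix.submatrix_one_equiv _

theorem back_add (i : τ) (Y Y' : Matrix (Ix (Rest i) m × Fin m) (Ix (Rest i) m × Fin m) F) :
    back i (Y + Y') = back i Y + back i Y' := rfl

theorem det_back (i : τ) (Y : Matrix (Ix (Rest i) m × Fin m) (Ix (Rest i) m × Fin m) F) : (back i Y).det = Y.det :=
  Matrix.det_submatrix_equiv_self _ _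

theorem JJ_eq (i : τ) : JJ J τ = back i (JJ J (Rest i) ⊗ₖ J) := by
  rw [back_kron, ins_pureM]
  refine congrArg pureM (funext fun j => ?_)
  by_cases hj : j = i
  · subst hj; rw [Function.update_self]
  · rw [Function.update_of_ne hj, extend, dif_neg hj]

theorem iso_back (i : τ) {Y : Matrix (Ix (Rest i) m × Fin m) (Ix (Rest i) m × Fin m) F} :
    Iso K (JJ J τ) (back i Y) ↔ Iso K (JJ J (Rest i) ⊗ₖ J) Y := by
  unfold TensorUnitary.Iso
  rw [JJ_eq i, show cj K (back i Y) = back i (cj K Y) from rfl, ← back_mul, ← back_mul]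
  exact ⟨back_inj i, congrArg _⟩

theorem iso_two (i : τ) {g : GL (Ix τ m) F} :
    Iso K (JJ J (Rest i) ⊗ₖ J) (two i g).1 ↔ Iso K (JJ J τ) g.1 := by
  rw [← iso_back i, back_two]

theorem det_two (i : τ) (g : GL (Ix τ m) F) : (two i g).1.det = g.1.det := by
  rw [← det_back i, back_two]

/-- All isometries of determinant one. -/
def full (K : Unitary.Conj F q) {γ : Type} [Fintype γ] [DecidableEq γ] (W : Matrix γ γ F) : Subgroup (GL γ F) where
  carrier := {g | Iso K W g.1 ∧ g.1.det = 1}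
  mul_mem' := fun {a b} ha hb => ⟨by rw [Units.val_mul]; exact iso_mul ha.1 hb.1,
    by rw [Units.val_mul, Matrix.det_mul, ha.2, hb.2, mul_one]⟩
  one_mem' := ⟨by show cj K 1 * W * 1 = W; rw [cj_one, Matrix.one_mul, Matrix.mul_one],
    by rw [Units.val_one, Matrix.det_one]⟩
  inv_mem' := fun {a} ha => ⟨iso_inv ha.1, by
    have := congrArg Matrix.det a.inv_mul
    rwa [Matrix.det_mul, ha.2, mul_one, Matrix.det_one] at this⟩

theorem mem_full {γ : Type} [Fintype γ] [DecidableEq γ] {W : Matrix γ γ F} {g : GL γ F} :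
    g ∈ full K W ↔ Iso K W g.1 ∧ g.1.det = 1 := Iff.rfl

theorem hyp_full {α β : Type} [Fintype α] [DecidableEq α] [Fintype β] [DecidableEq β] {JA : Matrix α α F}
    {JB : Matrix β β F} (hA : IsHerm K JA) (hB : IsHerm K JB) (h2 : 2 ≤ Fintype.card α) (h3 : 3 ≤ Fintype.card β) :
    TensorUnitary.Hyp K JA JB (full K (JA ⊗ₖ JB)) :=
  ⟨hA, hB, h2, h3, fun _ hg => hg, fun _ h1 h2 _ => ⟨h1, h2⟩⟩

theorem two_le_rest (hm : 3 ≤ m) {i : τ} (ht : 2 ≤ Fintype.card τ) : 2 ≤ Fintype.card (Ix (Rest i) m) := by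
  haveI : NeZero m := ⟨by omega⟩
  rw [card_rest]
  exact le_trans (by omega : 2 ≤ m) (Nat.le_self_pow (by omega) m)

/-- The full two-factor setting at `i`. -/
theorem Hyp.hyp0 (H : Hyp K J M) (ht : 2 ≤ Fintype.card τ) (i : τ) :
    TensorUnitary.Hyp K (JJ J (Rest i)) J (full K (JJ J (Rest i) ⊗ₖ J)) :=
  hyp_full (herm_JJ H.hJ _) H.hJ (two_le_rest H.three ht) (by rw [Fintype.card_fin]; exact H.three)

end CfsgLib.Classical.TensorWreathU
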