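import Cfsg.Agent.Lib.Classical.TensorWreathU.Contract

set_option autoImplicit false
set_option linter.unusedSectionVars false

/-!
A root next to a matrix which is not a scalar grows to a scalar multiple of roots on several factors.
-/

namespace CfsgLib.Classical.TensorWreathU

open Matrix CfsgLib.Classical.TensorWreath
open CfsgLib.Classical.TensorUnitary (cj cj_apply ph ph_dot IsHerm Iso adj tau trl)
open CfsgLib.ClassicalAut (Unitary.Conj)
open scoped MatrixGroups Kronecker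

variable {F : Type*} [Field F] [Finite F] {q : ℕ} {K : Unitary.Conj F q}
variable {τ : Type} [Fintype τ] [DecidableEq τ] {m : ℕ}
variable {J : Matrix (Fin m) (Fin m) F} {M : Subgroup (GL (Ix τ m) F)}

theorem iso_nonsing_inv (hJ : IsHerm K J) {T : Matrix (Fin m) (Fin m) F} (hT : Iso K J T) :
    T * T⁻¹ = 1 ∧ T⁻¹ * T = 1 :=
  ⟨Matrix.mul_nonsing_inv _ (hJ.det_iso hT), Matrix.nonsing_inv_mul _ (hJ.det_iso hT)⟩

theorem Hyp.conj_embM (H : Hyp K J M) {X : Matrix (Ix τ m) (Ix τ m) F} (hX : InM M (1 + X)) (j : τ)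
    {T : Matrix (Fin m) (Fin m) F} (hT : Iso K J T) (dT : T.det = 1) :
    InM M (1 + embM j T * X * embM j T⁻¹) := by
  have hQQ : embM j T * embM j T⁻¹ = (1 : Matrix (Ix τ m) (Ix τ m) F) := by
    rw [embM_mul, (iso_nonsing_inv H.hJ hT).1, embM_one]
  have h := ((H.inM_embM j hT dT).mul hX).mul ((H.inM_embM j hT dT).of_mul_eq_one hQQ)
  rwa [mul_add, mul_one, add_mul, hQQ] at h

variable (K J)

/-- The roots on the factors in `T`. -/
def nT (T : Finset τ) (u : τ → Fin m → F) : Matrix (Ix τ m) (Ix τ m) F :=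
  pureM (pick T fun j => nu K J (u j))

/-- Isotropic vectors on `T`. -/
def IsoOn (T : Finset τ) (u : τ → Fin m → F) : Prop := ∀ j ∈ T, u j ≠ 0 ∧ ph K J (u j) ⬝ᵥ u j = 0

variable {K J}

theorem nT_sq {T : Finset τ} (hT : T.Nonempty) {u : τ → Fin m → F} (hu : IsoOn K J T u) :
    nT K J T u * nT K J T u = 0 := by
  obtain ⟨j, hj⟩ := hT
  rw [nT, pureM_mul]
  refine pureM_eq_zero (i := j) ?_
  simp [pick, hj, nu_sq (hu j hj).2]

theorem nT_insert {T : Finset τ} {j : τ} (hj : j ∉ T) (u : τ → Fin m → F) (v : Fin m → F) :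
    nT K J (insert j T) (Function.update u j v) = nT K J T u * embM j (nu K J v) := by
  rw [nT, pick_insert hj, Function.update_self, nT]
  congr 2
  funext l
  simp only [pick]
  split_ifs with hl
  · rw [Function.update_of_ne (ne_of_mem_of_not_mem hl hj)]
  · rfl

theorem nT_cen {T : Finset τ} {Y : Matrix (Ix τ m) (Ix τ m) F} (h : ∀ j ∈ T, Cen j Y) (u : τ → Fin m → F) :
    nT K J T u * Y = Y * nT K J T u :=
  cen_pick h _

theorem nT_singleton (i : τ) (v : Fin m → F) : nT K J {i} (fun _ => v) = embM i (nu K J v) := by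
  rw [show ({i} : Finset τ) = insert i ∅ from rfl, nT, pick_insert (Finset.notMem_empty i), pick_empty, one_mul]

namespace Hyp

/-- One more factor. -/
theorem grow_step (H : Hyp K J M) {T : Finset τ} {u : τ → Fin m → F} (hT : T.Nonempty) (hu : IsoOn K J T u)
    {Y : Matrix (Ix τ m) (Ix τ m) F} (hY : ∀ j ∈ T, Cen j Y) (h : InM M (1 + nT K J T u * Y))
    {j : τ} (hj : j ∉ T) (hnc : ¬ Cen j Y) :
    ∃ (u' : τ → Fin m → F) (Y' : Matrix (Ix τ m) (Ix τ m) F), IsoOn K J (insert j T) u' ∧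
      (∀ l ∈ insert j T, Cen l Y') ∧ Y' ≠ 0 ∧ InM M (1 + nT K J (insert j T) u' * Y') := by
  haveI := H.neZero
  have hJ := H.hJ
  let D : Matrix (Ix τ m) (Ix τ m) F → Prop := fun Z => (∀ l ∈ T, Cen l Z) ∧ InM M (1 + nT K J T u * Z)
  have hsq : ∀ Z W : Matrix (Ix τ m) (Ix τ m) F, (∀ l ∈ T, Cen l Z) → nT K J T u * Z * (nT K J T u * W) = 0 := by
    intro Z W hZ
    rw [mul_assoc, ← mul_assoc Z, ← nT_cen hZ, ← mul_assoc, ← mul_assoc, nT_sq hT hu, zero_mul, zero_mul]
  have hsub : ∀ Z W, D Z → D W → D (Z - W) := fun Z W hZ hW => by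
    refine ⟨fun l hl => (hZ.1 l hl).sub (hW.1 l hl), ?_⟩
    have h1 := hW.2.neg (hsq _ _ hW.1)
    rw [sub_eq_add_neg, ← mul_neg] at h1
    rw [sub_eq_add_neg, mul_add]
    exact hZ.2.add h1 (hsq _ _ hZ.1)
  have hadd : ∀ Z W, D Z → D W → D (Z + W) := fun Z W hZ hW =>
    ⟨fun l hl => (hZ.1 l hl).add (hW.1 l hl), by
      rw [mul_add]; exact hZ.2.add hW.2 (hsq _ _ hZ.1)⟩
  have hconj : ∀ S : Matrix (Fin m) (Fin m) F, Iso K J S → S.det = 1 → ∀ Z, D Z →
      D (embM j S * Z * embM j S⁻¹) := fun S hS dS Z hZ => by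
    refine ⟨fun l hl => ((cen_embM (ne_of_mem_of_not_mem hl hj) S).mul (hZ.1 l hl)).mul
      (cen_embM (ne_of_mem_of_not_mem hl hj) _), ?_⟩
    have := H.conj_embM hZ.2 j hS dS
    rwa [← mul_assoc (embM j S), nT, ← embM_comm_pick hj, mul_assoc (pureM _) (embM j S),
      mul_assoc (pureM _), ← nT] at this
  obtain ⟨v, hv0, hv, hc⟩ := exists_contr hJ (by have := H.three; omega) hnc
  obtain ⟨N, hN⟩ : ∃ N : Matrix (Ix τ m) (Ix τ m) F, N = embM j (nu K J v) := ⟨_, rfl⟩
  have hNN : N * N = 0 := by rw [hN, embM_mul, nu_sq hv, embM_zero]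
  suffices hkey : ∃ c : F, c ≠ 0 ∧ D (c • (N * Y * N)) by
    obtain ⟨c, hc0, hD⟩ := hkey
    refine ⟨Function.update u j v, c • ins j (contr K J j v Y) 1, fun l hl => ?_, fun l hl => ?_, ?_, ?_⟩
    · by_cases hlj : l = j
      · subst hlj; rw [Function.update_self]; exact ⟨hv0, hv⟩
      · rw [Function.update_of_ne hlj]; exact hu l (Finset.mem_of_mem_insert_of_ne hl hlj)
    · refine Cen.smul c ?_
      rcases Finset.mem_insert.1 hl with rfl | hl
      · exact cen_ins_one _ _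
      · exact cen_contr hJ (ne_of_mem_of_not_mem hl hj) hv0 (hY l hl)
    · rw [Ne, smul_eq_zero, not_or]
      refine ⟨hc0, fun e => hc (ins_one_injective j ?_)⟩
      show ins j _ 1 = ins j 0 1
      rw [e]; ext x y; simp [ins_apply]
    · have := hD.2
      rwa [hN, emb_contr, show ins j (contr K J j v Y) (nu K J v) =
          embM j (nu K J v) * ins j (contr K J j v Y) 1 by rw [embM_eq_ins, ins_mul, one_mul, mul_one],
        ← mul_smul_comm, ← mul_assoc, ← nT_insert hj] at this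
  obtain ⟨θ, hθ0, hθ⟩ := TensorUnitary.exists_skew K
  have hD : ∀ t : F, t + K.bar t = 0 → D (t • (N * Y - Y * N) - (t * t) • (N * Y * N)) := by
    intro t ht
    have hinv : (tau K J v t)⁻¹ = 1 - t • nu K J v := by
      refine Matrix.inv_eq_right_inv ?_
      rw [tau, ← nu, mul_sub, mul_one, add_mul, one_mul, smul_mul_smul_comm, nu_sq hv, smul_zero, add_zero,
        add_sub_cancel_right]
    have h1 := hsub _ _ (hconj _ (hJ.iso_tau hv ht) (TensorUnitary.det_tau K hv t) Y ⟨hY, h⟩) ⟨hY, h⟩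
    rw [hinv, tau, ← nu, embM_add, embM_sub, embM_one, embM_smul, ← hN] at h1
    convert h1 using 1
    simp only [mul_sub, add_mul, one_mul, mul_one, smul_mul_assoc, mul_smul_comm, smul_smul, smul_sub]
    module
  by_cases h2 : (2 : F) = 0
  swap
  · have hθs : θ + K.bar θ = 0 := by rw [hθ, add_neg_cancel]
    have := hsub _ _ (hadd _ _ (hD θ hθs) (hD θ hθs)) (hD (θ + θ) (by rw [map_add]; linear_combination 2 * hθs))
    refine ⟨2 * (θ * θ), mul_ne_zero h2 (mul_ne_zero hθ0 hθ0), ?_⟩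
    convert this using 1
    module
  have hθs : θ + K.bar θ = 0 := by rw [hθ, add_neg_cancel]
  obtain ⟨z, vz, zv, zz⟩ := hJ.exists_dual hv hv0
  obtain ⟨e, ve, ze, ee⟩ := hJ.exists_aniso (by rw [Fintype.card_fin]; exact H.three) hv zz vz
  obtain ⟨s, hs⟩ := K.exists_trace
  obtain ⟨G, hG⟩ : ∃ G : (Fin m → F) → F → Matrix (Ix τ m) (Ix τ m) F, G = fun p k =>
      θ • ((K.bar k - k) • (N * Y * N) -
        (N * Y * embM j (Matrix.vecMulVec p (ph K J v) - Matrix.vecMulVec v (ph K J p)) +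
          embM j (Matrix.vecMulVec p (ph K J v) - Matrix.vecMulVec v (ph K J p)) * Y * N)) := ⟨_, rfl⟩
  have hF : ∀ p k, ph K J v ⬝ᵥ p = 0 → k + K.bar k = -(ph K J p ⬝ᵥ p) → D (G p k) := by
    intro p k hp hk
    obtain ⟨P, hP⟩ : ∃ P, P = Matrix.vecMulVec p (ph K J v) - Matrix.vecMulVec v (ph K J p) := ⟨_, rfl⟩
    have pv := hJ.orth_comm hp
    have PP : P * P = -((ph K J p ⬝ᵥ p) • nu K J v) := by
      simp [hP, nu, sub_mul, mul_sub, Matrix.vecMulVec_mul_vecMulVec, Matrix.vecMulVec_smul, hp, pv, hv]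
    have PN : P * nu K J v = 0 := by
      simp [hP, nu, sub_mul, Matrix.vecMulVec_mul_vecMulVec, hv, pv]
    have NP : nu K J v * P = 0 := by
      simp [hP, nu, mul_sub, Matrix.vecMulVec_mul_vecMulVec, hv, hp]
    have hL : trl K J v p k = 1 + (P + k • nu K J v) := by rw [hP, trl, nu]; abel
    have hinv : (trl K J v p k)⁻¹ = 1 + (-P + K.bar k • nu K J v) := by
      refine Matrix.inv_eq_right_inv ?_
      rw [hL]
      simp only [mul_add, add_mul, one_mul, mul_one, mul_neg, smul_mul_assoc, mul_smul_comm, PP, PN, NP,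
        nu_sq hv, smul_zero, neg_zero, neg_neg]
      have : (k + K.bar k + ph K J p ⬝ᵥ p) • nu K J v = 0 := by rw [hk, neg_add_cancel, zero_smul]
      linear_combination (norm := module) this
    have h1 := hsub _ _ (hconj _ (hJ.iso_trl hv hp hk) (hJ.det_trl hv hp k) _ (hD θ hθs)) (hD θ hθs)
    obtain ⟨A, hA⟩ : ∃ A : Matrix (Ix τ m) (Ix τ m) F, A = embM j P := ⟨_, rfl⟩
    have AN : A * N = 0 := by rw [hA, hN, embM_mul, PN, embM_zero]
    have NA : N * A = 0 := by rw [hA, hN, embM_mul, NP, embM_zero]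
    rw [hinv, hL] at h1
    simp only [embM_add, embM_one, embM_smul] at h1
    rw [← hN,
      show embM j (-P) = -A by rw [hA, ← neg_one_smul F P, embM_smul, neg_one_smul], ← hA] at h1
    rw [hG]
    dsimp only
    rw [← hP, ← hA]
    convert h1 using 1
    have r : ∀ Z : Matrix (Ix τ m) (Ix τ m) F, A * (N * Z) = 0 ∧ N * (A * Z) = 0 ∧ N * (N * Z) = 0 := fun Z =>
      ⟨by rw [← mul_assoc, AN, zero_mul], by rw [← mul_assoc, NA, zero_mul], by rw [← mul_assoc, hNN, zero_mul]⟩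
    simp only [mul_add, add_mul, mul_sub, sub_mul, one_mul, mul_one, mul_neg, neg_mul, smul_mul_assoc,
      mul_smul_comm, smul_smul, smul_sub, smul_add, mul_assoc, AN, NA, hNN, (r _).1, (r _).2.1, (r _).2.2,
      mul_zero, zero_mul, smul_zero, neg_zero, add_zero, zero_add, sub_zero, zero_sub]
    module
  obtain ⟨k1, hk1⟩ := hJ.exists_k e
  obtain ⟨k2, hk2⟩ := hJ.exists_k (s • e)
  obtain ⟨k3, hk3⟩ := hJ.exists_k (e + s • e)
  have vse : ph K J v ⬝ᵥ (s • e) = 0 := by rw [dotProduct_smul, ve, smul_zero]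
  have := hsub _ _ (hsub _ _ (hF _ _ (by rw [dotProduct_add, ve, vse, add_zero]) hk3) (hF _ _ ve hk1))
    (hF _ _ vse hk2)
  refine ⟨θ * ((K.bar k3 - k3) - (K.bar k1 - k1) - (K.bar k2 - k2)), mul_ne_zero hθ0 ?_, ?_⟩
  · obtain ⟨f, hf⟩ : ∃ f, f = ph K J e ⬝ᵥ e := ⟨_, rfl⟩
    simp only [TensorUnitary.ph_add, TensorUnitary.ph_smul, add_dotProduct, smul_dotProduct, dotProduct_add,
      dotProduct_smul, smul_eq_mul, ← hf] at hk1 hk2 hk3
    rw [← hf] at ee
    intro h0
    refine mul_ne_zero ee hs ?_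
    linear_combination -h0 + hk3 - hk1 - hk2 - (k3 - k1 - k2) * h2
  · convert this using 1
    simp only [hG, TensorUnitary.ph_add, Matrix.add_vecMulVec, Matrix.vecMulVec_add, embM_sub, embM_add, mul_add,
      add_mul, mul_sub, sub_mul]
    module

/-- Further factors until only a scalar is left. -/
theorem exists_nT (H : Hyp K J M) : ∀ (k : ℕ) {T : Finset τ} {u : τ → Fin m → F} {Y : Matrix (Ix τ m) (Ix τ m) F},
    Fintype.card τ - T.card = k → 2 ≤ T.card → IsoOn K J T u → (∀ j ∈ T, Cen j Y) → Y ≠ 0 →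
    InM M (1 + nT K J T u * Y) →
    ∃ (T : Finset τ) (u : τ → Fin m → F) (c : F), 2 ≤ T.card ∧ IsoOn K J T u ∧ c ≠ 0 ∧
      InM M (1 + c • nT K J T u) := by
  haveI := H.neZero
  intro k
  induction k using Nat.strong_induction_on with
  | _ k IH =>
    intro T u Y hk h2 hu hY h0 hin
    have hT : T.Nonempty := Finset.card_pos.1 (by omega)
    by_cases hall : ∀ j, Cen j Y
    · obtain ⟨c, rfl⟩ := exists_eq_smul_one_of_cen hall
      refine ⟨T, u, c, h2, hu, fun e => h0 (by rw [e, zero_smul]), ?_⟩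
      rwa [mul_smul_comm, mul_one] at hin
    · push Not at hall
      obtain ⟨j, hj⟩ := hall
      have hjT : j ∉ T := fun h => hj (hY j h)
      obtain ⟨u', Y', a1, a2, a3, a4⟩ := H.grow_step hT hu hY hin hjT hj
      refine IH _ ?_ rfl (by rw [Finset.card_insert_of_notMem hjT]; omega) a1 a2 a3 a4
      have := Finset.card_le_univ (insert j T)
      rw [Finset.card_insert_of_notMem hjT] at this ⊢
      omega

end Hyp

end CfsgLib.Classical.TensorWreathU
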