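import Cfsg.Agent.Lib.Classical.TensorWreathU.Even

set_option autoImplicit false
set_option linter.unusedSectionVars false

/-!
A proper intermediate group is monomial, by induction on the number of factors.
-/

namespace CfsgLib.Classical.TensorWreathU

open Matrix CfsgLib.Classical.TensorWreath
open CfsgLib.Classical.TensorUnitary (IsHerm Iso)
open CfsgLib.ClassicalAut (Unitary.Conj)
open scoped MatrixGroups

variable {F : Type*} [Field F] [Finite F] {q : ℕ} {K : Unitary.Conj F q} {m : ℕ} {J : Matrix (Fin m) (Fin m) F}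

theorem Ctx.allMono {τ : Type} [Fintype τ] [DecidableEq τ] {M : Subgroup (GL (Ix τ m) F)} (C : Ctx K J M)
    {g : GL (Ix τ m) F} (hg : g ∈ M) : Mono g.1 := by
  by_cases h2 : (2 : F) = 0
  · exact C.allMono_even h2 hg
  · exact C.allMono_odd h2 hg

theorem allMono_monoConj : ∀ (n : ℕ) (τ : Type) [Fintype τ] [DecidableEq τ],
    Fintype.card τ = n → 2 ≤ n → AllMono K J τ ∧ MonoConj K J τ := by
  intro n
  induction n using Nat.strong_induction_on with
  | _ n IH =>
    intro τ _ _ hn h2
    have hlow : Low K J τ := fun i hi => by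
      have hc : Fintype.card (Rest i) = n - 1 := by rw [Fintype.card_subtype_compl, Fintype.card_subtype_eq, hn]
      exact IH (n - 1) (by omega) (Rest i) hc (by omega)
    refine ⟨fun M H hT g hg => ?_, fun M M' g H H' hT hT' hgi hR i X hX h => ?_⟩
    · exact Ctx.allMono ⟨H, hT, hlow, by omega⟩ hg
    · exact mono_of_mono_conj ⟨H, hT, hlow, by omega⟩ ⟨H', hT', hlow, by omega⟩ hgi hR hX h

theorem top_of_not_mono {τ : Type} [Fintype τ] [DecidableEq τ] (ht : 2 ≤ Fintype.card τ)
    {M : Subgroup (GL (Ix τ m) F)} (H : Hyp K J M) {g : GL (Ix τ m) F} (hg : g ∈ M) (hgm : ¬ Mono g.1) :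
    Top K J M := by
  by_contra hT
  exact hgm ((allMono_monoConj _ τ rfl ht).1 M H hT g hg)

end CfsgLib.Classical.TensorWreathU
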