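import Cfsg.Agent.Lib.Classical.TensorWreathU.Induct
import Cfsg.Agent.Lib.Classical.TensorWreath.Main
import Cfsg.Agent.Lib.Classical.TensorUnitary.Main

set_option autoImplicit false
set_option linter.unusedSectionVars false

/-!
The stabiliser in the special unitary group of a decomposition of the form into equal tensor factors is maximal.
-/

namespace CfsgLib.Classical.TensorWreathU

open Matrix CfsgLib.Classical.TensorWreath
open CfsgLib.Classical.TensorUnitary (cj ph IsHerm Iso)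
open CfsgLib.ClassicalAut (Unitary.Conj)
open scoped MatrixGroups

variable {F : Type*} [Field F] [Fintype F] {q : ℕ} {K : Unitary.Conj F q}

/-- An isometry of determinant one which is not monomial. -/
theorem exists_not_mono {τ : Type} [Fintype τ] [DecidableEq τ] {m : ℕ} {J : Matrix (Fin m) (Fin m) F}
    (hJ : IsHerm K J) (hm : 3 ≤ m) (ht : 2 ≤ Fintype.card τ) :
    ∃ g : GL (Ix τ m) F, Iso K (JJ J τ) g.1 ∧ g.1.det = 1 ∧ ¬ Mono g.1 := by
  obtain ⟨u, hu0, hu, -⟩ := hJ.exists_iso_perp (fun x : Fin 0 => x.elim0) (by simp only [Fintype.card_fin]; omega)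
  obtain ⟨θ, hθ0, hθ⟩ := TensorUnitary.exists_skew K
  have hu' : IsoOn K J Finset.univ (fun _ : τ => u) := fun _ _ => ⟨hu0, hu⟩
  have hne : (Finset.univ : Finset τ).Nonempty := Finset.card_pos.1 (by rw [Finset.card_univ]; omega)
  obtain ⟨X, hX⟩ : ∃ X, X = θ • nT K J Finset.univ (fun _ : τ => u) := ⟨_, rfl⟩
  have hX2 : X * X = 0 := by rw [hX, smul_mul_smul_comm, nT_sq hne hu', smul_zero]
  refine ⟨glOf (1 + X) (det_one_add_of_sq hX2), ?_, det_one_add_of_sq hX2, ?_⟩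
  · rw [glOf_val, hX]; exact iso_smul_nT hJ hne hu' (by rw [hθ, add_neg_cancel])
  · rw [glOf_val, hX]; exact not_mono_nT hJ hm (by rw [Finset.card_univ]; omega) hu' hθ0

include K in
/-- Maximality. -/
theorem isMaximalIn {n k t : ℕ} (hk : 3 ≤ k) (ht : 2 ≤ t) (hex : ¬ (q = 2 ∧ k = 3))
    (e : Fin n ≃ (Fin t → Fin k)) (P : GL (Fin n) F) {f₁ : (Fin k → F) → (Fin k → F) → F}
    (hf₁ : Cfsg.Geo.IsUnitaryFormPow q f₁)
    (hT : Cfsg.Geo.IsTensorPowerFormStructure (fun x : F => x ^ q) (Cfsg.hermForm n F q) f₁ e P) :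
    Cfsg.Geo.IsMaximalIn (Cfsg.GU n F q ⊓ Cfsg.Geo.specialLinear (Fin n) F)
      (Cfsg.Geo.tensorWreathSubgroup k t e P ⊓ (Cfsg.GU n F q ⊓ Cfsg.Geo.specialLinear (Fin n) F)) := by
  classical
  haveI : NeZero k := ⟨by omega⟩
  obtain ⟨c, hc, hB⟩ := hT
  obtain ⟨J, hJd⟩ : ∃ J, J = (Cfsg.Geo.gramMatrix f₁)ᵀ := ⟨_, rfl⟩
  have hJ : IsHerm K J := hJd ▸ TensorUnitary.isHerm_gram K hf₁
  obtain ⟨φ, hφ⟩ : ∃ φ : GL (Ix (Fin t) k) F ≃* GL (Fin n) F,
      φ = (Cfsg.Geo.glReindex (F := F) e.symm).trans (MulAut.conj P) := ⟨_, rfl⟩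
  obtain ⟨co, hco⟩ : ∃ co : (Ix (Fin t) k → F) → (Fin n → F), co = fun z => P.1 *ᵥ (z ∘ e) := ⟨_, rfl⟩
  have hform : ∀ x y, Cfsg.hermForm n F q (co x) (co y) = c * (ph K (JJ J (Fin t)) y ⬝ᵥ x) := by
    intro x y
    rw [hco, hB, ph, dotProduct]
    congr 1
    refine Finset.sum_congr rfl fun a _ => ?_
    rw [Matrix.vecMul, dotProduct, Finset.sum_mul]
    refine Finset.sum_congr rfl fun b _ => ?_
    simp only [hJd, pureM_apply, Matrix.transpose_apply, K.bar_apply]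
    ring
  have hap : ∀ (g : GL (Ix (Fin t) k) F) z, (φ g).1 *ᵥ co z = co (g.1 *ᵥ z) := by
    intro g z
    rw [hφ, hco]
    show (P.1 * Matrix.submatrix g.1 e e * (P⁻¹ : GL (Fin n) F).1) *ᵥ (P.1 *ᵥ _) = _
    rw [Matrix.mulVec_mulVec, Matrix.mul_assoc, Units.inv_mul, Matrix.mul_one, ← Matrix.mulVec_mulVec,
      Matrix.submatrix_mulVec_equiv, Function.comp_assoc, Equiv.self_comp_symm, Function.comp_id]
  have hdet : ∀ g, (φ g).1.det = g.1.det := fun g => by
    rw [hφ]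
    show (P.1 * Matrix.submatrix g.1 e e * (P⁻¹ : GL (Fin n) F).1).det = _
    rw [Matrix.det_mul, Matrix.det_mul, Matrix.det_submatrix_equiv_self, mul_right_comm, ← Matrix.det_mul,
      Units.mul_inv, Matrix.det_one, one_mul]
  have hsurj : Function.Surjective co := fun v => ⟨((P⁻¹ : GL (Fin n) F).1 *ᵥ v) ∘ e.symm, by
    rw [hco]
    show P.1 *ᵥ _ = v
    rw [Function.comp_assoc, Equiv.symm_comp_self, Function.comp_id, Matrix.mulVec_mulVec,
      Units.mul_inv, Matrix.one_mulVec]⟩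
  have hH := herm_JJ hJ (Fin t)
  have hiso : ∀ g, φ g ∈ Cfsg.GU n F q ⊓ Cfsg.Geo.specialLinear (Fin n) F ↔
      Iso K (JJ J (Fin t)) g.1 ∧ g.1.det = 1 := by
    intro g
    constructor
    · rintro ⟨h, h'⟩
      refine ⟨hH.form_ext fun x y => mul_left_cancel₀ hc ?_, ?_⟩
      · rw [← hform, ← hform, ← hap, ← hap]
        exact h _ _
      · rw [← hdet]
        exact congrArg Units.val (MonoidHom.mem_ker.1 h')
    · rintro ⟨h, h'⟩
      refine ⟨fun u v => ?_, MonoidHom.mem_ker.2 (Units.ext ((hdet g).trans h'))⟩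
      obtain ⟨x, rfl⟩ := hsurj u
      obtain ⟨y, rfl⟩ := hsurj v
      show Cfsg.hermForm n F q ((φ g).1 *ᵥ co x) ((φ g).1 *ᵥ co y) = _
      rw [hap, hap, hform, hH.dot_image h, hform]
  have hkr : ∀ g, φ g ∈ Cfsg.Geo.tensorWreathSubgroup k t e P ↔ Mono g.1 := by
    intro g
    constructor
    · rintro ⟨_, ⟨x, hx, rfl⟩, hx'⟩
      have : x = g := φ.injective (by rw [hφ]; rw [hφ] at hx'; exact hx')
      exact this ▸ TensorWreath.mem_standard_iff.1 hx
    · intro h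
      exact ⟨_, ⟨g, TensorWreath.mem_standard_iff.2 h, rfl⟩, by rw [hφ]; rfl⟩
  obtain ⟨x, hx1, hx1', hx2⟩ := exists_not_mono (τ := Fin t) hJ hk (by simpa using ht)
  refine ⟨lt_of_le_of_ne inf_le_right fun hh => hx2 ((hkr x).1 ?_), fun L hL hL' => ?_⟩
  · have := (hiso x).2 ⟨hx1, hx1'⟩
    rw [← hh] at this
    exact this.1
  obtain ⟨M, hM⟩ : ∃ M, M = L.comap φ.toMonoidHom := ⟨_, rfl⟩
  have H : Hyp K J M :=
    { hJ := hJ
      three := hk
      hex := fun hq => by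
        by_contra hlt
        exact hex ⟨hq, by omega⟩
      le := fun g hg => (hiso g).1 (hL' (by rw [hM] at hg; exact hg))
      mono := fun g hgi hd hg => by rw [hM]; exact hL ⟨(hkr g).2 hg, (hiso g).2 ⟨hgi, hd⟩⟩ }
  by_cases hall : ∀ g ∈ M, Mono g.1
  · refine Or.inl (le_antisymm (fun y hy => ?_) hL)
    obtain ⟨g, rfl⟩ := φ.surjective y
    exact ⟨(hkr g).2 (hall g (by rw [hM]; exact hy)), hL' hy⟩
  · push Not at hall
    obtain ⟨g, hg, hgm⟩ := hall
    refine Or.inr (le_antisymm hL' fun y hy => ?_)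
    obtain ⟨z, rfl⟩ := φ.surjective y
    have h1 := top_of_not_mono (by simpa using ht) H hg hgm z ((hiso z).1 hy).1 ((hiso z).1 hy).2
    rw [hM] at h1
    exact h1

end CfsgLib.Classical.TensorWreathU
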