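import Cfsg.Agent.Lib.Classical.TensorWreathU.Rich
import Cfsg.Agent.Lib.Classical.TensorWreathU.Form
import Cfsg.Agent.Lib.Classical.Forms

set_option autoImplicit false
set_option linter.unusedSectionVars false

/-!
A Hermitian space as the standard one, and the generation criterion for a group of matrices.
-/

namespace CfsgLib.Classical.TensorWreathU

open Matrix CfsgLib.Classical.TensorWreath Cfsg CfsgLib.Classical.Herm
open CfsgLib.Classical.TensorUnitary (IsHerm Iso ph)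
open CfsgLib.Classical.TensorSymp (ten)
open CfsgLib.ClassicalAut (Unitary.Conj Unitary.herm_apply)
open scoped MatrixGroups Kronecker

variable {F : Type*} [Field F] [Finite F] {q : ℕ} {K : Unitary.Conj F q}
variable {γ : Type} [Fintype γ] [DecidableEq γ]

/-- Coordinates in which the form is the standard one. -/
theorem exists_model {W : Matrix γ γ F} (hW : IsHerm K W) :
    ∃ Φ : (γ → F) ≃ₗ[F] (Fin (Fintype.card γ) → F),
      ∀ x y, hermForm (Fintype.card γ) F q (Φ x) (Φ y) = ph K W y ⬝ᵥ x := by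
  classical
  let B : (γ → F) →ₛₗ[K.bar.toRingHom] (γ → F) →ₗ[F] F :=
    LinearMap.mk₂'ₛₗ K.bar.toRingHom (RingHom.id F) (fun u v => ph K W u ⬝ᵥ v)
      (fun a b u => by rw [TensorUnitary.ph_add, add_dotProduct])
      (fun c a u => by rw [TensorUnitary.ph_smul, smul_dotProduct]; rfl)
      (fun u a b => by rw [dotProduct_add]) (fun c u a => by rw [dotProduct_smul]; rfl)
  have hB : ∀ u v, B u v = ph K W u ⬝ᵥ v := fun _ _ => rfl
  obtain ⟨b, hb⟩ := CfsgLib.Forms.exists_orthonormal_basis K.bar.toRingHom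
    (fun h => by
      obtain ⟨y, hy⟩ := K.exists_moved
      exact hy (RingHom.congr_fun h y))
    K.bar_bar B (fun x y => by
      show K.bar (B x y) = B y x
      rw [hB, hB, ← hW.swap])
    (fun v hv => hW.eq_zero_of_orth fun y => by rw [← hB]; exact hv y)
  let b' := b.reindex (finCongr (by rw [Module.finrank_pi]))
  have hb' : ∀ i j, B (b' i) (b' j) = if i = j then 1 else 0 := fun i j => by
    simp only [b', Module.Basis.reindex_apply, hb, EmbeddingLike.apply_eq_iff_eq]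
  refine ⟨b'.equivFun, fun x y => ?_⟩
  rw [← hB]
  conv_rhs => rw [← b'.sum_equivFun x, ← b'.sum_equivFun y]
  rw [Unitary.herm_apply K]
  simp only [map_sum, LinearMap.map_smulₛₗ, LinearMap.sum_apply, LinearMap.smul_apply, hb', smul_eq_mul, mul_ite,
    mul_one, mul_zero, Finset.sum_ite_eq, Finset.sum_ite_eq', Finset.mem_univ, if_true]
  exact Finset.sum_congr rfl fun i _ => by simp [mul_comm]

variable {α : Type} [Fintype α] [DecidableEq α] {β : Type} [Fintype β] [DecidableEq β]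

/-- The group contains every transvection with centre `V`. -/
def Cent (K : Unitary.Conj F q) (W : Matrix γ γ F) (M : Subgroup (GL γ F)) (V : γ → F) : Prop :=
  ph K W V ⬝ᵥ V = 0 ∧ ∀ c : F, c + K.bar c = 0 → ∃ g ∈ M, g.1 = 1 + c • Matrix.vecMulVec V (ph K W V)

/-- Enough centres generate all isometries of determinant one. -/
theorem mem_of_centres {W : Matrix γ γ F} (hW : IsHerm K W) {M : Subgroup (GL γ F)} {JA : Matrix α α F}
    {JB : Matrix β β F} (hA : IsHerm K JA) (hB : IsHerm K JB) (ε : γ ≃ α × β)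
    (hWε : W = (JA ⊗ₖ JB).submatrix ε ε) (h2 : 2 ≤ Fintype.card β) (hn : 4 ≤ Fintype.card γ)
    {u v : α → F} (hu : ph K JA u ⬝ᵥ u = 0) (hv : ph K JA v ⬝ᵥ v = 0) (huv : ph K JA u ⬝ᵥ v = 1)
    (hc₁ : ∀ a b, ph K JB b ⬝ᵥ b = 0 → Cent K W M (ten a b ∘ ε)) (hc₂ : ∀ b, Cent K W M (ten v b ∘ ε))
    {g : GL γ F} (hg : Iso K W g.1) (hd : g.1.det = 1) : g ∈ M := by
  classical
  obtain ⟨Φ, hΦ⟩ := exists_model hW
  obtain ⟨Q, hQ⟩ : ∃ Q : Matrix (Fin (Fintype.card γ)) γ F, Q = LinearMap.toMatrix' (Φ : (γ → F) →ₗ[F] _) := ⟨_, rfl⟩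
  obtain ⟨Q', hQ'⟩ : ∃ Q' : Matrix γ (Fin (Fintype.card γ)) F,
      Q' = LinearMap.toMatrix' (Φ.symm : (Fin (Fintype.card γ) → F) →ₗ[F] (γ → F)) := ⟨_, rfl⟩
  have q1 : Q' * Q = 1 := by
    rw [hQ, hQ', ← LinearMap.toMatrix'_comp, LinearEquiv.symm_comp, LinearMap.toMatrix'_id]
  have q2 : Q * Q' = 1 := by
    rw [hQ, hQ', ← LinearMap.toMatrix'_comp, LinearEquiv.comp_symm, LinearMap.toMatrix'_id]
  have qm : ∀ x, Q *ᵥ x = Φ x := fun x => by rw [hQ, LinearMap.toMatrix'_mulVec]; rfl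
  let A : GL γ F →* GL (Fin (Fintype.card γ)) F := Units.map
    { toFun := fun X => Q * X * Q'
      map_one' := by rw [Matrix.mul_one, q2]
      map_mul' := fun X Y => by
        simp only [Matrix.mul_assoc]
        rw [← Matrix.mul_assoc Q' Q, q1, Matrix.one_mul] }
  have hAv : ∀ h : GL γ F, (A h).1 = Q * h.1 * Q' := fun _ => rfl
  have hap : ∀ (h : GL γ F) x, (A h).1 *ᵥ Φ x = Φ (h.1 *ᵥ x) := fun h x => by
    rw [hAv, ← qm, ← qm, ← Matrix.mulVec_mulVec, Matrix.mulVec_mulVec _ Q', q1, Matrix.one_mulVec,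
      Matrix.mulVec_mulVec]
  have hdet : ∀ h : GL γ F, (A h).1.det = h.1.det := fun h => by
    rw [hAv, Matrix.det_conj_of_mul_eq_one q2 q1]
  let L : Subgroup (SU (Fintype.card γ) F q) := (M.map A).comap (toGLHom (F := F) (n := Fintype.card γ) (q := q))
  let Ψ : (α × β → F) →ₗ[F] (Fin (Fintype.card γ) → F) := (Φ : (γ → F) →ₗ[F] _).comp (LinearMap.funLeft F F ε)
  have hcent : ∀ V, Cent K W M V → Φ V ∈ centres K L := by
    rintro V ⟨hV, hV'⟩
    refine ⟨by rw [hΦ, hV], fun t c ht => ?_⟩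
    obtain ⟨x, hx, hx'⟩ := hV' c ht.2.1
    refine ⟨x, hx, Units.ext (Matrix.ext_iff_mulVec.2 fun y => ?_)⟩
    obtain ⟨z, rfl⟩ := Φ.surjective y
    refine Eq.trans ?_ (ht.2.2 (Φ z)).symm
    rw [hap, hx', Matrix.add_mulVec, Matrix.one_mulVec, Matrix.smul_mulVec, Matrix.vecMulVec_mulVec,
      op_smul_eq_smul, hΦ, map_add, map_smul, map_smul, smul_smul]
  have hΨ : ∀ X Y, hermForm (Fintype.card γ) F q (Ψ X) (Ψ Y) = ph K (JA ⊗ₖ JB) Y ⬝ᵥ X := fun X Y => by
    show hermForm _ F q (Φ (X ∘ ε)) (Φ (Y ∘ ε)) = _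
    rw [hΦ, hWε, TensorUnitary.ph_dot, TensorUnitary.ph_dot, Matrix.submatrix_mulVec_equiv]
    rw [Function.comp_assoc, Equiv.self_comp_symm, Function.comp_id]
    exact comp_equiv_dotProduct_comp_equiv (fun i => K.bar (Y i)) ((JA ⊗ₖ JB) *ᵥ X) ε
  have htop : L = ⊤ := eq_top_of_rich (K := K) hA hB h2 hn Ψ
    (Φ.surjective.comp fun x => ⟨x ∘ ε.symm, by funext i; simp [LinearMap.funLeft]⟩) hΨ hu hv huv
    (fun a b hb => hcent _ (hc₁ a b hb)) (fun b => hcent _ (hc₂ b))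
  obtain ⟨s, hs⟩ := (mem_range_iff (n := Fintype.card γ) (q := q) (A g)).1 ⟨fun x y => by
      obtain ⟨x, rfl⟩ := Φ.surjective x
      obtain ⟨y, rfl⟩ := Φ.surjective y
      show hermForm _ F q ((A g).1 *ᵥ Φ x) ((A g).1 *ᵥ Φ y) = hermForm _ F q (Φ x) (Φ y)
      rw [hap, hap, hΦ, hΦ, hW.dot_image hg],
    MonoidHom.mem_ker.2 (Units.ext ((hdet g).trans hd))⟩
  obtain ⟨g', hg', hgg⟩ : toGLHom s ∈ M.map A := (Subgroup.eq_top_iff' L).1 htop s
  have e : g' = g := by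
    refine Units.ext (Matrix.ext_iff_mulVec.2 fun x => Φ.injective ?_)
    rw [← hap, ← hap, hgg, hs]
  exact e ▸ hg'

end CfsgLib.Classical.TensorWreathU
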