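import Cfsg.Agent.Lib.Classical.TensorWreathU.StepC

set_option autoImplicit false
set_option linter.unusedSectionVars false

/-!
Odd characteristic: a proper intermediate group is monomial.
-/

namespace CfsgLib.Classical.TensorWreathU

open Matrix CfsgLib.Classical.TensorWreath
open CfsgLib.Classical.TensorUnitary (cj ph IsHerm Iso adj tau Zm)
open CfsgLib.Classical.TensorMax (kc kr)
open CfsgLib.ClassicalAut (Unitary.Conj)
open scoped MatrixGroups Kronecker

variable {F : Type*} [Field F] [Finite F] {q : ℕ} {K : Unitary.Conj F q}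
variable {τ : Type} [Fintype τ] [DecidableEq τ] {m : ℕ}
variable {J : Matrix (Fin m) (Fin m) F} {M : Subgroup (GL (Ix τ m) F)} {g : GL (Ix τ m) F} {i : τ}

namespace Ctx

/-- An element generating a `p`-group with a root is monomial. -/
theorem mono_of_pGroup (C : Ctx K J M) {p : ℕ} [Fact p.Prime] {X : Matrix (Ix τ m) (Ix τ m) F} (hX : URoot K J i X)
    {x k : GL (Ix τ m) F} (hx : x ∈ M) (hxv : x.1 = 1 + X) (hxm : Mono x.1) (hk : k ∈ M)
    (hP : IsPGroup p (Subgroup.closure ({x, k} : Set (GL (Ix τ m) F)))) : Mono k.1 := by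
  haveI := C.hyp.neZero
  haveI : Finite (GL (Ix τ m) F) := inferInstance
  by_contra hkm
  obtain ⟨e, he, heH, hconj⟩ := exists_conj_mem (H := monoGroup F τ m) hP
    (fun hle => hkm (hle (Subgroup.subset_closure (Set.mem_insert_of_mem _ (Set.mem_singleton _)))))
    (Subgroup.subset_closure (Set.mem_insert _ _)) hxm
  refine heH (C.mono_of_conj_root (closure_pair_le hx hk he) hX ?_)
  rw [← conj_val e hxv]
  exact hconj

/-- A quadratic element with the range of a root on one vector of the factor is monomial. -/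
theorem mono_of_line (C : Ctx K J M) {k : GL (Ix τ m) F} (hk : k ∈ M) {Y : Matrix (Ix τ m) (Ix τ m) F}
    (hkv : k.1 = 1 + Y) (hY : Y * Y = 0) (hr : Y.rank = Fintype.card (Ix (Rest i) m)) {l : Fin m → F}
    (hl : l ≠ 0)
    (hS : ∀ f : Fin m → F, f ⬝ᵥ l = 0 → embM i (Matrix.vecMulVec (Pi.single ⟨0, by have := C.hyp.three; omega⟩ 1) f) * Y = 0) :
    Mono k.1 := by
  haveI := C.hyp.neZero
  have hJ := C.hyp.hJ
  haveI : Nonempty (Ix (Rest i) m) := ⟨fun _ => 0⟩
  obtain ⟨W, hW⟩ : ∃ W : Matrix (Ix (Rest i) m × Fin m) (Ix (Rest i) m × Fin m) F, W = JJ J (Rest i) ⊗ₖ J := ⟨_, rfl⟩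
  obtain ⟨Z, hZ⟩ : ∃ Z, Z = (TensorWreathU.two i k).1 - 1 := ⟨_, rfl⟩
  have hYZ : Y = back i Z := by
    have h1 : back i (Z + 1) = back i Z + 1 := by rw [back_add, back_one]
    rw [hZ, sub_add_cancel, back_two, hkv, add_comm (back i _) 1, add_right_inj] at h1
    rw [h1, hZ]
  have hkr : ∀ f : Fin m → F, f ⬝ᵥ l = 0 →
      (kr (Ix (Rest i) m) f : Matrix (Ix (Rest i) m) (Ix (Rest i) m × Fin m) F) * Z = 0 := by
    intro f hf
    have h1 := hS f hf
    rw [hYZ, embM_eq_ins, ← back_kron, ← back_mul, ← TensorMax.kc_mul_kr,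
      show (0 : Matrix (Ix τ m) (Ix τ m) F) = back i 0 by ext x y; simp [back]] at h1
    have h2 := back_inj i h1
    have h3 := congrArg (fun X => (kr (Ix (Rest i) m) (Pi.single (⟨0, by have := C.hyp.three; omega⟩ : Fin m) (1 : F)) :
      Matrix (Ix (Rest i) m) (Ix (Rest i) m × Fin m) F) * X) h2
    simp only [← Matrix.mul_assoc, TensorMax.kr_mul_kc, Matrix.mul_zero] at h3
    simpa using h3
  obtain ⟨φ, hφ⟩ := TensorMax.exists_dual_one hl
  obtain ⟨G, hG⟩ : ∃ G, G = (kr (Ix (Rest i) m) φ : Matrix (Ix (Rest i) m) (Ix (Rest i) m × Fin m) F) * Z := ⟨_, rfl⟩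
  have kra : ∀ (f : Fin m → F) (a : Ix (Rest i) m) (y : Ix (Rest i) m × Fin m),
      ((kr (Ix (Rest i) m) f : Matrix (Ix (Rest i) m) (Ix (Rest i) m × Fin m) F) * Z) a y =
        f ⬝ᵥ fun k => Z (a, k) y := fun f a y => by
    rw [Matrix.mul_apply, Fintype.sum_prod_type, Fintype.sum_eq_single a]
    · simp [TensorMax.kr_apply, dotProduct]
    · intro b hb; simp [TensorMax.kr_apply, Ne.symm hb]
  have hZ1 : Z = (kc (Ix (Rest i) m) l : Matrix (Ix (Rest i) m × Fin m) (Ix (Rest i) m) F) * G := by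
    ext ⟨a, c⟩ y
    have h1 := hkr (Pi.single c 1 - l c • φ) (by
      rw [sub_dotProduct, smul_dotProduct, hφ, single_dotProduct, smul_eq_mul, one_mul, mul_one, sub_self])
    have h2 := congrFun₂ h1 a y
    rw [kra, Matrix.zero_apply] at h2
    have e1 : ((kc (Ix (Rest i) m) l : Matrix (Ix (Rest i) m × Fin m) (Ix (Rest i) m) F) * G) (a, c) y = l c * G a y :=
      TensorSymp.kc_mul_apply _ _ _ _ _
    rw [e1, hG, kra]
    simp only [sub_dotProduct, smul_dotProduct, single_dotProduct, one_mul, smul_eq_mul] at h2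
    linear_combination h2
  have hZ2 : Z * Z = 0 := back_inj i (by
    rw [back_mul, ← hYZ, hY]; ext x y; simp [back])
  have hIs : cj K Z * W = -(W * Z) := by
    have hiso := (iso_two (K := K) (J := J) i).2 (C.hyp.le k hk).1
    rw [show (TensorWreathU.two i k).1 = 1 + Z by rw [hZ, add_sub_cancel], ← hW] at hiso
    have h1 : cj K (1 + Z) * W * (1 + Z) = W := hiso
    have h2 := congrArg (· * (1 - Z)) h1
    simp only [Matrix.mul_assoc] at h2
    rw [show (1 + Z) * (1 - Z) = 1 by rw [mul_sub, mul_one, add_mul, one_mul, hZ2]; abel, Matrix.mul_one,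
      TensorUnitary.cj_add, TensorUnitary.cj_one, Matrix.add_mul, Matrix.one_mul, Matrix.mul_sub, Matrix.mul_one] at h2
    linear_combination (norm := abel) h2
  obtain ⟨z, lz⟩ := hJ.exists_one hl
  obtain ⟨D, hD⟩ : ∃ D, D = G * (kc (Ix (Rest i) m) z : Matrix (Ix (Rest i) m × Fin m) (Ix (Rest i) m) F) := ⟨_, rfl⟩
  have hWh : IsHerm K W := by rw [hW]; exact (C.hyp.hyp0 C.two i).hAB
  have hfac : Z = -(W⁻¹ * (cj K G * (JJ J (Rest i) * kr (Ix (Rest i) m) (ph K J l)))) := by
    rw [← TensorUnitary.cj_kc_form K l (JJ J (Rest i)) J, ← hW, ← Matrix.mul_assoc (cj K G), ← TensorUnitary.cj_mul,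
      ← hZ1, hIs, Matrix.mul_neg, neg_neg, ← Matrix.mul_assoc, Matrix.nonsing_inv_mul _ hWh.isUnit, Matrix.one_mul]
  have hZD : Z = Zm K J l D := by
    rw [Zm, hD, ← Matrix.mul_assoc (kc (Ix (Rest i) m) l), ← hZ1]
    conv_rhs => rw [hfac]
    simp only [Matrix.neg_mul, Matrix.mul_assoc, ← Matrix.mul_assoc (kr _ _) (kc _ _), TensorMax.kr_mul_kc, lz,
      one_smul, Matrix.one_mul]
    exact hfac
  have hYins : Y = ins i D (nu K J l) := by rw [hYZ, hZD, TensorUnitary.zm_kron, back_kron, nu]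
  have hll : ph K J l ⬝ᵥ l = 0 := by
    by_contra hne
    have h1 := hY
    rw [hYins, ins_mul, nu_mul, ins_smul_right, smul_eq_zero, or_iff_right hne, ← nu] at h1
    rcases ins_eq_zero h1 with h1 | h1
    swap
    · exact nu_ne_zero hJ hl h1
    have h2 := two_mul_rank_le h1
    have h3 : Y.rank ≤ D.rank := by rw [hYins, nu]; exact rank_ins_vecMulVec_le i D _ _
    have hpos : 0 < Fintype.card (Ix (Rest i) m) := Fintype.card_pos
    omega
  obtain ⟨s, hs⟩ := C.hyp.small (fun j hj => (C.low j hj).1) C.two C.notTop i l hll hl D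
    ⟨TensorWreathU.two i k, ⟨k, hk, rfl⟩, by rw [← hZD, hZ, add_sub_cancel]⟩
  rw [hkv, hYins, hs, ins_smul_left, ← embM_eq_ins, ← embM_smul, ← embM_one (F := F) (m := m) i, ← embM_add]
  exact mono_pure _

set_option maxHeartbeats 1200000 in
/-- The odd characteristic case. -/
theorem allMono_odd (C : Ctx K J M) (h2 : (2 : F) ≠ 0) (hg : g ∈ M) : Mono g.1 := by
  have hm := C.hyp.three
  haveI := C.hyp.neZero
  have hJ := C.hyp.hJ
  obtain ⟨p, hp, hcp⟩ := ringChar_prime (F := F)
  haveI := Fact.mk hp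
  haveI := hcp
  have hp2 : p ≠ 2 := fun e => by subst e; exact h2 (CharP.cast_eq_zero F 2)
  haveI : Nonempty τ := Fintype.card_pos_iff.1 (by have := C.two; omega)
  let i : τ := Classical.arbitrary τ
  obtain ⟨θ, hθ0, hθ⟩ := TensorUnitary.exists_skew K
  have hθs : θ + K.bar θ = 0 := by rw [hθ, add_neg_cancel]
  obtain ⟨w, hw0, hw, -⟩ := hJ.exists_iso_perp (fun x : Fin 0 => x.elim0) (by simp only [Fintype.card_fin]; omega)
  have hXw := uRoot_mk hw0 hw hθ0 hθs i
  obtain ⟨xw, hxwM, hxwv, -⟩ := C.exists_root hXw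
  obtain ⟨k, hk⟩ : ∃ k, k = g * xw * g⁻¹ := ⟨_, rfl⟩
  have hkM : k ∈ M := hk ▸ M.mul_mem (M.mul_mem hg hxwM) (M.inv_mem hg)
  obtain ⟨Y, hYdef⟩ : ∃ Y, Y = g.1 * embM i (θ • nu K J w) * (g⁻¹).1 := ⟨_, rfl⟩
  have hkv : k.1 = 1 + Y := by rw [hk, hYdef]; exact conj_val g hxwv
  by_cases hkm : Mono k.1
  · exact C.mono_of_conj_root hg hXw (hYdef ▸ hkv ▸ hkm)
  exfalso
  have hYY : Y * Y = 0 := by rw [hYdef, mul_inv_cancel_mid, hXw.sq_zero hJ, mul_zero, zero_mul]
  have hYr : Y.rank = Fintype.card (Ix (Rest i) m) := by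
    rw [hYdef, rank_conj]
    refine le_antisymm (hXw.rank_le hJ i) (le_trans ?_ (le_rank_embM i _))
    exact Nat.le_mul_of_pos_right _ (rank_pos (smul_nu_ne hJ hw0 hθ0))
  let a0 : Fin m := ⟨0, by omega⟩
  -- for every root, the range is next to a space of dimension two through its vector
  have key : ∀ u : Fin m → F, u ≠ 0 → ph K J u ⬝ᵥ u = 0 →
      ∃ R : Matrix (Fin m) (Fin m) F, R.rank ≤ 2 ∧ R *ᵥ u = (2 : F) • u ∧
        ∀ f : Fin m → F, f ᵥ* R = 0 → embM i (Matrix.vecMulVec (Pi.single a0 1) f) * Y = 0 := by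
    intro u hu0 hu
    obtain ⟨X, hXdef⟩ : ∃ X : Matrix (Ix τ m) (Ix τ m) F, X = embM i (θ • nu K J u) := ⟨_, rfl⟩
    have hX : URoot K J i X := hXdef ▸ uRoot_mk hu0 hu hθ0 hθs i
    obtain ⟨x, hxM, hxv, hxm⟩ := C.exists_root hX
    have hXX := hX.sq_zero hJ
    have hnp : ¬ IsPGroup p (Subgroup.closure ({x, k} : Set (GL (Ix τ m) F))) := fun hP =>
      hkm (C.mono_of_pGroup hX hxM hxv hxm hkM hP)
    obtain ⟨z, hz, hz2, hz1⟩ := QuadPairInvol.exists_invol hp2 hXX hYY hxv hkv hnp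
    obtain ⟨cX, cK⟩ := QuadPairInvol.invol_comm h2 hXX hYY hxv hkv hz hz2
    have hzM : z ∈ M := closure_pair_le hxM hkM hz
    obtain ⟨hs, σ, hzv⟩ := C.mono_of_commute_root hzM hX cX
    have hzd : (pureM hs * permM F m σ).det ≠ 0 := by rw [← hzv, (C.hyp.le z hzM).2]; exact one_ne_zero
    have hσ : σ i = i := fix_of_commute_embM hzd (smul_nu_ne_scalar hJ hu0 hu hθ0) (by
      rw [← hzv, ← hXdef]; exact cX)
    obtain ⟨hsplit, hA⟩ := split_mono (h := hs) hσ
    rw [← hzv] at hsplit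
    generalize pureM (Function.update hs i 1) * permM F m σ = A at hA hsplit
    have hhd : (pureM hs).det ≠ 0 := fun h0 => hzd (by rw [Matrix.det_mul, h0, zero_mul])
    have hzsq : z.1 * z.1 = 1 := by rw [← Units.val_mul, hz2, Units.val_one]
    have hzsq' := hzsq
    rw [hzv, mono_mul_self] at hzsq'
    obtain ⟨c, hc⟩ := (eq_one_of_pure_perm hm hzsq').2 i
    rw [Pi.mul_apply, show σ.symm i = i by rw [Equiv.symm_apply_eq, hσ]] at hc
    have hcomm : hs i * nu K J u = nu K J u * hs i := by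
      have h1 := cX
      rw [hsplit, hXdef, mul_assoc, ← hA, ← mul_assoc, ← mul_assoc, embM_mul, embM_mul] at h1
      have hu' : IsUnit A := by
        refine (Matrix.isUnit_iff_isUnit_det _).2 (IsUnit.mk0 _ fun h0 => ?_)
        have := (C.hyp.le z hzM).2
        rw [hsplit, Matrix.det_mul, h0, mul_zero] at this
        exact zero_ne_one this
      have h3 := embM_injective i (hu'.mul_right_cancel h1)
      rw [mul_smul_comm, smul_mul_assoc] at h3
      exact smul_right_injective _ hθ0 h3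
    obtain ⟨d, hd⟩ := hJ.exists_one hu0
    obtain ⟨β, hβ⟩ : ∃ β, β = (ph K J u ᵥ* hs i) ⬝ᵥ d := ⟨_, rfl⟩
    have hβu : hs i *ᵥ u = β • u := by
      have := congrArg (· *ᵥ d) hcomm
      rw [nu, Matrix.mul_vecMulVec, Matrix.vecMulVec_mul, Matrix.vecMulVec_mulVec, Matrix.vecMulVec_mulVec,
        op_smul_eq_smul, op_smul_eq_smul, hd, one_smul, ← hβ] at this
      exact this
    have hβφ : ph K J u ᵥ* hs i = β • ph K J u := by
      have h1 := hcomm
      rw [nu, Matrix.mul_vecMulVec, Matrix.vecMulVec_mul, hβu, Matrix.smul_vecMulVec, ← Matrix.vecMulVec_smul] at h1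
      funext x
      obtain ⟨a, ha⟩ := Function.ne_iff.1 hu0
      exact (mul_left_cancel₀ ha (congrFun₂ h1 a x)).symm
    have hβ0 : β ≠ 0 := fun h0 => det_ne_zero_of_pureM hhd i
      (Matrix.exists_mulVec_eq_zero_iff.1 ⟨u, hu0, by rw [hβu, h0, zero_smul]⟩)
    have hcβ : c = β * β := by
      have h1 := congrArg (· *ᵥ u) hc
      rw [← Matrix.mulVec_mulVec, hβu, Matrix.mulVec_smul, hβu, smul_smul, Matrix.smul_mulVec, Matrix.one_mulVec] at h1
      exact (smul_left_injective F hu0 h1).symm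
    obtain ⟨bb, hbb⟩ : ∃ bb, bb = β⁻¹ • hs i := ⟨_, rfl⟩
    have hbu : bb *ᵥ u = u := by rw [hbb, Matrix.smul_mulVec, hβu, smul_smul, inv_mul_cancel₀ hβ0, one_smul]
    have hbφ : ph K J u ᵥ* bb = ph K J u := by
      rw [hbb, Matrix.vecMul_smul, hβφ, smul_smul, inv_mul_cancel₀ hβ0, one_smul]
    have hb2 : bb * bb = 1 := by
      rw [hbb, smul_mul_smul_comm, hc, smul_smul, hcβ, ← mul_inv, inv_mul_cancel₀ (mul_ne_zero hβ0 hβ0), one_smul]
    obtain ⟨A0, hA0⟩ : ∃ A0, A0 = restM i (β • A) := ⟨_, rfl⟩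
    have hz' : z.1 = ins i A0 bb := by
      rw [hsplit, ← mul_one bb, ← one_mul A0, ← ins_mul, hA0, ← (hA.smul β).eq_ins, ← embM_eq_ins, hbb, embM_smul,
        smul_mul_smul_comm, inv_mul_cancel₀ hβ0, one_smul]
    have hA2 : A0 * A0 = 1 := by
      refine ins_one_injective i (show ins i (A0 * A0) 1 = ins i 1 1 from ?_)
      rw [ins_one_one, ← hzsq, hz', ins_mul, hb2]
    have hrangeU := QuadPairInvol.sub_one_mem_range hXX hYY hxv hkv hz
    have hfix : ∀ v, X *ᵥ v = 0 → Y *ᵥ v = 0 → z.1 *ᵥ v = v := by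
      intro v hv1 hv2
      have main : ∀ y ∈ Subgroup.closure ({x, k} : Set (GL (Ix τ m) F)), y.1 *ᵥ v = v := by
        intro y hy
        induction hy using Subgroup.closure_induction with
        | mem y hy =>
          rcases hy with rfl | rfl
          · rw [hxv, Matrix.add_mulVec, Matrix.one_mulVec, hv1, add_zero]
          · rw [hkv, Matrix.add_mulVec, Matrix.one_mulVec, hv2, add_zero]
        | one => rw [Units.val_one, Matrix.one_mulVec]
        | mul y w _ _ h1 h2 => rw [Units.val_mul, ← Matrix.mulVec_mulVec, h2, h1]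
        | inv y _ h1 =>
          conv_lhs => rw [← h1]
          rw [Matrix.mulVec_mulVec, y.inv_mul, Matrix.one_mulVec]
      exact main z hz
    have hupper : (z.1 - 1).rank ≤ 2 * (X * (z.1 - 1)).rank := by
      set Z := z.1 - 1 with hZ
      set W := LinearMap.range Z.mulVecLin
      have zW : ∀ w ∈ W, Z *ᵥ w = -(w + w) := by
        rintro _ ⟨v, rfl⟩
        rw [Matrix.mulVecLin_apply, Matrix.mulVec_mulVec, ← Matrix.add_mulVec, ← Matrix.neg_mulVec]
        congr 1
        rw [hZ, sub_mul, mul_sub, mul_sub, hzsq, one_mul, mul_one]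
        simp only [one_mul]
        abel
      have hKW : W.map Y.mulVecLin ≤ W := by
        rintro _ ⟨_, ⟨v, rfl⟩, rfl⟩
        refine ⟨Y *ᵥ v, ?_⟩
        simp only [Matrix.mulVecLin_apply, Matrix.mulVec_mulVec]
        rw [hZ, sub_mul, mul_sub, cK, one_mul, mul_one]
      have hle : W ≤ W.map X.mulVecLin ⊔ W.map Y.mulVecLin := by
        intro w hw
        obtain ⟨v, rfl⟩ := hw
        have h1 : Z *ᵥ v ∈ LinearMap.range X.mulVecLin ⊔ LinearMap.range Y.mulVecLin :=
          hrangeU (LinearMap.mem_range_self Z.mulVecLin v)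
        obtain ⟨_, ⟨u', rfl⟩, _, ⟨u'', rfl⟩, huv⟩ := Submodule.mem_sup.1 h1
        have h3 := zW _ (LinearMap.mem_range_self Z.mulVecLin v)
        rw [Matrix.mulVecLin_apply] at h3 huv ⊢
        simp only [Matrix.mulVecLin_apply] at huv
        have e3 : Z *ᵥ (Z *ᵥ v) = X *ᵥ (Z *ᵥ u') + Y *ᵥ (Z *ᵥ u'') := by
          rw [← huv, Matrix.mulVec_add, Matrix.mulVec_mulVec, Matrix.mulVec_mulVec, Matrix.mulVec_mulVec,
            Matrix.mulVec_mulVec, hZ, sub_mul, sub_mul, mul_sub, mul_sub, cX, cK, one_mul, one_mul, mul_one, mul_one]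
        have e4 : (-2 : F) • (Z *ᵥ v) = Z *ᵥ (Z *ᵥ v) := by rw [h3, neg_smul, two_smul]
        have hmem : (-2 : F) • (Z *ᵥ v) ∈ W.map X.mulVecLin ⊔ W.map Y.mulVecLin := by
          rw [e4, e3]
          exact Submodule.add_mem_sup ⟨_, LinearMap.mem_range_self Z.mulVecLin u', rfl⟩
            ⟨_, LinearMap.mem_range_self Z.mulVecLin u'', rfl⟩
        exact (Submodule.smul_mem_iff _ (neg_ne_zero.2 h2)).1 hmem
      have hinj : Module.finrank F (W.map Y.mulVecLin) ≤ Module.finrank F ((W.map Y.mulVecLin).map X.mulVecLin) := by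
        refine le_of_eq (LinearEquiv.finrank_eq ?_)
        refine LinearEquiv.ofBijective (X.mulVecLin.restrict (p := W.map Y.mulVecLin)
          (q := (W.map Y.mulVecLin).map X.mulVecLin) fun v hv => Submodule.mem_map_of_mem hv) ⟨?_, ?_⟩
        · rw [← LinearMap.ker_eq_bot, Submodule.eq_bot_iff]
          rintro ⟨v, hv⟩ hv0
          have hv1 : X *ᵥ v = 0 := congrArg Subtype.val (LinearMap.mem_ker.1 hv0)
          have hv2 : Y *ᵥ v = 0 := by
            obtain ⟨w, -, rfl⟩ := hv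
            rw [Matrix.mulVecLin_apply, Matrix.mulVec_mulVec, hYY, Matrix.zero_mulVec]
          have h3 := zW v (hKW hv)
          rw [hZ, Matrix.sub_mulVec, hfix v hv1 hv2, Matrix.one_mulVec, sub_self, eq_comm, neg_eq_zero, ← two_smul F,
            smul_eq_zero] at h3
          exact Subtype.ext (h3.resolve_left h2)
        · rintro ⟨_, v, hv, rfl⟩
          exact ⟨⟨v, hv⟩, rfl⟩
      have hmap : W.map X.mulVecLin = LinearMap.range (X * Z).mulVecLin := by
        rw [Matrix.mulVecLin_mul, LinearMap.range_comp]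
      calc Z.rank ≤ Module.finrank F ↥(W.map X.mulVecLin ⊔ W.map Y.mulVecLin) := Submodule.finrank_mono hle
        _ ≤ Module.finrank F (W.map X.mulVecLin) + Module.finrank F (W.map Y.mulVecLin) :=
            Submodule.finrank_add_le_finrank_add_finrank _ _
        _ ≤ Module.finrank F (W.map X.mulVecLin) + Module.finrank F ((W.map Y.mulVecLin).map X.mulVecLin) :=
            Nat.add_le_add_left hinj _
        _ ≤ Module.finrank F (W.map X.mulVecLin) + Module.finrank F (W.map X.mulVecLin) :=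
            Nat.add_le_add_left (Submodule.finrank_mono (Submodule.map_mono hKW)) _
        _ = 2 * (X * Z).rank := by rw [hmap, two_mul]; rfl
    have hXZ : (X * (z.1 - 1)).rank ≤ (A0 - 1).rank := by
      rw [hz', mul_sub, mul_one, hXdef, embM_eq_ins, ins_mul, one_mul, smul_mul_assoc, nu, Matrix.vecMulVec_mul, hbφ,
        ← ins_sub_left, ← Matrix.smul_vecMulVec]
      exact rank_ins_vecMulVec_le i _ _ _
    have hA1 : A0 ≠ 1 := by
      intro h
      have hz0 : (z.1 - 1).rank = 0 := by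
        rw [h, sub_self, Matrix.rank_zero] at hXZ
        omega
      by_contra
      exact absurd (rank_pos (sub_ne_zero.2 fun e : z.1 = 1 => hz1 (Units.ext e))) (by omega)
    have hb1 : bb ≠ 1 := by
      intro hb1
      have h1 := rank_mul_rank_le_ins i (A0 - 1) (1 : Matrix (Fin m) (Fin m) F)
      rw [Matrix.rank_one, Fintype.card_fin, ins_sub_left, ins_one_one] at h1
      rw [hb1] at hz'
      rw [← hz'] at h1
      have := rank_pos (sub_ne_zero.2 hA1)
      nlinarith
    have hRu : (bb + 1) *ᵥ u = (2 : F) • u := by rw [Matrix.add_mulVec, Matrix.one_mulVec, hbu, two_smul]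
    have hbp : 2 ≤ (bb + 1).rank := by
      by_contra hlt
      obtain ⟨v, f, hvf⟩ := exists_vecMulVec_of_rank_le_one (show (bb + 1).rank ≤ 1 by omega)
      have e1 := hRu
      rw [hvf, Matrix.vecMulVec_mulVec, op_smul_eq_smul] at e1
      have hfu : f ⬝ᵥ u ≠ 0 := fun h0 => by
        rw [h0, zero_smul, eq_comm, smul_eq_zero] at e1
        exact e1.elim h2 hu0
      have e2 : ph K J u ᵥ* (bb + 1) = (2 : F) • ph K J u := by
        rw [Matrix.vecMul_add, Matrix.vecMul_one, hbφ, two_smul]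
      have e3 : ph K J u ⬝ᵥ v = 0 := by
        have := congrArg (ph K J u ⬝ᵥ ·) e1
        simp only [dotProduct_smul, hu, smul_eq_mul, mul_zero, mul_eq_zero] at this
        exact this.resolve_left hfu
      rw [hvf, Matrix.vecMul_vecMulVec, e3, zero_smul, eq_comm, smul_eq_zero] at e2
      exact e2.elim h2 (hJ.ph_ne hu0)
    by_cases hAp : A0 = -1
    swap
    · exfalso
      have eQ : (z.1 - 1) * ins i 1 (bb + 1) = ins i (A0 - 1) (bb + 1) := by
        rw [hz', sub_mul, one_mul, ins_mul, mul_one, mul_add, hb2, mul_one, add_comm 1 bb, ← ins_sub_left]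
      have eL : ins i 1 (bb - 1) * (z.1 - 1) = ins i (-(A0 + 1)) (bb - 1) := by
        rw [hz', mul_sub, mul_one, ins_mul, one_mul, sub_mul, hb2, one_mul,
          show -(A0 + 1) = (-1 : F) • (A0 + 1) by simp [add_comm],
          ins_smul_left, ins_add_left, ins_sub_right, ins_sub_right, ins_sub_right]
        simp
        abel
      have hadd := rank_add_rank_le (X := z.1 - 1) (Q := ins i 1 (bb + 1)) (L := ins i 1 (bb - 1)) (by
        rw [eL, ins_mul, mul_one, sub_mul, mul_add, hb2, mul_one, one_mul, add_comm bb, sub_self]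
        ext u v; simp [ins_apply])
      rw [eQ, eL] at hadd
      have h3 := rank_mul_rank_le_ins i (A0 - 1) (bb + 1)
      have h4 := rank_mul_rank_le_ins i (-(A0 + 1)) (bb - 1)
      have h5 : 0 < (-(A0 + 1)).rank :=
        rank_pos (neg_ne_zero.2 fun h => hAp (eq_neg_of_add_eq_zero_left h))
      have h6 := rank_pos (sub_ne_zero.2 hb1)
      have h7 := rank_pos (sub_ne_zero.2 hA1)
      nlinarith
    have hzR : z.1 - 1 = embM i (-(bb + 1)) := by
      rw [hz', hAp, show (-1 : Matrix (Ix (Rest i) m) (Ix (Rest i) m) F) = (-1 : F) • 1 by simp, ins_smul_left,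
        ← embM_eq_ins, ← embM_smul, ← embM_one (F := F) (m := m) i, ← embM_sub]
      congr 1
      rw [neg_smul, one_smul]; abel
    have hRr : (bb + 1).rank ≤ 2 := by
      have h1 := le_rank_embM i (-(bb + 1))
      rw [← hzR, show -(bb + 1) = (-1 : F) • (bb + 1) by rw [neg_smul, one_smul],
        Matrix.rank_smul_of_mem_nonZeroDivisors _ (mem_nonZeroDivisors_of_ne_zero (neg_ne_zero.2 one_ne_zero))] at h1
      have h2' := hX.rank_le hJ i
      have h3 : (z.1 - 1).rank ≤ 2 * Fintype.card (Ix (Rest i) m) :=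
        hupper.trans (Nat.mul_le_mul_left 2 ((Matrix.rank_mul_le_left _ _).trans h2'))
      have hpos : 0 < Fintype.card (Ix (Rest i) m) := Fintype.card_pos
      nlinarith
    refine ⟨bb + 1, hRr, hRu, fun f hf => ?_⟩
    have heq : LinearMap.range (z.1 - 1).mulVecLin = LinearMap.range X.mulVecLin ⊔ LinearMap.range Y.mulVecLin := by
      refine Submodule.eq_of_le_of_finrank_le hrangeU ((Submodule.finrank_add_le_finrank_add_finrank _ _).trans ?_)
      show X.rank + Y.rank ≤ (z.1 - 1).rank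
      have h1 := le_rank_embM i (-(bb + 1))
      rw [← hzR, show -(bb + 1) = (-1 : F) • (bb + 1) by rw [neg_smul, one_smul],
        Matrix.rank_smul_of_mem_nonZeroDivisors _ (mem_nonZeroDivisors_of_ne_zero (neg_ne_zero.2 one_ne_zero))] at h1
      have h2' := hX.rank_le hJ i
      rw [hYr]
      nlinarith
    refine Matrix.ext_of_mulVec_single fun y => ?_
    have h1 : Y *ᵥ Pi.single y 1 ∈ LinearMap.range (z.1 - 1).mulVecLin := by
      rw [heq]; exact Submodule.mem_sup_right ⟨_, rfl⟩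
    obtain ⟨w, hw'⟩ := h1
    rw [Matrix.mulVecLin_apply, hzR] at hw'
    rw [← Matrix.mulVec_mulVec, ← hw', Matrix.mulVec_mulVec, embM_mul, mul_neg, Matrix.vecMulVec_mul, hf,
      Matrix.vecMulVec_zero, neg_zero, embM_zero, Matrix.zero_mulVec, Matrix.zero_mulVec]
  -- two such spaces meet in at most a line
  let S : Submodule F (Fin m → F) :=
    { carrier := {f | embM i (Matrix.vecMulVec (Pi.single a0 1) f) * Y = 0}
      add_mem' := fun {a b} (ha : _ = 0) (hb : _ = 0) => by
        show _ = 0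
        rw [Matrix.vecMulVec_add, embM_add, add_mul, ha, hb, add_zero]
      zero_mem' := by show _ = 0; rw [Matrix.vecMulVec_zero, embM_zero, zero_mul]
      smul_mem' := fun c a (ha : _ = 0) => by
        show _ = 0
        rw [Matrix.vecMulVec_smul, embM_smul, smul_mul_assoc, ha, smul_zero] }
  obtain ⟨R1, hR1, hR1u, hR1S⟩ := key w hw0 hw
  obtain ⟨u', hu'0, hu', hout⟩ : ∃ u', u' ≠ 0 ∧ ph K J u' ⬝ᵥ u' = 0 ∧
      ∃ f : Fin m → F, f ᵥ* R1 = 0 ∧ f ⬝ᵥ u' ≠ 0 := by
    obtain ⟨f, hf0, hf⟩ : ∃ f : Fin m → F, f ≠ 0 ∧ f ᵥ* R1 = 0 := by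
      refine Matrix.exists_vecMul_eq_zero_iff.2 ?_
      by_contra h0
      have := Matrix.rank_of_isUnit R1 ((Matrix.isUnit_iff_isUnit_det _).2 (Ne.isUnit h0))
      rw [Fintype.card_fin] at this
      omega
    by_contra hh
    push Not at hh
    refine hf0 (funext fun x => ?_)
    have hle : Submodule.span F {v | v ≠ 0 ∧ ph K J v ⬝ᵥ v = 0 ∧ ph K J w ⬝ᵥ v ≠ 0} ≤
        LinearMap.ker ({ toFun := fun v => f ⬝ᵥ v, map_add' := dotProduct_add f,
                         map_smul' := fun c v => dotProduct_smul c f v } : (Fin m → F) →ₗ[F] F) :=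
      Submodule.span_le.2 fun v hv => hh v hv.1 hv.2.1 f hf
    have := hle (span_iso_off hJ hw0 hw (Pi.single x 1))
    simpa using this
  obtain ⟨f0, hf0, hf0u⟩ := hout
  obtain ⟨R2, hR2, hR2u, hR2S⟩ := key u' hu'0 hu'
  let A2 : Submodule F (Fin m → F) := LinearMap.ker R2.vecMulLinear
  have hlt : A2 < S := by
    refine lt_of_le_of_ne (fun f hf => hR2S f (LinearMap.mem_ker.1 hf)) fun e => hf0u ?_
    have h1 : f0 ∈ A2 := e ▸ (hR1S f0 hf0 : f0 ∈ S)
    have h2' : f0 ᵥ* R2 = 0 := LinearMap.mem_ker.1 h1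
    have := congrArg (f0 ⬝ᵥ ·) hR2u
    simp only [Matrix.dotProduct_mulVec, h2', zero_dotProduct, dotProduct_smul, smul_eq_mul] at this
    exact (mul_eq_zero.1 this.symm).resolve_left h2
  have hA2d : m ≤ Module.finrank F A2 + 2 := by
    have h1 := LinearMap.finrank_range_add_finrank_ker R2.vecMulLinear
    rw [Module.finrank_pi, Fintype.card_fin] at h1
    change _ + Module.finrank F A2 = m at h1
    have e : Module.finrank F (LinearMap.range R2.vecMulLinear) = R2.rank := by
      rw [← Matrix.rank_transpose, Matrix.rank, ← Matrix.mulVecLin_transpose]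
    omega
  have hSd : m ≤ Module.finrank F S + 1 := by
    have := Submodule.finrank_lt_finrank_of_lt hlt
    omega
  obtain ⟨l, hl, hlS⟩ : ∃ l : Fin m → F, l ≠ 0 ∧ ∀ f, f ⬝ᵥ l = 0 → f ∈ S := by
    by_cases hST : S = ⊤
    · exact ⟨w, hw0, fun f _ => hST ▸ Submodule.mem_top⟩
    obtain ⟨φ, hφ0, hφ⟩ := Submodule.exists_dual_map_eq_bot_of_lt_top (lt_top_iff_ne_top.2 hST) inferInstance
    obtain ⟨l, hl⟩ : ∃ l : Fin m → F, l = fun x => φ (Pi.single x 1) := ⟨_, rfl⟩
    have hφl : ∀ f, φ f = f ⬝ᵥ l := fun f => by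
      conv_lhs => rw [pi_eq_sum_univ' f]
      simp [map_sum, map_smul, dotProduct, hl]
    have hl0 : l ≠ 0 := fun e => hφ0 (LinearMap.ext fun f => by rw [hφl, e, dotProduct_zero]; rfl)
    refine ⟨l, hl0, fun f hf => ?_⟩
    have hle : S ≤ LinearMap.ker φ := fun v hv => by
      have : φ v ∈ S.map φ := ⟨v, hv, rfl⟩
      rwa [hφ, Submodule.mem_bot] at this
    have hker : Module.finrank F (LinearMap.ker φ) < m := by
      have := Submodule.finrank_lt (show LinearMap.ker φ ≠ ⊤ by rwa [Ne, LinearMap.ker_eq_top])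
      rwa [Module.finrank_pi, Fintype.card_fin] at this
    have := Submodule.eq_of_le_of_finrank_le hle (by omega)
    rw [this, LinearMap.mem_ker, hφl, hf]
  exact hkm (C.mono_of_line hkM hkv hYY hYr hl fun f hf => hlS f hf)

end Ctx

end CfsgLib.Classical.TensorWreathU
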