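import Cfsg.Agent.Lib.Classical.TensorWreathU.StepC

set_option autoImplicit false
set_option linter.unusedSectionVars false

/-!
An element commuting with two orthogonal roots at one factor, taken together, is monomial.
-/

namespace CfsgLib.Classical.TensorWreathU

open Matrix CfsgLib.Classical.TensorWreath
open CfsgLib.Classical.TensorUnitary (cj ph IsHerm Iso adj tau trl Zm Rk)
open CfsgLib.Classical.TensorMax (kc kr)
open CfsgLib.ClassicalAut (Unitary.Conj)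
open scoped MatrixGroups Kronecker

variable {F : Type*} [Field F] [Finite F] {q : ℕ} {K : Unitary.Conj F q}

section block

variable {α β : Type} [Fintype α] [DecidableEq α] [Fintype β] [DecidableEq β]
variable {JA : Matrix α α F} {JB : Matrix β β F} {M : Subgroup (GL (α × β) F)}

/-- The elements of the block of two orthogonal isotropic vectors are in the second factor. -/
theorem block_scalar (H : Weak K JA JB M) (hS : TensorUnitary.Small K JB M) {u u' z : β → F} (hu : ph K JB u ⬝ᵥ u = 0)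
    (hu' : ph K JB u' ⬝ᵥ u' = 0) (huu : ph K JB u ⬝ᵥ u' = 0) (hu0 : u' ≠ 0) (hz : ph K JB z ⬝ᵥ z = 0)
    (hzu : ph K JB z ⬝ᵥ u = 1) (hu'z : ph K JB u' ⬝ᵥ z = 0) {A B C D : Matrix α α F}
    (hA : adj K JA A = -A) (hB : adj K JA B = -C)
    (h : TensorMax.InM M (1 + (A ⊗ₖ Rk K JB u u + B ⊗ₖ Rk K JB u u' + C ⊗ₖ Rk K JB u' u + D ⊗ₖ Rk K JB u' u'))) :
    ∃ n : Matrix β β F, A ⊗ₖ Rk K JB u u + B ⊗ₖ Rk K JB u u' + C ⊗ₖ Rk K JB u' u + D ⊗ₖ Rk K JB u' u' =
      (1 : Matrix α α F) ⊗ₖ n := by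
  haveI : Nonempty α := Fintype.card_pos_iff.1 (by have := H.two_le; omega)
  have hw'u := H.hB.orth_comm huu
  let P : (β → F) → Prop := fun x => x = u ∨ x = u'
  have orth : ∀ a b, P a → P b → ph K JB a ⬝ᵥ b = 0 := by
    rintro a b (rfl | rfl) (rfl | rfl) <;> assumption
  obtain ⟨E, hE⟩ : ∃ E : Matrix α α F → Matrix α α F → Matrix α α F → Matrix α α F → Matrix (α × β) (α × β) F,
      E = fun X Y Z V => X ⊗ₖ Rk K JB u u + Y ⊗ₖ Rk K JB u u' + Z ⊗ₖ Rk K JB u' u + V ⊗ₖ Rk K JB u' u' :=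
    ⟨_, rfl⟩
  have hmul : ∀ X Y Z V X' Y' Z' V', E X Y Z V * E X' Y' Z' V' = 0 := by
    intro X Y Z V X' Y' Z' V'
    have r : ∀ a b a' b', P b → P a' → Rk K JB a b * Rk K JB a' b' = 0 := fun a b a' b' hb ha' => by
      rw [Rk, Rk, Matrix.vecMulVec_mul_vecMulVec, orth b a' hb ha', zero_smul, Matrix.vecMulVec_zero]
    have k0 : ∀ S : Matrix α α F, S ⊗ₖ (0 : Matrix β β F) = 0 := fun S => by ext ⟨i, j⟩ ⟨k, l⟩; simp
    simp only [hE, Matrix.add_mul, Matrix.mul_add, ← Matrix.mul_kronecker_mul, r _ _ _ _ (Or.inl rfl) (Or.inl rfl),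
      r _ _ _ _ (Or.inl rfl) (Or.inr rfl), r _ _ _ _ (Or.inr rfl) (Or.inl rfl),
      r _ _ _ _ (Or.inr rfl) (Or.inr rfl), k0, add_zero]
  let L : Matrix α α F → Matrix α α F → Matrix α α F → Matrix α α F → Prop := fun X Y Z V =>
    TensorMax.InM M (1 + E X Y Z V)
  have hEadd : ∀ X Y Z V X' Y' Z' V', E (X + X') (Y + Y') (Z + Z') (V + V') = E X Y Z V + E X' Y' Z' V' := by
    intros; simp only [hE, Matrix.add_kronecker]; abel
  have hLsub : ∀ X Y Z V X' Y' Z' V', L X Y Z V → L X' Y' Z' V' → L (X - X') (Y - Y') (Z - Z') (V - V') := by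
    rintro X Y Z V X' Y' Z' V' ⟨a, ha, ha'⟩ ⟨b, hb, hb'⟩
    refine ⟨a * b⁻¹, M.mul_mem ha (M.inv_mem hb), ?_⟩
    have hsplit : E X Y Z V = E (X - X') (Y - Y') (Z - Z') (V - V') + E X' Y' Z' V' := by
      rw [← hEadd]; simp only [sub_add_cancel]
    have hbi : (b⁻¹).1 = 1 - E X' Y' Z' V' := by
      refine left_inv_eq_right_inv (a := b.1) b.inv_mul ?_
      rw [hb', Matrix.mul_sub, Matrix.mul_one, Matrix.add_mul, Matrix.one_mul, hmul, add_zero, add_sub_cancel_right]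
    rw [Units.val_mul, hbi, ha', hsplit]
    simp only [Matrix.add_mul, Matrix.mul_sub, Matrix.one_mul, Matrix.mul_one, hmul, sub_zero]
    abel
  have k1 : ∀ (S : Matrix α α F) (T : Matrix β β F), ((1 : Matrix α α F) ⊗ₖ T) * (S ⊗ₖ (1 : Matrix β β F)) = S ⊗ₖ T :=
    fun S T => by rw [← Matrix.mul_kronecker_mul, Matrix.one_mul, Matrix.mul_one]
  -- moving `u` along `u'`
  have hmove : ∀ a : F, ∀ X Y Z V, L X Y Z V →
      L X (Y + K.bar a • X) (Z + a • X) (V + a • Y + K.bar a • Z + (a * K.bar a) • X) := by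
    intro a X Y Z V ⟨g, hg, hg'⟩
    obtain ⟨s, hs⟩ : ∃ s, s = -K.bar a := ⟨_, rfl⟩
    obtain ⟨T, hT⟩ : ∃ T, T = trl K JB u' (s • z) 0 := ⟨_, rfl⟩
    have hwp : ph K JB u' ⬝ᵥ (s • z) = 0 := by rw [dotProduct_smul, hu'z, smul_zero]
    have hk : (0 : F) + K.bar 0 = -(ph K JB (s • z) ⬝ᵥ (s • z)) := by
      rw [TensorUnitary.ph_smul, smul_dotProduct, dotProduct_smul, hz, smul_zero, smul_zero, map_zero, add_zero, neg_zero]
    have hTi : Iso K JB T := hT ▸ H.hB.iso_trl hu' hwp hk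
    have hTu : T *ᵥ u = u + a • u' := by
      rw [hT, TensorUnitary.trl_apply, TensorUnitary.ph_smul, smul_dotProduct, hzu, hw'u, hs, map_neg, K.bar_bar]
      module
    have hTu' : T *ᵥ u' = u' := by
      rw [hT, TensorUnitary.trl_apply, hu', TensorUnitary.ph_smul, smul_dotProduct, H.hB.orth_comm hu'z]
      module
    obtain ⟨t, ht, ht'⟩ := H.right T hTi (hT ▸ H.hB.det_trl hu' hwp 0)
    have hTT := Matrix.mul_nonsing_inv T (H.hB.det_iso hTi)
    have hti : (t⁻¹).1 = (1 : Matrix α α F) ⊗ₖ T⁻¹ := by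
      refine left_inv_eq_right_inv (a := t.1) t.inv_mul ?_
      rw [ht', ← Matrix.mul_kronecker_mul, Matrix.one_mul, hTT, Matrix.one_kronecker_one]
    refine ⟨t * g * t⁻¹, M.mul_mem (M.mul_mem ht hg) (M.inv_mem ht), ?_⟩
    rw [Units.val_mul, Units.val_mul, hti, ht', hg', hE]
    simp only [Matrix.mul_add, Matrix.add_mul, Matrix.mul_one, Matrix.one_mul, ← Matrix.mul_kronecker_mul, hTT,
      Matrix.one_kronecker_one, Rk, H.hB.rk_conj hTi, hTu, hTu', TensorUnitary.ph_add, TensorUnitary.ph_smul,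
      Matrix.add_vecMulVec, Matrix.vecMulVec_add, Matrix.smul_vecMulVec, Matrix.vecMulVec_smul, smul_smul,
      Matrix.kronecker_add, Matrix.add_kronecker, Matrix.kronecker_smul, Matrix.smul_kronecker]
    module
  have h0 : L A B C D := by show TensorMax.InM M _; rw [hE]; exact h
  have hdiff : ∀ a : F, L 0 (K.bar a • A) (a • A) (a • B + K.bar a • C + (a * K.bar a) • A) := fun a => by
    have := hLsub _ _ _ _ _ _ _ _ (hmove a _ _ _ _ h0) h0
    convert this using 1 <;> abel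
  have hV : ∀ V, L 0 0 0 V → ∃ c : F, V = c • 1 := by
    rintro V ⟨g, hg, hg'⟩
    refine hS u' hu' hu0 V ⟨g, hg, ?_⟩
    rw [hg', hE, TensorUnitary.zm_kron]
    simp only [Rk]
    have z0 : ∀ T : Matrix β β F, (0 : Matrix α α F) ⊗ₖ T = 0 := fun T => by ext ⟨i, j⟩ ⟨k, l⟩; simp
    simp only [z0, zero_add]
  -- the first level
  obtain ⟨t, ht⟩ := K.exists_trace
  obtain ⟨s, hs⟩ : ∃ s : F, A = s • 1 := by
    have h1 := hLsub _ _ _ _ _ _ _ _ (hLsub _ _ _ _ _ _ _ _ (hdiff (1 + t)) (hdiff 1)) (hdiff t)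
    have h2 : L 0 0 0 ((t + K.bar t) • A) := by
      convert h1 using 1 <;> (try simp only [map_add, map_one]) <;> module
    obtain ⟨c, hc⟩ := hV _ h2
    exact ⟨(t + K.bar t)⁻¹ * c, by rw [← smul_smul, ← hc, smul_smul, inv_mul_cancel₀ ht, one_smul]⟩
  have hss : s + K.bar s = 0 := by
    obtain ⟨i⟩ := (inferInstance : Nonempty α)
    rw [hs, H.hA.adj_smul, H.hA.adj_one] at hA
    have := congrFun₂ hA i i
    simp only [Matrix.smul_apply, Matrix.neg_apply, Matrix.one_apply_eq, smul_eq_mul, mul_one] at this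
    linear_combination this
  have hskew : ∀ a b c d : F, a + K.bar a = 0 → c + K.bar b = 0 → d + K.bar d = 0 →
      L (a • 1) (b • 1) (c • 1) (d • 1) := by
    intro a b c d ha hbc hd
    obtain ⟨n, hn⟩ : ∃ n, n = a • Rk K JB u u + b • Rk K JB u u' + c • Rk K JB u' u + d • Rk K JB u' u' := ⟨_, rfl⟩
    have hEn : E (a • 1) (b • 1) (c • 1) (d • 1) = (1 : Matrix α α F) ⊗ₖ n := by
      simp only [hE, hn, Matrix.smul_kronecker, Matrix.kronecker_add, Matrix.kronecker_smul]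
    have nn : n * n = 0 := by
      have h1 := hmul (a • 1) (b • 1) (c • 1) (d • 1) (a • 1) (b • 1) (c • 1) (d • 1)
      rw [hEn, ← Matrix.mul_kronecker_mul, Matrix.one_mul] at h1
      obtain ⟨i⟩ := (inferInstance : Nonempty α)
      ext x y
      simpa using congrFun₂ h1 (i, x) (i, y)
    have hadj : adj K JB n = -n := by
      rw [hn, H.hB.adj_add, H.hB.adj_add, H.hB.adj_add, H.hB.adj_smul, H.hB.adj_smul, H.hB.adj_smul, H.hB.adj_smul]
      simp only [Rk, H.hB.adj_rk]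
      rw [eq_neg_of_add_eq_zero_right ha, eq_neg_of_add_eq_zero_right hd,
        show K.bar b = -c by linear_combination hbc,
        show K.bar c = -b by
          have := congrArg K.bar hbc
          rw [map_add, map_zero, K.bar_bar] at this
          linear_combination this]
      module
    have hi : Iso K JB (1 + n) := iso_one_add (by rw [← H.hB.mul_adj, hadj, mul_neg]) nn
    obtain ⟨g, hg, hg'⟩ := H.right _ hi (det_one_add_of_sq nn)
    exact ⟨g, hg, by rw [hg', hEn, Matrix.kronecker_add, Matrix.one_kronecker_one]⟩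
  -- the mixed levels
  have hX : ∀ a : F, ∃ c : F, a • B + K.bar a • C = c • 1 := by
    intro a
    have h1 := hdiff a
    rw [hs, smul_smul, smul_smul, smul_smul] at h1
    have hr : a * K.bar a * s + K.bar (a * K.bar a * s) = 0 := by
      rw [map_mul, map_mul, K.bar_bar]; linear_combination a * K.bar a * hss
    have h2 := hskew 0 (K.bar a * s) (a * s) (a * K.bar a * s) (by rw [map_zero, add_zero])
      (by rw [map_mul, K.bar_bar]; linear_combination a * hss) hr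
    rw [zero_smul] at h2
    obtain ⟨c, hc⟩ := hV _ (by
      have := hLsub _ _ _ _ _ _ _ _ h1 h2
      convert this using 1 <;> abel)
    rw [add_sub_cancel_right] at hc
    exact ⟨c, hc⟩
  obtain ⟨θ, hθ⟩ := K.exists_moved
  obtain ⟨c1, hc1⟩ := hX 1
  obtain ⟨c2, hc2⟩ := hX θ
  rw [map_one, one_smul, one_smul] at hc1
  obtain ⟨b, hb⟩ : ∃ b : F, B = b • 1 := by
    refine ⟨(θ - K.bar θ)⁻¹ * (c2 - K.bar θ * c1), ?_⟩
    rw [← smul_smul, eq_inv_smul_iff₀ (sub_ne_zero.2 hθ.symm)]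
    linear_combination (norm := module) hc2 - K.bar θ • hc1
  have hc : C = (-K.bar b) • 1 := by
    rw [neg_smul, ← neg_neg C, ← hB, hb, H.hA.adj_smul, H.hA.adj_one]
  have h3 := hskew s b (-K.bar b) 0 hss (neg_add_cancel _) (by rw [map_zero, add_zero])
  rw [zero_smul, ← hs, ← hb, ← hc] at h3
  obtain ⟨d, hd⟩ := hV D (by
    have := hLsub _ _ _ _ _ _ _ _ h0 h3
    convert this using 1 <;> abel)
  refine ⟨s • Rk K JB u u + b • Rk K JB u u' + (-K.bar b) • Rk K JB u' u + d • Rk K JB u' u', ?_⟩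
  rw [hs, hb, hc, hd]
  simp only [Matrix.smul_kronecker, Matrix.kronecker_add, Matrix.kronecker_smul]

end block

variable {τ : Type} [Fintype τ] [DecidableEq τ] {m : ℕ}
variable {J : Matrix (Fin m) (Fin m) F} {M : Subgroup (GL (Ix τ m) F)}

/-- An element commuting with two orthogonal roots, taken together. -/
theorem Ctx.mono_of_commute_pair (C : Ctx K J M) {i : τ} {h : GL (Ix τ m) F} (hh : h ∈ M) {u u' : Fin m → F}
    (hu0 : u ≠ 0) (hu : ph K J u ⬝ᵥ u = 0) (hu' : ph K J u' ⬝ᵥ u' = 0) (huu : ph K J u ⬝ᵥ u' = 0)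
    (hind : ∀ a : F, u' ≠ a • u) {c c' : F} (hc0 : c ≠ 0) (hc : c + K.bar c = 0)
    (hcomm : h.1 * embM i (c • nu K J u + c' • nu K J u') = embM i (c • nu K J u + c' • nu K J u') * h.1) :
    Mono h.1 := by
  haveI := C.hyp.neZero
  have hJ := C.hyp.hJ
  have hu'0 : u' ≠ 0 := fun e => hind 0 (by rw [e, zero_smul])
  obtain ⟨θ₁, t1, t2⟩ := TensorMax.exists_dual_pair (hJ.ph_ne hu0) (v := ph K J u') (fun a e => hind (K.bar a) (by
    refine sub_eq_zero.1 (hJ.ph_eq_zero ?_)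
    rw [TensorUnitary.ph_sub, TensorUnitary.ph_smul, K.bar_bar, e, sub_self])) 1 0
  rw [dotProduct_comm] at t1 t2
  obtain ⟨k, hk⟩ := hJ.exists_k θ₁
  obtain ⟨z, hz⟩ : ∃ z, z = θ₁ + k • u := ⟨_, rfl⟩
  have zz : ph K J z ⬝ᵥ z = 0 := by
    rw [hz]
    simp only [TensorUnitary.ph_add, TensorUnitary.ph_smul, add_dotProduct, smul_dotProduct, dotProduct_add,
      dotProduct_smul, smul_eq_mul, hu, t1, hJ.swap u θ₁, map_one, mul_zero, add_zero]
    linear_combination hk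
  have uz : ph K J u ⬝ᵥ z = 1 := by rw [hz, dotProduct_add, dotProduct_smul, hu, smul_zero, add_zero, t1]
  have u'z : ph K J u' ⬝ᵥ z = 0 := by
    rw [hz, dotProduct_add, dotProduct_smul, hJ.orth_comm huu, smul_zero, add_zero, t2]
  have zu : ph K J z ⬝ᵥ u = 1 := by rw [hJ.swap, uz, map_one]
  obtain ⟨N, hN⟩ : ∃ N, N = c • nu K J u + c' • nu K J u' := ⟨_, rfl⟩
  rw [← hN, ← back_two i h, embM_eq_ins, ← back_kron, ← back_mul, ← back_mul] at hcomm
  obtain ⟨G, hG⟩ : ∃ G, G = TensorWreathU.two i h := ⟨_, rfl⟩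
  rw [← hG] at hcomm
  have hNz : N *ᵥ z = c • u := by
    rw [hN, Matrix.add_mulVec, Matrix.smul_mulVec, Matrix.smul_mulVec, nu, nu, Matrix.vecMulVec_mulVec,
      Matrix.vecMulVec_mulVec, op_smul_eq_smul, op_smul_eq_smul, uz, u'z, one_smul, zero_smul, smul_zero, add_zero]
  have hp := congrArg (fun X => X * (kc (Ix (Rest i) m) z : Matrix (Ix (Rest i) m × Fin m) (Ix (Rest i) m) F))
    (back_inj i hcomm)
  simp only [Matrix.mul_assoc, TensorMax.kron_mul_kc, hNz, Matrix.mul_one, TensorMax.kc_smul, Matrix.mul_smul] at hp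
  obtain ⟨Hz, hHz⟩ : ∃ Hz, Hz = G.1 * (kc (Ix (Rest i) m) z : Matrix (Ix (Rest i) m × Fin m) (Ix (Rest i) m) F) :=
    ⟨_, rfl⟩
  obtain ⟨A₁, hA₁⟩ : ∃ A₁, A₁ = (kr (Ix (Rest i) m) (ph K J u) : Matrix (Ix (Rest i) m) (Ix (Rest i) m × Fin m) F) * Hz :=
    ⟨_, rfl⟩
  obtain ⟨A₂, hA₂⟩ : ∃ A₂, A₂ = (c⁻¹ * c') •
      ((kr (Ix (Rest i) m) (ph K J u') : Matrix (Ix (Rest i) m) (Ix (Rest i) m × Fin m) F) * Hz) := ⟨_, rfl⟩
  have hGu : G.1 * (kc (Ix (Rest i) m) u : Matrix (Ix (Rest i) m × Fin m) (Ix (Rest i) m) F) =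
      (kc (Ix (Rest i) m) u : Matrix (Ix (Rest i) m × Fin m) (Ix (Rest i) m) F) * A₁ +
        (kc (Ix (Rest i) m) u' : Matrix (Ix (Rest i) m × Fin m) (Ix (Rest i) m) F) * A₂ := by
    rw [← smul_right_injective _ hc0 |>.eq_iff]
    show c • _ = c • _
    rw [hp, ← hHz, hN, Matrix.kronecker_add, Matrix.kronecker_smul, Matrix.kronecker_smul, nu, nu,
      ← TensorMax.kc_mul_kr, ← TensorMax.kc_mul_kr, Matrix.add_mul, Matrix.smul_mul, Matrix.smul_mul,
      Matrix.mul_assoc, Matrix.mul_assoc, ← hA₁, hA₂, Matrix.mul_smul, smul_add, smul_smul,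
      mul_inv_cancel_left₀ hc0]
  obtain ⟨H0, hH0⟩ : ∃ H0, H0 = C.hyp.hyp0 C.two i := ⟨_, rfl⟩
  have hGi : Iso K (JJ J (Rest i) ⊗ₖ J) G.1 := hG ▸ (iso_two i).2 (C.hyp.le h hh).1
  have hJA := herm_JJ hJ (Rest i)
  have hrow : (kr (Ix (Rest i) m) (ph K J u) : Matrix (Ix (Rest i) m) (Ix (Rest i) m × Fin m) F) * (G⁻¹).1 =
      adj K (JJ J (Rest i)) A₁ * (kr (Ix (Rest i) m) (ph K J u) : Matrix (Ix (Rest i) m) (Ix (Rest i) m × Fin m) F) +
      adj K (JJ J (Rest i)) A₂ * (kr (Ix (Rest i) m) (ph K J u') : Matrix (Ix (Rest i) m) (Ix (Rest i) m × Fin m) F) := by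
    have e : JJ J (Rest i) * ((kr (Ix (Rest i) m) (ph K J u) : Matrix (Ix (Rest i) m) (Ix (Rest i) m × Fin m) F) * (G⁻¹).1) =
        cj K A₁ * (JJ J (Rest i) * kr (Ix (Rest i) m) (ph K J u)) +
          cj K A₂ * (JJ J (Rest i) * kr (Ix (Rest i) m) (ph K J u')) := by
      rw [← Matrix.mul_assoc, ← TensorUnitary.cj_kc_form, Matrix.mul_assoc, H0.form_inv hGi, ← Matrix.mul_assoc,
        ← TensorUnitary.cj_mul, hGu, TensorUnitary.cj_add, Matrix.add_mul, TensorUnitary.cj_mul, TensorUnitary.cj_mul,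
        Matrix.mul_assoc, Matrix.mul_assoc, TensorUnitary.cj_kc_form, TensorUnitary.cj_kc_form]
    have e2 := congrArg (fun X => (JJ J (Rest i))⁻¹ * X) e
    simp only [Matrix.mul_add, ← Matrix.mul_assoc, Matrix.nonsing_inv_mul (JJ J (Rest i)) hJA.isUnit, Matrix.one_mul] at e2
    rw [e2, adj, adj]
  obtain ⟨x, hxM, hxv, -⟩ := C.exists_root (uRoot_mk hu0 hu hc0 hc i)
  obtain ⟨y, hy⟩ : ∃ y, y = h * x * h⁻¹ := ⟨_, rfl⟩
  have hyM : y ∈ M := hy ▸ M.mul_mem (M.mul_mem hh hxM) (M.inv_mem hh)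
  have hx2 : (TensorWreathU.two i x).1 = 1 + c • ((kc (Ix (Rest i) m) u : Matrix (Ix (Rest i) m × Fin m) (Ix (Rest i) m) F) *
      kr (Ix (Rest i) m) (ph K J u)) := back_inj i (by
    rw [back_two, hxv, back_add, back_one, TensorMax.kc_mul_kr, ← Matrix.kronecker_smul, back_kron, embM_eq_ins, nu])
  obtain ⟨S, hS⟩ : ∃ S, S = A₁ * adj K (JJ J (Rest i)) A₁ := ⟨_, rfl⟩
  obtain ⟨T, hT⟩ : ∃ T, T = A₂ * adj K (JJ J (Rest i)) A₂ := ⟨_, rfl⟩
  have hy2 : (TensorWreathU.two i y).1 = 1 + ((c • S) ⊗ₖ Rk K J u u +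
      (c • (A₁ * adj K (JJ J (Rest i)) A₂)) ⊗ₖ Rk K J u u' +
      (c • (A₂ * adj K (JJ J (Rest i)) A₁)) ⊗ₖ Rk K J u' u + (c • T) ⊗ₖ Rk K J u' u') := by
    rw [hy, map_mul, map_mul, map_inv, Units.val_mul, Units.val_mul, ← hG, hx2, Matrix.mul_add, Matrix.mul_one,
      Matrix.add_mul, G.mul_inv, Matrix.mul_smul, Matrix.smul_mul, ← Matrix.mul_assoc, hGu, Matrix.mul_assoc, hrow,
      hS, hT]
    simp only [Matrix.add_mul, Matrix.mul_add, Matrix.smul_kronecker, Rk, ← TensorMax.kc_mul_mul_kr, smul_add,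
      Matrix.mul_assoc, Matrix.mul_smul, Matrix.smul_mul]
    abel
  obtain ⟨n, hn⟩ := block_scalar (C.hyp.weak C.two i) (C.hyp.small (fun j hj => (C.low j hj).1) C.two C.notTop i) hu hu'
    huu hu'0 zz zu u'z (by
      rw [hJA.adj_smul, hS, hJA.adj_mul, hJA.adj_adj, eq_neg_of_add_eq_zero_right hc, neg_smul]) (by
      rw [hJA.adj_smul, hJA.adj_mul, hJA.adj_adj, eq_neg_of_add_eq_zero_right hc, neg_smul])
    ⟨TensorWreathU.two i y, ⟨y, hyM, rfl⟩, hy2⟩
  refine C.mono_of_conj_root hh (uRoot_mk hu0 hu hc0 hc i) ?_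
  rw [← conj_val h hxv, ← hy, ← back_two i y, hy2, hn, back_add, back_one, back_kron, ← embM_eq_ins,
    ← embM_one (F := F) (m := m) i, ← embM_add]
  exact mono_pure _

end CfsgLib.Classical.TensorWreathU
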