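import Cfsg.Agent.Lib.Classical.TensorWreathU.Grow
import Cfsg.Agent.Lib.Classical.TensorWreath.CharTwo

set_option autoImplicit false
set_option linter.unusedSectionVars false

/-!
A scalar multiple of roots on several factors gives all roots on all the factors.
-/

namespace CfsgLib.Classical.TensorWreathU

open Matrix CfsgLib.Classical.TensorWreath
open CfsgLib.Classical.TensorUnitary (cj cj_apply ph ph_dot IsHerm Iso adj tau trl)
open CfsgLib.ClassicalAut (Unitary.Conj)
open scoped MatrixGroups Kronecker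

variable {F : Type*} [Field F] [Finite F] {q : ℕ} {K : Unitary.Conj F q}
variable {τ : Type} [Fintype τ] [DecidableEq τ] {m : ℕ}
variable {J : Matrix (Fin m) (Fin m) F} {M : Subgroup (GL (Ix τ m) F)}

section general

variable {γ : Type} [Fintype γ] [DecidableEq γ]

theorem iso_one_add {W X : Matrix γ γ F} (h : cj K X * W = -(W * X)) (h2 : X * X = 0) : Iso K W (1 + X) := by
  show cj K (1 + X) * W * (1 + X) = W
  rw [TensorUnitary.cj_add, TensorUnitary.cj_one, add_mul, one_mul, h, mul_add, mul_one, add_mul, neg_mul, mul_assoc,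
    h2, mul_zero, neg_zero, add_zero]
  abel

theorem det_one_add_of_sq {X : Matrix γ γ F} (h2 : X * X = 0) : (1 + X).det = 1 :=
  TensorUnitary.det_one_add_of_cube (by rw [h2, zero_mul])

theorem InM.comm4 {τ' : Type} [Fintype τ'] [DecidableEq τ'] {M : Subgroup (GL (Ix τ' m) F)}
    {X Y : Matrix (Ix τ' m) (Ix τ' m) F} (hX : InM M (1 + X)) (hY : InM M (1 + Y)) (x2 : X * X = 0) (y2 : Y * Y = 0)
    (xyx : X * Y * X = 0) (yxy : Y * X * Y = 0) : InM M (1 + (X * Y - Y * X)) := by
  have := ((hX.mul hY).mul (hX.neg x2)).mul (hY.neg y2)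
  convert this using 1
  simp only [mul_add, add_mul, mul_sub, sub_mul, one_mul, mul_one]
  have t1 : X * Y * Y = 0 := by rw [mul_assoc, y2, mul_zero]
  have t2 : X * X * Y = 0 := by rw [x2, zero_mul]
  simp only [x2, y2, xyx, yxy, t1, zero_mul, sub_zero, add_zero]
  abel

end general

theorem J_ne_zero (hJ : IsHerm K J) [NeZero m] : J ≠ 0 := fun h => hJ.det_ne (by rw [h, Matrix.det_zero])

theorem pureM_ne_zero {g : τ → Matrix (Fin m) (Fin m) F} (h : ∀ j, g j ≠ 0) : pureM g ≠ 0 := by
  have h' : ∀ j, ∃ a b, g j a b ≠ 0 := fun j => by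
    by_contra hh
    push Not at hh
    exact h j (Matrix.ext hh)
  choose a b hab using h'
  intro h0
  have := congrFun₂ h0 a b
  rw [pureM_apply, Matrix.zero_apply, Finset.prod_eq_zero_iff] at this
  obtain ⟨j, -, hj⟩ := this
  exact hab j hj

theorem pureM_smul_at (g : τ → Matrix (Fin m) (Fin m) F) (a : τ) (c : F) (b : Matrix (Fin m) (Fin m) F) :
    pureM (Function.update g a (c • b)) = c • pureM (Function.update g a b) := by
  rw [pureM_update _ a, pureM_update (Function.update g a b) a, Function.update_idem, Function.update_idem,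
    Function.update_self, Function.update_self, embM_smul, mul_smul_comm]

theorem self_pure (hJ : IsHerm K J) {f : τ → Matrix (Fin m) (Fin m) F} (h : ∀ j, adj K J (f j) = f j) :
    cj K (pureM f) * JJ J τ = JJ J τ * pureM f := by
  rw [cj_pureM, pureM_mul, pureM_mul]
  refine congrArg pureM (funext fun j => ?_)
  show cj K (f j) * J = J * f j
  rw [← hJ.mul_adj, h j]

theorem skew_pure (hJ : IsHerm K J) {f : τ → Matrix (Fin m) (Fin m) F} {a : τ} (ha : adj K J (f a) = -f a)
    (h : ∀ j, j ≠ a → adj K J (f j) = f j) : cj K (pureM f) * JJ J τ = -(JJ J τ * pureM f) := by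
  rw [cj_pureM, pureM_mul, pureM_mul, ← neg_one_smul F (pureM _)]
  conv_rhs => rw [← Function.update_eq_self a ((fun _ : τ => J) * f), ← pureM_smul_at]
  refine congrArg pureM (funext fun j => ?_)
  by_cases hj : j = a
  · subst hj
    rw [Function.update_self]
    show cj K (f j) * J = (-1 : F) • (J * f j)
    rw [← hJ.mul_adj, ha, mul_neg, neg_one_smul]
  · rw [Function.update_of_ne hj]
    show cj K (f j) * J = J * f j
    rw [← hJ.mul_adj, h j hj]

theorem adj_pick_nu (hJ : IsHerm K J) (T : Finset τ) (u : τ → Fin m → F) (j : τ) :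
    adj K J (pick T (fun l => nu K J (u l)) j) = pick T (fun l => nu K J (u l)) j := by
  simp only [pick]
  split_ifs
  · exact adj_nu hJ _
  · exact hJ.adj_one

theorem nT_ne_zero [NeZero m] (hJ : IsHerm K J) {T : Finset τ} {u : τ → Fin m → F} (hu : IsoOn K J T u) :
    nT K J T u ≠ 0 :=
  pureM_ne_zero fun j => by
    simp only [pick]
    split_ifs with h
    · exact nu_ne_zero hJ (hu j h).1
    · exact one_ne_zero

theorem cj_smul_nT (hJ : IsHerm K J) (T : Finset τ) (u : τ → Fin m → F) (c : F) :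
    cj K (c • nT K J T u) * JJ J τ = K.bar c • (JJ J τ * nT K J T u) := by
  rw [TensorUnitary.cj_smul, smul_mul_assoc, nT, self_pure hJ (adj_pick_nu hJ T u)]

theorem iso_smul_nT (hJ : IsHerm K J) {T : Finset τ} {u : τ → Fin m → F} (hT : T.Nonempty) (hu : IsoOn K J T u)
    {c : F} (hc : c + K.bar c = 0) : Iso K (JJ J τ) (1 + c • nT K J T u) := by
  refine iso_one_add ?_ (by rw [smul_mul_smul_comm, nT_sq hT hu, smul_zero])
  rw [cj_smul_nT hJ, mul_smul_comm, ← neg_smul, eq_neg_of_add_eq_zero_right hc]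

theorem nT_conj (hJ : IsHerm K J) {T : Finset τ} {a : τ} (ha : a ∈ T) (u : τ → Fin m → F)
    {S : Matrix (Fin m) (Fin m) F} (hS : Iso K J S) :
    embM a S * nT K J T u * embM a S⁻¹ = nT K J T (Function.update u a (S *ᵥ u a)) := by
  rw [embM, embM, nT, nT, pureM_mul, pureM_mul]
  refine congrArg pureM (funext fun j => ?_)
  by_cases hj : j = a
  · subst hj
    simp [pick, ha, nu_conj hJ hS]
  · simp [pick, Function.update_of_ne hj]

theorem nT_smul_at {T : Finset τ} {a : τ} (ha : a ∈ T) (u : τ → Fin m → F) (d : F) (x : Fin m → F) :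
    nT K J T (Function.update u a (d • x)) = (d * K.bar d) • nT K J T (Function.update u a x) := by
  have e : ∀ y, pick T (fun j => nu K J (Function.update u a y j)) =
      Function.update (pick T fun j => nu K J (u j)) a (nu K J y) := fun y => funext fun j => by
    by_cases hj : j = a
    · subst hj; simp [pick, ha]
    · simp [pick, hj]
  rw [nT, nT, e, e, nu_smul, pureM_smul_at]

theorem nT_congr {T : Finset τ} {u u' : τ → Fin m → F} (h : ∀ j ∈ T, u j = u' j) :
    nT K J T u = nT K J T u' := by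
  refine congrArg pureM (funext fun j => ?_)
  simp only [pick]
  split_ifs with hj
  · rw [h j hj]
  · rfl

variable (K J M)

/-- All multiples of roots on the factors in `T`. -/
def Full (T : Finset τ) : Prop :=
  ∀ u, IsoOn K J T u → ∀ c : F, c + K.bar c = 0 → InM M (1 + c • nT K J T u)

variable {K J M}

namespace Hyp

theorem skew_of_inM (H : Hyp K J M) {T : Finset τ} {u : τ → Fin m → F} (hT : T.Nonempty) (hu : IsoOn K J T u)
    {c : F} (h : InM M (1 + c • nT K J T u)) : c + K.bar c = 0 := by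
  haveI := H.neZero
  obtain ⟨g, hg, hg'⟩ := h
  have h1 : cj K g.1 * JJ J τ * g.1 = JJ J τ := (H.le g hg).1
  rw [hg', TensorUnitary.cj_add, TensorUnitary.cj_one, add_mul, one_mul, cj_smul_nT H.hJ, mul_add, mul_one,
    mul_smul_comm, add_mul, smul_mul_assoc, mul_assoc, nT_sq hT hu, mul_zero, smul_zero, add_zero,
    add_assoc, add_eq_left, ← add_smul, smul_eq_zero, add_comm] at h1
  refine h1.resolve_right fun e => nT_ne_zero H.hJ hu ?_
  have hd := (herm_JJ H.hJ τ).isUnit
  calc nT K J T u = (JJ J τ)⁻¹ * (JJ J τ * nT K J T u) := by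
        rw [← mul_assoc, Matrix.nonsing_inv_mul _ hd, one_mul]
    _ = 0 := by rw [e, mul_zero]

/-- One element gives all. -/
theorem full_of_elt (H : Hyp K J M) {T : Finset τ} {u : τ → Fin m → F} (hT : T.Nonempty) (hu : IsoOn K J T u)
    {c : F} (hc0 : c ≠ 0) (h : InM M (1 + c • nT K J T u)) : Full K J M T := by
  haveI := H.neZero
  have hJ := H.hJ
  have hc := H.skew_of_inM hT hu h
  intro u' hu' c' hc'
  have key : ∀ s : Finset τ, s ⊆ T → ∃ r : F, r ≠ 0 ∧ K.bar r = r ∧
      InM M (1 + (c * r) • nT K J T (s.piecewise u' u)) := by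
    intro s
    induction s using Finset.induction with
    | empty => exact fun _ => ⟨1, one_ne_zero, map_one _, by simpa using h⟩
    | insert a s ha IH =>
      intro hs
      obtain ⟨r, hr0, hr, hin⟩ := IH fun x hx => hs (Finset.mem_insert_of_mem hx)
      have haT := hs (Finset.mem_insert_self a s)
      obtain ⟨S, d, hS, dS, hd, hSu⟩ := hJ.move (hu a haT).2 (hu a haT).1 (hu' a haT).2 (hu' a haT).1
      refine ⟨r * (d * K.bar d), mul_ne_zero hr0 (mul_ne_zero hd fun e => hd (by rw [← K.bar_bar d, e, map_zero])),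
        by rw [map_mul, map_mul, K.bar_bar, hr, mul_comm d], ?_⟩
      have := H.conj_embM hin a hS dS
      rwa [mul_smul_comm, smul_mul_assoc, nT_conj hJ haT _ hS, Finset.piecewise_eq_of_notMem _ _ _ ha, hSu,
        nT_smul_at haT, smul_smul, mul_assoc, ← Finset.piecewise_insert] at this
  obtain ⟨r, hr0, hr, hin⟩ := key T subset_rfl
  rw [nT_congr (K := K) (J := J) (u := T.piecewise u' u) (u' := u') fun j hj => Finset.piecewise_eq_of_mem _ _ _ hj]
    at hin
  obtain ⟨j₀, hj₀⟩ := hT
  have hsq : ∀ d : F, K.bar d = d → InM M (1 + (d * d * (c * r)) • nT K J T u') := fun d hd => by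
    by_cases hd0 : d = 0
    · rw [hd0, zero_mul, zero_mul, zero_smul, add_zero]; exact inM_one
    obtain ⟨S, hS, dS, hSu⟩ := hJ.scale (hu' j₀ hj₀).2 (hu' j₀ hj₀).1 hd hd0
    have := H.conj_embM hin j₀ hS dS
    rwa [mul_smul_comm, smul_mul_assoc, nT_conj hJ hj₀ _ hS, hSu, nT_smul_at hj₀, Function.update_eq_self,
      smul_smul, hd, mul_comm] at this
  obtain ⟨a, ha⟩ : ∃ a, a = c' / (c * r) := ⟨_, rfl⟩
  have har : K.bar a = a := by
    rw [ha, map_div₀, map_mul, hr, eq_neg_of_add_eq_zero_right hc, eq_neg_of_add_eq_zero_right hc', neg_mul,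
      neg_div_neg_eq]
  have e : c' = a * (c * r) := by rw [ha, div_mul_cancel₀ _ (mul_ne_zero hc0 hr0)]
  rw [e]
  by_cases h2 : (2 : F) = 0
  · obtain ⟨d, hd⟩ := exists_sq h2 a
    rw [← hd]
    refine hsq d (sub_eq_zero.1 (mul_self_eq_zero.1 ?_))
    have e' : K.bar d * K.bar d = d * d := by rw [← map_mul, hd, har]
    linear_combination e' + (d * d - K.bar d * d) * h2
  have hb : ∀ {b : F}, K.bar b = b → K.bar (b / 2) = b / 2 := fun hb => by rw [map_div₀, hb, map_ofNat]
  have hp := hsq _ (hb (show K.bar (a + 1) = a + 1 by rw [map_add, har, map_one]))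
  have hm := hsq _ (hb (show K.bar (a - 1) = a - 1 by rw [map_sub, har, map_one]))
  have hsq0 : ∀ x y : F, (x • nT K J T u') * (y • nT K J T u') = 0 := fun x y => by
    rw [smul_mul_smul_comm, nT_sq ⟨j₀, hj₀⟩ hu', smul_zero]
  have hm' := hm.neg (hsq0 _ _)
  rw [sub_eq_add_neg] at hm'
  have := hp.add hm' (by rw [mul_neg, hsq0, neg_zero])
  convert this using 2
  rw [← sub_eq_add_neg, ← sub_smul]
  congr 1
  field_simp
  ring

end Hyp

/-! ### The other factors -/

theorem kron_right_cancel {γ δ : Type} {A B : Matrix γ γ F} {N : Matrix δ δ F} (hN : N ≠ 0)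
    (h : A ⊗ₖ N = B ⊗ₖ N) : A = B := by
  obtain ⟨a, b, hab⟩ : ∃ a b, N a b ≠ 0 := by
    by_contra hh
    push Not at hh
    exact hN (Matrix.ext hh)
  ext p r
  have := congrFun₂ h (p, a) (r, b)
  exact mul_right_cancel₀ hab this

theorem iso_ins_iff [NeZero m] (hJ : IsHerm K J) (l : τ) {A : Matrix (Ix (Rest l) m) (Ix (Rest l) m) F} :
    Iso K (JJ J τ) (ins l A 1) ↔ Iso K (JJ J (Rest l)) A := by
  rw [← back_kron, iso_back]
  unfold TensorUnitary.Iso
  rw [TensorUnitary.cj_kron, ← Matrix.mul_kronecker_mul, ← Matrix.mul_kronecker_mul, TensorUnitary.cj_one,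
    Matrix.one_mul, Matrix.mul_one]
  exact ⟨kron_right_cancel (J_ne_zero hJ), fun h => by rw [h]⟩

theorem Hyp.down [NeZero m] (H : Hyp K J M) (l : τ) : Hyp K J (TensorWreath.down l M) where
  hJ := H.hJ
  three := H.three
  hex := H.hex
  le a ha := ⟨(iso_ins_iff H.hJ l).1 (by rw [← lift_val]; exact (H.le _ (mem_down.1 ha).1).1), (mem_down.1 ha).2⟩
  mono a hi hd ha := mem_down.2 ⟨H.mono _ (by rw [lift_val]; exact (iso_ins_iff H.hJ l).2 hi)
    (by rw [lift_val, det_ins, hd, one_pow, Matrix.det_one, one_pow, mul_one]) (mono_ins l ha), hd⟩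

variable (K J)

/-- A proper intermediate group is monomial. -/
def AllMono (τ : Type) [Fintype τ] [DecidableEq τ] : Prop :=
  ∀ M : Subgroup (GL (Ix τ m) F), Hyp K J M → ¬ Top K J M → ∀ g ∈ M, Mono g.1

variable {K J}

/-- A product of roots on two or more factors is not monomial. -/
theorem not_mono_nT (hJ : IsHerm K J) (hm : 3 ≤ m) {T : Finset τ} (h2 : 2 ≤ T.card) {u : τ → Fin m → F}
    (hu : IsoOn K J T u) {c : F} (hc : c ≠ 0) : ¬ Mono (1 + c • nT K J T u) := by
  haveI : NeZero m := ⟨by omega⟩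
  haveI : Nonempty (Ix τ m) := ⟨fun _ => 0⟩
  rintro ⟨g, σ, hk⟩
  obtain ⟨X, hX⟩ : ∃ X, X = c • nT K J T u := ⟨_, rfl⟩
  rw [← hX] at hk
  have hT : T.Nonempty := Finset.card_pos.1 (by omega)
  have hX2 : X * X = 0 := by rw [hX, smul_mul_smul_comm, nT_sq hT hu, smul_zero]
  have hX0 : X ≠ 0 := by rw [hX]; exact smul_ne_zero hc (nT_ne_zero hJ hu)
  have hd : (pureM g * permM F m σ).det ≠ 0 := by rw [← hk, det_one_add_of_sq hX2]; exact one_ne_zero
  obtain ⟨v, hv0, hv, -⟩ := hJ.exists_iso_perp (fun i : Fin 0 => i.elim0)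
    (by simp only [Fintype.card_fin]; omega)
  have hns : ∀ {y}, y ≠ 0 → ph K J y ⬝ᵥ y = 0 → ∀ x : F, nu K J y ≠ x • 1 := fun hy0 hy x e => by
    have h := nu_sq hy
    rw [e, smul_mul_smul_comm, one_mul, smul_eq_zero, or_iff_left one_ne_zero, mul_self_eq_zero] at h
    exact nu_ne_zero hJ hy0 (by rw [e, h, zero_smul])
  have hσ : σ = 1 := Equiv.ext fun i => by
    by_cases hi : i ∈ T
    · refine fix_of_commute_embM (n := nu K J (u i)) hd (hns (hu i hi).1 (hu i hi).2) ?_
      rw [← hk, add_mul, mul_add, one_mul, mul_one, hX, smul_mul_assoc, mul_smul_comm, nT, embM, pureM_mul,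
        pureM_mul, pureM_eq_zero (g := Function.update (1 : τ → Matrix (Fin m) (Fin m) F) i (nu K J (u i)) *
          pick T fun j => nu K J (u j)) (i := i) (by simp [pick, hi, nu_sq (hu i hi).2]),
        pureM_eq_zero (g := (pick T fun j => nu K J (u j)) *
          Function.update (1 : τ → Matrix (Fin m) (Fin m) F) i (nu K J (u i))) (i := i)
          (by simp [pick, hi, nu_sq (hu i hi).2])]
    · refine fix_of_commute_embM (n := nu K J v) hd (hns hv0 hv) ?_
      rw [← hk, add_mul, mul_add, one_mul, mul_one, hX, smul_mul_assoc, mul_smul_comm, nT, embM_comm_pick hi]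
  rw [hσ, permM_one, mul_one] at hk
  have hne : pureM g - 1 ≠ 0 := by rwa [← hk, add_sub_cancel_left]
  have hrank : ∀ i : τ, (pureM g - 1).rank ≤ Fintype.card (Ix (Rest i) m) := fun i => by
    obtain ⟨a, ha⟩ := hT
    rw [← hk, add_sub_cancel_left, hX, nT, pureM_update _ a, ← smul_mul_assoc]
    refine (Matrix.rank_mul_le_right _ _).trans ?_
    simp only [pick, ha, if_true, nu]
    exact (rank_embM_vecMulVec_le a _ _).trans (le_of_eq (by rw [card_rest, card_rest]))
  obtain ⟨l, a', b', -, -, -, hab⟩ := rootAt_of_pure hm hne (by rw [← hk, add_sub_cancel_left]; exact hX2) hrank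
  rw [← hk, add_sub_cancel_left] at hab
  obtain ⟨a, haT, hal⟩ : ∃ a ∈ T, a ≠ l := Finset.exists_mem_ne (by omega) l
  have hcen : Cen a X := by rw [hab]; exact cen_embM hal _
  obtain ⟨y, uy, -, -⟩ := hJ.exists_dual (hu a haT).2 (hu a haT).1
  have h1 := hcen (nu K J y)
  rw [hX, mul_smul_comm, smul_mul_assoc, nT, embM, pureM_mul, pureM_mul] at h1
  obtain ⟨R, hR⟩ : ∃ R, R = pureM (Function.update (pick T fun j => nu K J (u j)) a 1) := ⟨_, rfl⟩
  have e1 : ∀ Z, pureM (Function.update (pick T fun j => nu K J (u j)) a Z) = R * embM a Z := fun Z => by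
    rw [pureM_update _ a, Function.update_idem, Function.update_self, hR]
  have e2 : Function.update (1 : τ → Matrix (Fin m) (Fin m) F) a (nu K J y) * pick T (fun j => nu K J (u j)) =
      Function.update (pick T fun j => nu K J (u j)) a (nu K J y * nu K J (u a)) := funext fun j => by
    by_cases hj : j = a
    · subst hj; simp [pick, haT]
    · simp [hj]
  have e3 : pick T (fun j => nu K J (u j)) * Function.update (1 : τ → Matrix (Fin m) (Fin m) F) a (nu K J y) =
      Function.update (pick T fun j => nu K J (u j)) a (nu K J (u a) * nu K J y) := funext fun j => by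
    by_cases hj : j = a
    · subst hj; simp [pick, haT]
    · simp [hj]
  rw [e2, e3, e1, e1] at h1
  have hRc : Cen a R := fun b => by
    rw [hR, embM, pureM_mul, pureM_mul]
    refine congrArg pureM (funext fun j => ?_)
    by_cases hj : j = a
    · subst hj; simp
    · simp [hj]
  have hR0 : restM a R ≠ 0 := fun e => by
    have : R = 0 := by rw [hRc.eq_ins, e]; ext x z; simp [ins_apply]
    refine hX0 ?_
    rw [hX, nT, ← Function.update_eq_self a (pick T fun j => nu K J (u j)), e1, this, zero_mul, smul_zero]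
  have h2 := smul_right_injective _ hc h1
  rw [hRc.eq_ins, embM_eq_ins, embM_eq_ins, ins_mul, ins_mul, mul_one, one_mul, one_mul] at h2
  have h3 : nu K J y * nu K J (u a) = nu K J (u a) * nu K J y := by
    obtain ⟨p, r, hpr⟩ : ∃ p r, restM a R p r ≠ 0 := by
      by_contra hh
      push Not at hh
      exact hR0 (Matrix.ext hh)
    ext k k'
    have := congrFun₂ h2 ((spl a).symm (p, k)) ((spl a).symm (r, k'))
    simpa [ins, hpr] using this
  have h4 := congrArg (· *ᵥ u a) h3
  simp only [← Matrix.mulVec_mulVec, nu, Matrix.vecMulVec_mulVec, op_smul_eq_smul, (hu a haT).2, zero_smul,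
    Matrix.mulVec_zero, Matrix.mulVec_smul, smul_smul, uy] at h4
  rw [H_dual hJ uy, one_mul, one_smul] at h4
  exact (hu a haT).1 h4.symm
where
  H_dual {q' : ℕ} {K' : Unitary.Conj F q'} {J' : Matrix (Fin m) (Fin m) F} (h : IsHerm K' J') {x y : Fin m → F}
      (e : ph K' J' x ⬝ᵥ y = 1) : ph K' J' y ⬝ᵥ x = 1 := by rw [h.swap, e, map_one]

/-! ### All factors -/

variable (K J)

/-- The skew matrix of two orthogonal vectors. -/
def gm (p w : Fin m → F) : Matrix (Fin m) (Fin m) F :=
  Matrix.vecMulVec p (ph K J w) - Matrix.vecMulVec w (ph K J p)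

variable {K J}

theorem adj_gm (hJ : IsHerm K J) (p w : Fin m → F) : adj K J (gm K J p w) = -gm K J p w := by
  rw [gm, hJ.adj_sub, hJ.adj_rk, hJ.adj_rk, neg_sub]

theorem gm_mul (hJ : IsHerm K J) {p p' w : Fin m → F} (hw : ph K J w ⬝ᵥ w = 0) (hp : ph K J w ⬝ᵥ p = 0)
    (hp' : ph K J w ⬝ᵥ p' = 0) : gm K J p w * gm K J p' w = -((ph K J p ⬝ᵥ p') • nu K J w) := by
  simp [gm, nu, sub_mul, mul_sub, Matrix.vecMulVec_mul_vecMulVec, Matrix.vecMulVec_smul, hw, hp', hJ.orth_comm hp]

theorem nu_mul_gm {p w : Fin m → F} (hw : ph K J w ⬝ᵥ w = 0) (hp : ph K J w ⬝ᵥ p = 0) :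
    nu K J w * gm K J p w = 0 := by
  simp [gm, nu, mul_sub, Matrix.vecMulVec_mul_vecMulVec, hw, hp]

theorem inM_pure_of_down [NeZero m] (H : Hyp K J M) {l l' : τ} (h3 : 3 ≤ Fintype.card τ)
    (hT : Top K J (TensorWreath.down l M)) {f : τ → Matrix (Fin m) (Fin m) F} (hl : f l' = 1)
    (hs : ∃ j, f j * f j = 0) (hiso : Iso K (JJ J τ) (1 + pureM f)) : InM M (1 + pureM f) := by
  have key : ∀ g : τ → Matrix (Fin m) (Fin m) F, g l = 1 → (∃ j, g j * g j = 0) → Iso K (JJ J τ) (1 + pureM g) →
      InM M (1 + pureM g) := by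
    intro g hgl hs hiso
    obtain ⟨j, hj⟩ := hs
    have hjl : j ≠ l := fun e => by rw [e, hgl, one_mul] at hj; exact one_ne_zero hj
    obtain ⟨A, hA⟩ : ∃ A, A = 1 + pureM (fun i : Rest l => g i.1) := ⟨_, rfl⟩
    have e : ins l A 1 = 1 + pureM g := by
      rw [hA, ins_add_left, ins_one_one, ins_pureM]
      refine congrArg (1 + pureM ·) (funext fun i => ?_)
      by_cases hi : i = l
      · subst hi; rw [Function.update_self, hgl]
      · rw [Function.update_of_ne hi, extend, dif_neg hi]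
    have hd : A.det = 1 := by
      rw [hA]
      exact det_one_add_of_sq (by rw [pureM_mul]; exact pureM_eq_zero (i := (⟨j, hjl⟩ : Rest l)) hj)
    have h1 := (mem_down.1 (hT (glOf A hd) ((iso_ins_iff H.hJ l).1 (e ▸ hiso)) hd)).1
    exact ⟨_, h1, by rw [lift_val, glOf_val, e]⟩
  by_cases hll : l = l'
  · exact key f (hll ▸ hl) hs hiso
  obtain ⟨o, -, ho⟩ := Finset.exists_mem_notMem_of_card_lt_card (t := (Finset.univ : Finset τ)) (s := {l, l'})
    (by rw [Finset.card_pair hll, Finset.card_univ]; omega)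
  simp only [Finset.mem_insert, Finset.mem_singleton, not_or] at ho
  set σ : Equiv.Perm τ := (Equiv.swap l o * Equiv.swap o l') * (Equiv.swap l o * Equiv.swap o l') with hσ
  have hsl : σ l = l' := by
    simp [hσ, Equiv.swap_apply_of_ne_of_ne, hll, Ne.symm hll, ho.1, ho.2, Ne.symm ho.1, Ne.symm ho.2]
  have hd : (permM F m σ).det = 1 := by
    have e1 := det_permM_sq (F := F) (m := m) _ (Equiv.swap_mul_self l o)
    have e2 := det_permM_sq (F := F) (m := m) _ (Equiv.swap_mul_self o l')
    rw [hσ, ← permM_mul, ← permM_mul, Matrix.det_mul, Matrix.det_mul]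
    linear_combination (permM F m (Equiv.swap o l')).det * (permM F m (Equiv.swap o l')).det * e1 + e2
  have hP := H.inM (iso_permM K J σ) hd (mono_perm σ)
  have e : permM F m σ * (1 + pureM fun j => f (σ j)) = (1 + pureM f) * permM F m σ := by
    rw [mul_add, mul_one, permM_mul_pureM, add_mul, one_mul]
    simp
  have e' : (1 + pureM fun j => f (σ j)) = permM F m σ⁻¹ * (1 + pureM f) * permM F m σ := by
    rw [mul_assoc, ← e, ← mul_assoc, permM_inv_mul, one_mul]
  obtain ⟨j, hj⟩ := hs
  have h1 := key (fun j => f (σ j)) (by rw [hsl, hl]) ⟨σ.symm j, by simpa using hj⟩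
    (by rw [e']; exact iso_mul (iso_mul (iso_permM K J σ⁻¹) hiso) (iso_permM K J σ))
  have h2 := (hP.mul h1).mul (hP.of_mul_eq_one (permM_mul_inv σ))
  rwa [e, mul_assoc, permM_mul_inv, mul_one] at h2

namespace Hyp

/-- All roots on all the factors, from the other factors. -/
theorem full_univ_of_down [NeZero m] (H : Hyp K J M) (h3 : 3 ≤ Fintype.card τ) {l : τ}
    (hT : Top K J (TensorWreath.down l M)) : Full K J M Finset.univ := by
  haveI := H.neZero
  have hJ := H.hJ
  haveI : Nonempty τ := ⟨l⟩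
  obtain ⟨a, b, hab⟩ := Fintype.exists_pair_of_one_lt_card (show 1 < Fintype.card τ by omega)
  obtain ⟨c, -, hc⟩ := Finset.exists_mem_notMem_of_card_lt_card (t := (Finset.univ : Finset τ)) (s := {a, b})
    (by rw [Finset.card_pair hab, Finset.card_univ]; omega)
  simp only [Finset.mem_insert, Finset.mem_singleton, not_or] at hc
  obtain ⟨w, hw0, hw, -⟩ := hJ.exists_iso_perp (fun i : Fin 0 => i.elim0)
    (by simp only [Fintype.card_fin]; have := H.three; omega)
  obtain ⟨z, wz, zw, zz⟩ := hJ.exists_dual hw hw0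
  obtain ⟨p, wp, -, pp⟩ := hJ.exists_aniso (by rw [Fintype.card_fin]; exact H.three) hw zz wz
  obtain ⟨s, hs⟩ := K.exists_moved
  have wsp : ph K J w ⬝ᵥ (s • p) = 0 := by rw [dotProduct_smul, wp, smul_zero]
  obtain ⟨f, hf⟩ : ∃ f : τ → Matrix (Fin m) (Fin m) F,
      f = fun j => if j = a then gm K J p w else if j = b then nu K J w else 1 := ⟨_, rfl⟩
  obtain ⟨f', hf'⟩ : ∃ f' : τ → Matrix (Fin m) (Fin m) F,
      f' = fun j => if j = a then gm K J (s • p) w else if j = b then 1 else nu K J w := ⟨_, rfl⟩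
  have fb : f b = nu K J w := by simp [hf, hab.symm]
  have fc : f' c = nu K J w := by simp [hf', hc.1, hc.2]
  have mk : ∀ g : τ → Matrix (Fin m) (Fin m) F, adj K J (g a) = -g a → (∀ j, j ≠ a → adj K J (g j) = g j) →
      ∀ j, g j = nu K J w → Iso K (JJ J τ) (1 + pureM g) ∧ pureM g * pureM g = 0 := fun g h1 h2 j h3 => by
    have e : pureM g * pureM g = 0 := by
      rw [pureM_mul]; exact pureM_eq_zero (i := j) (by simp [h3, nu_sq hw])
    exact ⟨iso_one_add (skew_pure hJ h1 h2) e, e⟩
  obtain ⟨i1, s1⟩ := mk f (by simp [hf, adj_gm hJ]) (fun j hj => by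
    simp only [hf, if_neg hj]; split_ifs
    · exact adj_nu hJ w
    · exact hJ.adj_one) b fb
  obtain ⟨i2, s2⟩ := mk f' (by simp [hf', adj_gm hJ]) (fun j hj => by
    simp only [hf', if_neg hj]; split_ifs
    · exact hJ.adj_one
    · exact adj_nu hJ w) c fc
  have m1 := inM_pure_of_down H h3 hT (l' := c) (f := f) (by simp [hf, hc.1, hc.2]) ⟨b, by rw [fb, nu_sq hw]⟩ i1
  have m2 := inM_pure_of_down H h3 hT (l' := b) (f := f') (by simp [hf', hab.symm]) ⟨c, by rw [fc, nu_sq hw]⟩ i2
  obtain ⟨γ, hγ⟩ : ∃ γ, γ = ph K J p ⬝ᵥ (s • p) := ⟨_, rfl⟩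
  have prod : ∀ (d : F) (g g' : τ → Matrix (Fin m) (Fin m) F), g a * g' a = -(d • nu K J w) →
      (∀ j, j ≠ a → g j * g' j = nu K J w) → pureM g * pureM g' = (-d) • nT K J Finset.univ fun _ => w := by
    intro d g g' h1 h2
    rw [pureM_mul, nT, show g * g' = Function.update (pick Finset.univ fun _ => nu K J w) a ((-d) • nu K J w) from
      funext fun j => ?_, pureM_smul_at,
      show Function.update (pick Finset.univ fun _ : τ => nu K J w) a (nu K J w) = pick Finset.univ fun _ => nu K J w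
      from funext fun j => by by_cases hj : j = a <;> simp [pick, hj]]
    by_cases hj : j = a
    · subst hj; rw [Function.update_self, Pi.mul_apply, h1, neg_smul]
    · rw [Function.update_of_ne hj, Pi.mul_apply, h2 j hj]; simp [pick]
  have e1 := prod γ f f' (by simp [hf, hf', gm_mul hJ hw wp wsp, hγ]) fun j hj => by
    simp only [hf, hf', if_neg hj]; split_ifs <;> simp
  have e2 := prod (K.bar γ) f' f (by
    simp only [hf, hf', if_true]
    rw [gm_mul hJ hw wsp wp, hγ, ← hJ.swap]) fun j hj => by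
    simp only [hf, hf', if_neg hj]; split_ifs <;> simp
  have hu : IsoOn K J Finset.univ (fun _ : τ => w) := fun j _ => ⟨hw0, hw⟩
  have z1 : ∀ (d : F) (g : τ → Matrix (Fin m) (Fin m) F) (x : Fin m → F), g a = gm K J x w → ph K J w ⬝ᵥ x = 0 →
      (-d) • nT K J Finset.univ (fun _ : τ => w) * pureM g = 0 := fun d g x h hx => by
    rw [smul_mul_assoc, nT, pureM_mul, pureM_eq_zero (i := a) (by simp [pick, h, nu_mul_gm hw hx]), smul_zero]
  have := InM.comm4 m1 m2 s1 s2 (by rw [e1]; exact z1 _ _ p (by simp [hf]) wp)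
    (by rw [e2]; exact z1 _ _ _ (by simp [hf']) wsp)
  rw [e1, e2, ← sub_smul] at this
  refine H.full_of_elt Finset.univ_nonempty hu ?_ this
  rw [hγ, dotProduct_smul, smul_eq_mul, map_mul, hJ.self_real, sub_ne_zero]
  intro e
  have := mul_right_cancel₀ pp (neg_injective e)
  exact hs this.symm

/-- All roots on all the factors. -/
theorem full_univ (H : Hyp K J M) (hlow : ∀ l : τ, 2 ≤ Fintype.card (Rest l) → AllMono K J (Rest l))
    {T : Finset τ} {u : τ → Fin m → F} (h2 : 2 ≤ T.card) (hu : IsoOn K J T u) {c : F} (hc : c ≠ 0)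
    (h : InM M (1 + c • nT K J T u)) : Full K J M Finset.univ := by
  haveI := H.neZero
  have hT : T.Nonempty := Finset.card_pos.1 (by omega)
  by_cases hTu : T = Finset.univ
  · subst hTu; exact H.full_of_elt hT hu hc h
  obtain ⟨l, hl⟩ : ∃ l, l ∉ T := by
    by_contra hh
    push Not at hh
    exact hTu (Finset.eq_univ_iff_forall.2 hh)
  have hlt : T.card < Fintype.card τ :=
    (Finset.card_lt_card (Finset.ssubset_iff_subset_ne.2 ⟨Finset.subset_univ _, hTu⟩)).trans_eq Finset.card_univ
  have hR : 2 ≤ Fintype.card (Rest l) := by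
    rw [Fintype.card_subtype_compl, Fintype.card_subtype_eq]; omega
  refine H.full_univ_of_down (by omega) (l := l) ?_
  by_contra hnt
  set T' : Finset (Rest l) := T.subtype (fun j => j ≠ l) with hT'
  have hcard : T'.card = T.card := by
    rw [hT', Finset.card_subtype, Finset.filter_true_of_mem fun j hj => ne_of_mem_of_not_mem hj hl]
  have hu' : IsoOn K J T' (fun j => u j.1) := fun j hj => hu j.1 (Finset.mem_subtype.1 hj)
  have hT'n : T'.Nonempty := Finset.card_pos.1 (by omega)
  obtain ⟨A, hA⟩ : ∃ A, A = 1 + c • nT K J T' (fun j => u j.1) := ⟨_, rfl⟩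
  have hd : A.det = 1 := by
    rw [hA]; exact det_one_add_of_sq (by rw [smul_mul_smul_comm, nT_sq hT'n hu', smul_zero])
  have e : ins l A 1 = 1 + c • nT K J T u := by
    rw [hA, ins_add_left, ins_one_one, ins_smul_left, nT, ins_pureM, nT]
    congr 3
    funext j
    by_cases hj : j = l
    · subst hj; simp [pick, hl]
    · simp [extend, pick, hj, hT']
  obtain ⟨g, hg, hg'⟩ := h
  have hmem : glOf A hd ∈ TensorWreath.down l M := mem_down.2 ⟨by
    rwa [show lift l (glOf A hd) = g from Units.ext (by rw [lift_val, glOf_val, e, hg'])], hd⟩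
  have := hlow l hR _ (H.down l) hnt _ hmem
  rw [glOf_val, hA] at this
  exact not_mono_nT H.hJ H.three (by omega) hu' hc this

end Hyp

end CfsgLib.Classical.TensorWreathU
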