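import Cfsg.Agent.Lib.Classical.TensorUnitary.Gen

set_option autoImplicit false
set_option linter.unusedSectionVars false

/-!
Generation by the transvections with centre a pure tensor with one isotropic component.
-/

namespace CfsgLib.Classical.TensorWreathU

open Matrix CfsgLib.Classical.TensorMax CfsgLib.Classical.Herm CfsgLib.Classical.Elation Cfsg
open CfsgLib.Classical.TensorUnitary (IsHerm ph ph_dot ph_ten_dot line_pars step_pars sum_ten ten_zero_left ten_sub_right)
open CfsgLib.Classical.TensorSymp (ten ten_add_left ten_add_right ten_smul_left ten_smul_right)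
open CfsgLib.ClassicalAut (Unitary.Conj)
open scoped MatrixGroups Kronecker

variable {F : Type*} [Field F] [Finite F] {q : ℕ} {K : Unitary.Conj F q}
variable {α β : Type} [Fintype α] [DecidableEq α] [Fintype β] [DecidableEq β] {n : ℕ}
variable {M : Subgroup (SU n F q)} {JA : Matrix α α F} {JB : Matrix β β F}

/-- Such transvections generate. -/
theorem eq_top_of_rich (hA : IsHerm K JA) (hB : IsHerm K JB) (h2 : 2 ≤ Fintype.card β) (hn : 4 ≤ n)
    (Φ : (α × β → F) →ₗ[F] (Fin n → F)) (hsurj : Function.Surjective Φ)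
    (hΦ : ∀ X Y, hermForm n F q (Φ X) (Φ Y) = ph K (JA ⊗ₖ JB) Y ⬝ᵥ X)
    {u v : α → F} (hu : ph K JA u ⬝ᵥ u = 0) (hv : ph K JA v ⬝ᵥ v = 0) (huv : ph K JA u ⬝ᵥ v = 1)
    (hc₁ : ∀ a b, ph K JB b ⬝ᵥ b = 0 → Φ (ten a b) ∈ centres K M)
    (hc₂ : ∀ b, Φ (ten v b) ∈ centres K M) : M = ⊤ := by
  have hval : ∀ a a' b b', hermForm n F q (Φ (ten a b)) (Φ (ten a' b')) =
      (ph K JA a' ⬝ᵥ a) * (ph K JB b' ⬝ᵥ b) := fun a a' b b' => by rw [hΦ, ph_ten_dot]
  have hvu : ph K JA v ⬝ᵥ u = 1 := by rw [hA.swap, huv, map_one]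
  have ten_zero_right : ∀ a : α → F, ten a (0 : β → F) = 0 := fun a => by ext p; simp [ten]
  obtain ⟨w, hw0, hw, -⟩ := hB.exists_iso_perp (fun i : Fin 0 => i.elim0) (by simpa using h2)
  obtain ⟨z, hwz, hzw, hz⟩ := hB.exists_dual hw hw0
  have he : hermForm n F q (Φ (ten u w)) (Φ (ten u w)) = 0 := by rw [hval, hu, zero_mul]
  have p1 : ∀ a, Φ (ten a w) ∈ pars K M he := fun a => by
    have := line_pars (K := K) he (hc₁ u w hw) (f := Φ (ten a w)) (by rw [hval, hw, mul_zero]) (fun c => by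
        rw [← map_smul, ← ten_smul_left]; exact hc₁ _ _ hw) (fun c => by
        rw [← map_smul, ← ten_smul_left, ← map_add, ← ten_add_left]; exact hc₁ _ _ hw) 1
    rwa [one_smul] at this
  have p2 : ∀ a b, ph K JA u ⬝ᵥ a = 0 → Φ (ten a b) ∈ pars K M he := by
    intro a b ha
    by_cases ha0 : a = 0
    · rw [ha0, ten_zero_left, map_zero]; exact zero_mem _
    obtain ⟨a', ha'⟩ := hA.exists_one ha0
    have hb := hB.span_off_iso hw hz hwz b
    have good : ∀ (c : F) b, (b = w ∨ ph K JB b ⬝ᵥ b = 0 ∧ ph K JB w ⬝ᵥ b ≠ 0) →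
        c • Φ (ten a b) ∈ pars K M he := by
      rintro c b (rfl | ⟨hb, hwb⟩)
      · rw [← map_smul, ← ten_smul_left]; exact p1 _
      · refine step_pars he (x := Φ (ten a' w)) (fun d => by rw [← map_smul, ← ten_smul_left]; exact p1 _)
          (hc₁ a b hb) ?_ ?_ c
        · rw [hval, hA.orth_comm ha, zero_mul]
        · rw [hval, ha', one_mul]
          exact hB.ne_comm hwb
    suffices ∀ c : F, c • Φ (ten a b) ∈ pars K M he by simpa using this 1
    induction hb using Submodule.span_induction with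
    | mem b hb => exact fun c => good c b hb
    | zero => intro c; rw [ten_zero_right, map_zero, smul_zero]; exact zero_mem _
    | add b b' _ _ h h' => intro c; rw [ten_add_right, map_add, smul_add]; exact add_mem (h c) (h' c)
    | smul r b _ h => intro c; rw [ten_smul_right, map_smul, smul_smul]; exact h _
  have p3 : ∀ b, ph K JB w ⬝ᵥ b = 0 → Φ (ten v b) ∈ pars K M he := by
    intro b hb
    by_cases hb0 : b = 0
    · rw [hb0, ten_zero_right, map_zero]; exact zero_mem _
    obtain ⟨b', hb'⟩ := hB.exists_one hb0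
    have := step_pars he (x := Φ (ten u b')) (fun c => by
      rw [← map_smul, ← ten_smul_right]; exact p2 _ _ hu) (hc₂ b)
      (by rw [hval, hB.orth_comm hb, mul_zero]) (by rw [hval, hvu, hb', one_mul]; exact one_ne_zero) 1
    rwa [one_smul] at this
  have p4 : ∀ a b, ph K JB w ⬝ᵥ b = 0 → Φ (ten a b) ∈ pars K M he := by
    intro a b hb
    rw [show a = (a - (ph K JA u ⬝ᵥ a) • v) + (ph K JA u ⬝ᵥ a) • v by abel, ten_add_left, map_add,
      ten_smul_left, ← ten_smul_right]
    exact add_mem (p2 _ _ (by rw [dotProduct_sub, dotProduct_smul, huv, smul_eq_mul, mul_one, sub_self]))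
      (p3 _ (by rw [dotProduct_smul, hb, smul_zero]))
  obtain ⟨θ, hθ0, hθ⟩ := TensorUnitary.exists_skew K
  have hvz : hermForm n F q (Φ (ten v z)) (Φ (ten v z)) = 0 := by rw [hval, hv, zero_mul]
  obtain ⟨s, hs⟩ := exists_T K hvz (c := θ) (by rw [hθ, add_neg_cancel])
  refine eq_top_of_elations K he (by omega) (fun h => by omega) (hc₁ u w hw).2 (fun X hX => ?_) (s := s)
    ((hc₂ z).2 _ _ hs) ?_
  · obtain ⟨Y, rfl⟩ := hsurj X
    obtain ⟨a, ha⟩ : ∃ a, a = kr α (ph K JB w) *ᵥ Y := ⟨_, rfl⟩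
    have hua : ph K JA u ⬝ᵥ a = 0 := by
      rw [hΦ] at hX
      rw [← hX, ha, sum_ten Y, Matrix.mulVec_sum, dotProduct_sum, dotProduct_sum]
      exact Finset.sum_congr rfl fun i _ => by
        rw [ph_ten_dot, TensorUnitary.kr_mulVec_ten, dotProduct_smul, smul_eq_mul, mul_comm]
    have h1 : ∀ i, Φ (ten (Pi.single i 1) ((fun l => Y (i, l)) - a i • z)) ∈ pars K M he := fun i => p4 _ _ (by
      rw [dotProduct_sub, dotProduct_smul, hwz, smul_eq_mul, mul_one, ha, TensorUnitary.kr_mulVec, sub_self])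
    have e1 : Y = ∑ i, ten (Pi.single i 1) ((fun l => Y (i, l)) - a i • z) + ten a z := by
      funext ⟨i, l⟩
      rw [Pi.add_apply, Finset.sum_apply, Finset.sum_eq_single i]
      · simp [ten]
      · intro j _ hj; simp [ten, Pi.single_eq_of_ne (Ne.symm hj)]
      · simp
    rw [e1, map_add, map_sum]
    exact add_mem (sum_mem fun i _ => h1 i) (p2 _ _ hua)
  · rw [hs.2.2, h_add_left K, he, zero_add, h_smul_left K, hval, hval, hvu, hzw, huv, hwz, one_mul, mul_one,
      mul_one]
    exact hθ0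

end CfsgLib.Classical.TensorWreathU
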