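import Cfsg.Agent.Lib.Classical.TensorWreathU.Weak

set_option autoImplicit false
set_option linter.unusedSectionVars false

/-!
A conjugator fixing `F^α ⊗ w` is a translation, a central element and a product.
-/

namespace CfsgLib.Classical.TensorWreathU

open Matrix CfsgLib.Classical.TensorUnitary CfsgLib.Classical.TensorMax
open CfsgLib.Classical.TensorSymp (ten kr_mul_apply kc_mul_apply eq_of_mul_kc_all)
open CfsgLib.ClassicalAut (Unitary.Conj)
open scoped MatrixGroups Kronecker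

variable {F : Type*} [Field F] [Finite F] {q : ℕ} {K : Unitary.Conj F q}
variable {α β : Type} [Fintype α] [DecidableEq α] [Fintype β] [DecidableEq β]
variable {JA : Matrix α α F} {JB : Matrix β β F} {M M' : Subgroup (GL (α × β) F)}

/-- A conjugator fixing `F^α ⊗ w`. -/
theorem exists_split (H₁ : Weak K JA JB M) (H₂ : Weak K JA JB M') (hS : Small K JB M') {g : GL (α × β) F}
    (hgi : Iso K (JA ⊗ₖ JB) g.1) (hrel : ∀ x ∈ M, g * x * g⁻¹ ∈ M') {w : β → F}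
    (hw : ph K JB w ⬝ᵥ w = 0) (hw0 : w ≠ 0) {A : Matrix α α F} (hA : g.1 * kc α w = kc α w * A) :
    ∃ (T₁ : Matrix β β F) (C A₁ : Matrix α α F) (T : Matrix β β F) (ν : F), Iso K JB T₁ ∧ T₁.det = 1 ∧
      Iso K JA A₁ ∧ Iso K JB T ∧ T *ᵥ w = ν • w ∧ ν ≠ 0 ∧
      g.1 = ((1 : Matrix α α F) ⊗ₖ T₁) * (1 + Zm K JB w C) * (A₁ ⊗ₖ T) := by
  have H := H₂.h0
  classical
  obtain ⟨i₀⟩ := H.nonempty_left
  haveI := H.nonempty_left
  haveI := H.nonempty_right
  obtain ⟨z, wz, zw, zz⟩ := H.hB.exists_dual hw hw0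
  obtain ⟨θ, hθ⟩ := exists_dual_one hw0
  set A' := blk (g⁻¹).1 θ w with hA'def
  have hA' : A' * A = 1 := by
    rw [hA'def, blk, Matrix.mul_assoc, ← hA, ← Matrix.mul_assoc, Matrix.mul_assoc (kr α θ), g.inv_mul,
      Matrix.mul_one, kr_mul_kc, hθ, one_smul]
  have hAA : A * A' = 1 := mul_eq_one_comm.1 hA'
  have hginv : (g⁻¹).1 * kc α w = kc α w * A' := by
    calc (g⁻¹).1 * kc α w = (g⁻¹).1 * (kc α w * A * A') := by rw [Matrix.mul_assoc (kc α w), hAA, Matrix.mul_one]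
      _ = (g⁻¹).1 * (g.1 * kc α w * A') := by rw [hA]
      _ = kc α w * A' := by rw [← Matrix.mul_assoc, ← Matrix.mul_assoc, g.inv_mul, Matrix.one_mul]
  have hφw := H.adjoint_line (hgi) hA
  -- the contractions
  have hσ : ∀ v y : β → F, ph K JB w ⬝ᵥ v = 0 → ph K JB w ⬝ᵥ y = 0 →
      ∃ s : F, A * (kr α (ph K JB v) * ((g⁻¹).1 * kc α y)) = s • 1 := by
    intro v y hv hy
    obtain ⟨k, hk⟩ := H.hB.exists_k v
    obtain ⟨t, htM, ht'⟩ := H₁.right _ (H.hB.iso_trl hw hv hk) (H.hB.det_trl hw hv k)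
    have ht : t.1 = 1 + kc α v * kr α (ph K JB w) - kc α w * kr α (ph K JB v) +
        k • (kc α w * kr α (ph K JB w)) := by
      rw [ht', trl]
      simp only [Matrix.kronecker_add, TensorOrth.kron_sub, Matrix.kronecker_smul, Matrix.one_kronecker_one,
        kc_mul_kr]
    have tapp : ∀ X : Matrix (α × β) α F, kr α (ph K JB w) * X = 0 →
        t.1 * X = X + kc α w * (-(kr α (ph K JB v) * X)) := fun X hX => by
      simp only [ht, Matrix.add_mul, Matrix.sub_mul, Matrix.one_mul, Matrix.smul_mul, Matrix.mul_assoc, hX,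
        Matrix.mul_zero, smul_zero, add_zero, Matrix.mul_neg, sub_eq_add_neg, Matrix.neg_mul]
    have tfix : t.1 * kc α w = kc α w := by
      rw [tapp _ (by rw [kr_mul_kc, hw, zero_smul]), kr_mul_kc, H.hB.orth_comm hv, zero_smul, neg_zero,
        Matrix.mul_zero, add_zero]
    have trad : Rad K JA JB w t := H.rad_mk wz (H₁.le t htM).1 tfix fun y hy =>
      ⟨_, tapp _ (by rw [kr_mul_kc, hy, zero_smul])⟩
    have hR := H.rad_conj hw0 trad (hgi) hA hginv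
    obtain ⟨X, hX⟩ : ∃ X, X = (g⁻¹).1 * kc α y := ⟨_, rfl⟩
    have hXw : kr α (ph K JB w) * X = 0 := by
      rw [hX, ← Matrix.mul_assoc, hφw, Matrix.mul_assoc, kr_mul_kc, hy, zero_smul, Matrix.mul_zero]
    have hM' := hrel t htM
    obtain ⟨s, hs⟩ := H₂.scalar_levels hS hw hw0 hR
      (fun t' ht' _ => M'.mul_mem (M'.mul_mem hM' ht') (M'.inv_mem hM')) hy
      (E := A * (-(kr α (ph K JB v) * X))) (by
      rw [Units.val_mul, Units.val_mul, Matrix.mul_assoc, ← hX, Matrix.mul_assoc, tapp X hXw, Matrix.mul_add, hX,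
        ← Matrix.mul_assoc g.1 (g⁻¹).1, g.mul_inv, Matrix.one_mul, ← Matrix.mul_assoc g.1 (kc α w), hA,
        Matrix.mul_assoc])
    exact ⟨-s, by rw [neg_smul, ← hs, hX, Matrix.mul_neg, neg_neg]⟩
  set h : Matrix (α × β) (α × β) F := (A ⊗ₖ (1 : Matrix β β F)) * (g⁻¹).1 with hh
  have hkr : ∀ φ : β → F, (kr α φ : Matrix α (α × β) F) * h = A * kr α φ * (g⁻¹).1 := fun φ => by
    rw [hh, ← Matrix.mul_assoc, kr_mul_kron, Matrix.vecMul_one]
  have hhw : h * kc α w = kc α w := by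
    rw [hh, Matrix.mul_assoc, hginv, ← Matrix.mul_assoc, kron_mul_kc, Matrix.one_mulVec, Matrix.mul_assoc, hAA,
      Matrix.mul_one]
  -- the second factor
  set T0 : Matrix β β F := Matrix.of fun k l => h (i₀, k) (i₀, l) with hT0
  have hcon : ∀ φ y : β → F, (kr α φ * h * kc α y) i₀ i₀ = φ ⬝ᵥ (T0 *ᵥ y) := by
    intro φ y
    rw [Matrix.mul_assoc, kr_mul_apply]
    congr 1
    ext k
    simp [Matrix.mul_apply, Fintype.sum_prod_type, kc_apply, hT0, Matrix.mulVec, dotProduct, mul_ite]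
  have hT0w : T0 *ᵥ w = w := by
    ext k
    have := hcon (Pi.single k 1) w
    rw [Matrix.mul_assoc, hhw, kr_mul_kc, single_dotProduct, single_dotProduct, one_mul, one_mul,
      Matrix.smul_apply, Matrix.one_apply_eq, smul_eq_mul, mul_one] at this
    exact this.symm
  have hT0perp : ∀ y, ph K JB w ⬝ᵥ y = 0 → ph K JB w ⬝ᵥ (T0 *ᵥ y) = 0 := fun y hy => by
    rw [← hcon, hkr, Matrix.mul_assoc A, hφw, ← Matrix.mul_assoc A, Matrix.mul_assoc _ _ (kc α y), kr_mul_kc, hy,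
      zero_smul, Matrix.mul_zero, Matrix.zero_apply]
  have hperp0 : ∀ y, ph K JB w ⬝ᵥ y = 0 → ∃ E : Matrix α α F, h * kc α y = kc α (T0 *ᵥ y) + kc α w * E := by
    intro y hy
    refine ⟨kr α θ * (h * kc α y - kc α (T0 *ᵥ y)), ?_⟩
    rw [← H.split_kc hθ (X := h * kc α y - kc α (T0 *ᵥ y)) (fun a ha => ?_), add_sub_cancel]
    obtain ⟨s, hs⟩ := hσ a y ha hy
    have e1 : kr α (ph K JB a) * h * kc α y = s • 1 := by
      rw [hkr, ← hs]
      simp only [Matrix.mul_assoc]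
    have e2 := hcon (ph K JB a) y
    rw [e1, Matrix.smul_apply, Matrix.one_apply_eq, smul_eq_mul, mul_one] at e2
    rw [Matrix.mul_sub, ← Matrix.mul_assoc, e1, kr_mul_kc, ← e2, sub_self]
  -- the multiplier
  obtain ⟨μ, hμ0, hμr, hμ, hμ'⟩ : ∃ μ : F, μ ≠ 0 ∧ K.bar μ = μ ∧ A * adj K JA A = μ • 1 ∧
      adj K JA A * A = μ • 1 := by
    obtain ⟨e, hwe, -, hee⟩ := H.hB.exists_aniso H.three hw zz wz
    obtain ⟨E, hE⟩ := hperp0 e hwe
    have hge : (g⁻¹).1 * kc α e = kc α (T0 *ᵥ e) * A' + kc α w * (A' * E) := by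
      have h0 : (g⁻¹).1 = (A' ⊗ₖ (1 : Matrix β β F)) * h := by
        rw [hh, ← Matrix.mul_assoc, ← Matrix.mul_kronecker_mul, hA', Matrix.one_mul, Matrix.one_kronecker_one,
          Matrix.one_mul]
      rw [h0, Matrix.mul_assoc, hE, Matrix.mul_add, ← Matrix.mul_assoc, kron_mul_kc, kron_mul_kc, Matrix.one_mulVec,
        Matrix.one_mulVec, Matrix.mul_assoc]
    obtain ⟨d, hd⟩ : ∃ d, d = ph K JB (T0 *ᵥ e) ⬝ᵥ (T0 *ᵥ e) := ⟨_, rfl⟩
    have key : cj K ((g⁻¹).1 * kc α e) * (JA ⊗ₖ JB) * ((g⁻¹).1 * kc α e) =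
        cj K (kc α e) * (JA ⊗ₖ JB) * kc α e := by
      calc cj K ((g⁻¹).1 * kc α e) * (JA ⊗ₖ JB) * ((g⁻¹).1 * kc α e)
          = cj K (kc α e) * (cj K (g⁻¹).1 * (JA ⊗ₖ JB) * (g⁻¹).1) * kc α e := by
            rw [cj_mul]; simp only [Matrix.mul_assoc]
        _ = _ := by rw [H.iso_inv (hgi)]
    rw [hge, cj_add, cj_mul, cj_mul, Matrix.add_mul, Matrix.mul_assoc _ (cj K (kc α _)), cj_kc_form,
      Matrix.mul_assoc _ (cj K (kc α _)), cj_kc_form, cj_kc_form] at key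
    simp only [Matrix.mul_add, Matrix.add_mul, Matrix.mul_assoc, kr_mul_kc, kr_kc_mul, hT0perp e hwe,
      H.hB.orth_comm (hT0perp e hwe), hw, zero_smul, Matrix.mul_zero, add_zero, ← hd, Matrix.mul_smul,
      Matrix.mul_one] at key
    rw [← Matrix.mul_assoc (cj K A'), ← H.hA.mul_adj, Matrix.mul_assoc] at key
    have h1 : d • (adj K JA A' * A') = (ph K JB e ⬝ᵥ e) • 1 := by
      have h2 := congrArg (JA⁻¹ * ·) key
      simpa only [Matrix.mul_smul, ← Matrix.mul_assoc, Matrix.nonsing_inv_mul JA H.hA.isUnit, Matrix.one_mul]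
        using h2
    obtain ⟨f, hf⟩ : ∃ f, f = ph K JB e ⬝ᵥ e := ⟨_, rfl⟩
    rw [← hf] at h1 hee
    have hd0 : d ≠ 0 := fun e0 => by
      rw [e0, zero_smul, eq_comm, smul_eq_zero] at h1
      exact one_ne_zero (h1.resolve_left hee)
    have hinv : adj K JA A * adj K JA A' = 1 := by rw [← H.hA.adj_mul, hA', H.hA.adj_one]
    have h2 : f • adj K JA A = d • A' := by
      have := congrArg (adj K JA A * ·) h1
      simp only [Matrix.mul_smul, ← Matrix.mul_assoc, hinv, Matrix.one_mul, Matrix.mul_one] at this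
      exact this.symm
    have h3 : adj K JA A = (d / f) • A' := by
      rw [div_eq_inv_mul, mul_smul, ← h2, smul_smul, inv_mul_cancel₀ hee, one_smul]
    have e3 : adj K JA A * A = (d / f) • 1 := by rw [h3, Matrix.smul_mul, hA']
    refine ⟨d / f, div_ne_zero hd0 hee, ?_, by rw [h3, Matrix.mul_smul, hAA], e3⟩
    have h4 := congrArg (adj K JA) e3
    rw [H.hA.adj_mul, H.hA.adj_adj, H.hA.adj_smul, H.hA.adj_one, e3] at h4
    have h5 := congrFun₂ h4 i₀ i₀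
    simpa using h5.symm
  have hhφ : kr α (ph K JB w) * h = μ • kr α (ph K JB w) := by
    rw [hkr, Matrix.mul_assoc, hφw, ← Matrix.mul_assoc, hμ, Matrix.smul_mul, Matrix.one_mul]
  have hAJ : cj K A * JA * A = μ • JA := by
    rw [← H.hA.mul_adj, Matrix.mul_assoc, hμ', Matrix.mul_smul, Matrix.mul_one]
  have hgram : cj K h * (JA ⊗ₖ JB) * h = μ • (JA ⊗ₖ JB) := by
    have := H.iso_inv (hgi)
    calc cj K h * (JA ⊗ₖ JB) * h
        = cj K (g⁻¹).1 * (cj K (A ⊗ₖ (1 : Matrix β β F)) * (JA ⊗ₖ JB) * (A ⊗ₖ (1 : Matrix β β F))) * (g⁻¹).1 := by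
          rw [hh, cj_mul]; simp only [Matrix.mul_assoc]
      _ = μ • (JA ⊗ₖ JB) := by
          rw [cj_kron, ← Matrix.mul_kronecker_mul, ← Matrix.mul_kronecker_mul, cj_one, Matrix.one_mul,
            Matrix.mul_one, hAJ, Matrix.smul_kronecker, Matrix.mul_smul, Matrix.smul_mul, this]
  have hT0φ : ∀ y, ph K JB w ⬝ᵥ (T0 *ᵥ y) = μ * (ph K JB w ⬝ᵥ y) := fun y => by
    rw [← hcon, hhφ, Matrix.smul_mul, kr_mul_kc]
    simp
  obtain ⟨a, ha⟩ : ∃ a, a = ph K JB (T0 *ᵥ z) ⬝ᵥ (T0 *ᵥ z) := ⟨_, rfl⟩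
  obtain ⟨κ, hκ⟩ := exists_tr K (a := -(μ⁻¹ * a)) (by rw [map_neg, map_mul, map_inv₀, hμr, ha, H.hB.self_real])
  obtain ⟨η, hη⟩ : ∃ η : β → F,
      η = ph K JB z - μ⁻¹ • (ph K JB (T0 *ᵥ z) ᵥ* T0) - K.bar κ • ph K JB w := ⟨_, rfl⟩
  have hηy : ∀ y, η ⬝ᵥ y =
      ph K JB z ⬝ᵥ y - μ⁻¹ * (ph K JB (T0 *ᵥ z) ⬝ᵥ (T0 *ᵥ y)) - K.bar κ * (ph K JB w ⬝ᵥ y) := fun y => by
    rw [hη, sub_dotProduct, sub_dotProduct, smul_dotProduct, smul_dotProduct, ← Matrix.dotProduct_mulVec]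
    rfl
  have hdw : ph K JB (T0 *ᵥ z) ⬝ᵥ w = μ := by rw [H.hB.swap, hT0φ, wz, mul_one, hμr]
  have hηw : η ⬝ᵥ w = 0 := by
    rw [hηy, hT0w, hdw, zw, hw, inv_mul_cancel₀ hμ0]
    ring
  have hηz : η ⬝ᵥ z = κ := by
    rw [hηy, zz, wz, ← ha]
    linear_combination -hκ
  set T : Matrix β β F := T0 + Matrix.vecMulVec w η with hT
  have hTy : ∀ y, T *ᵥ y = T0 *ᵥ y + (η ⬝ᵥ y) • w := fun y => by
    rw [hT, Matrix.add_mulVec, Matrix.vecMulVec_mulVec, op_smul_eq_smul]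
  have hTw : T *ᵥ w = w := by rw [hTy, hT0w, hηw, zero_smul, add_zero]
  have hperp : ∀ y, ph K JB w ⬝ᵥ y = 0 → ∃ E : Matrix α α F, h * kc α y = kc α (T *ᵥ y) + kc α w * E := by
    intro y hy
    obtain ⟨E, hE⟩ := hperp0 y hy
    refine ⟨E - (η ⬝ᵥ y) • 1, ?_⟩
    rw [hE, hTy, kc_add, kc_smul, Matrix.mul_sub, Matrix.mul_smul, Matrix.mul_one]
    abel
  have hTperp : ∀ y, ph K JB w ⬝ᵥ y = 0 → ph K JB w ⬝ᵥ (T *ᵥ y) = 0 := fun y hy => by
    rw [hTy, dotProduct_add, dotProduct_smul, hT0perp y hy, hw, smul_zero, add_zero]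
  have hform : ∀ a b, ph K JB w ⬝ᵥ a = 0 → ph K JB w ⬝ᵥ b = 0 →
      ph K JB (T *ᵥ a) ⬝ᵥ (T *ᵥ b) = μ * (ph K JB a ⬝ᵥ b) := by
    intro a b ha hb
    obtain ⟨Ea, hEa⟩ := hperp a ha
    obtain ⟨Eb, hEb⟩ := hperp b hb
    have key : cj K (h * kc α a) * (JA ⊗ₖ JB) * (h * kc α b) = μ • (cj K (kc α a) * (JA ⊗ₖ JB) * kc α b) := by
      calc cj K (h * kc α a) * (JA ⊗ₖ JB) * (h * kc α b) = cj K (kc α a) * (cj K h * (JA ⊗ₖ JB) * h) * kc α b := by
            rw [cj_mul]; simp only [Matrix.mul_assoc]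
        _ = _ := by rw [hgram, Matrix.mul_smul, Matrix.smul_mul]
    rw [hEa, hEb, cj_add, cj_mul, Matrix.add_mul (cj K (kc α _)), Matrix.mul_assoc _ (cj K (kc α _)),
      cj_kc_form, cj_kc_form, cj_kc_form] at key
    simp only [Matrix.mul_add, Matrix.add_mul, Matrix.mul_assoc, kr_mul_kc, kr_kc_mul, hTperp b hb,
      H.hB.orth_comm (hTperp a ha), hw, zero_smul, Matrix.mul_zero, add_zero, Matrix.mul_smul, Matrix.mul_one,
      smul_smul] at key
    exact smul_left_injective F (fun e => H.hA.det_ne (by rw [e, Matrix.det_zero])) key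
  have hsim : ∀ a b, ph K JB (T *ᵥ a) ⬝ᵥ (T *ᵥ b) = ph K (μ • JB) a ⬝ᵥ b := by
    have hzy : ∀ y, ph K JB (T *ᵥ z) ⬝ᵥ (T *ᵥ y) = μ * (ph K JB z ⬝ᵥ y) := fun y => by
      rw [hTy z, hTy y, hηz]
      simp only [ph_add, ph_smul, add_dotProduct, smul_dotProduct, dotProduct_add, dotProduct_smul, hdw, hT0φ, hw,
        smul_eq_mul, mul_zero, add_zero]
      have e1 : μ * μ⁻¹ = 1 := mul_inv_cancel₀ hμ0
      linear_combination μ * hηy y - (ph K JB (T0 *ᵥ z) ⬝ᵥ (T0 *ᵥ y)) * e1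
    intro a b
    rw [show ph K (μ • JB) a = μ • ph K JB a by rw [ph, ph, Matrix.vecMul_smul], smul_dotProduct, smul_eq_mul]
    obtain ⟨p, hp⟩ : ∃ p, p = ph K JB w ⬝ᵥ a := ⟨_, rfl⟩
    obtain ⟨r, hr⟩ : ∃ r, r = ph K JB w ⬝ᵥ b := ⟨_, rfl⟩
    have ha : ph K JB w ⬝ᵥ (a - p • z) = 0 := by
      rw [dotProduct_sub, dotProduct_smul, wz, smul_eq_mul, mul_one, hp, sub_self]
    have hb : ph K JB w ⬝ᵥ (b - r • z) = 0 := by
      rw [dotProduct_sub, dotProduct_smul, wz, smul_eq_mul, mul_one, hr, sub_self]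
    have e0 := hform _ _ ha hb
    have e1 := hzy b
    have e2 := congrArg K.bar (hzy a)
    rw [map_mul, ← H.hB.swap, ← H.hB.swap, hμr] at e2
    have e3 := hzy z
    rw [zz, mul_zero] at e3
    simp only [Matrix.mulVec_sub, Matrix.mulVec_smul, ph_sub, ph_smul, sub_dotProduct, dotProduct_sub,
      smul_dotProduct, dotProduct_smul, smul_eq_mul, zz, e3] at e0
    linear_combination e0 + K.bar p * e1 + r * e2
  have hTT : cj K T * JB * T = μ • JB := H.hB.form_ext hsim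
  have hTdet : T.det ≠ 0 := fun e => by
    have := congrArg Matrix.det hTT
    rw [Matrix.det_mul, e, mul_zero, Matrix.det_smul] at this
    exact (mul_ne_zero (pow_ne_zero _ hμ0) H.hB.det_ne) this.symm
  set T' := T⁻¹ with hT'
  have hT'T : T' * T = 1 := Matrix.nonsing_inv_mul T (Ne.isUnit hTdet)
  have hTT' : T * T' = 1 := Matrix.mul_nonsing_inv T (Ne.isUnit hTdet)
  have hT'w : T' *ᵥ w = w := by
    conv_lhs => rw [← hTw]
    rw [Matrix.mulVec_mulVec, hT'T, Matrix.one_mulVec]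
  have hATg : Iso K (JA ⊗ₖ JB) (A ⊗ₖ T') := by
    have : cj K T' * JB * T' = μ⁻¹ • JB := by
      have e' : JB = μ⁻¹ • (cj K T * JB * T) := by rw [hTT, smul_smul, inv_mul_cancel₀ hμ0, one_smul]
      conv_lhs => rw [e']
      rw [Matrix.mul_smul, Matrix.smul_mul, ← Matrix.mul_assoc, ← Matrix.mul_assoc, ← cj_mul, hTT', cj_one,
        Matrix.one_mul, Matrix.mul_assoc, hTT', Matrix.mul_one]
    show cj K (A ⊗ₖ T') * (JA ⊗ₖ JB) * (A ⊗ₖ T') = _
    rw [cj_kron, ← Matrix.mul_kronecker_mul, ← Matrix.mul_kronecker_mul, hAJ, this,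
      Matrix.smul_kronecker, Matrix.kronecker_smul, smul_smul, mul_inv_cancel₀ hμ0, one_smul]
  obtain ⟨n, hnval⟩ : ∃ n : GL (α × β) F, n.1 = A ⊗ₖ T' :=
    ⟨Matrix.GeneralLinearGroup.mkOfDetNeZero _ (H.hAB.det_iso hATg).ne_zero, rfl⟩
  obtain ⟨R, hRdef⟩ : ∃ R, R = n * g⁻¹ := ⟨_, rfl⟩
  have hRval : R.1 = ((1 : Matrix α α F) ⊗ₖ T') * h := by
    rw [hRdef, Units.val_mul, hnval, hh, ← Matrix.mul_assoc, ← Matrix.mul_kronecker_mul, Matrix.one_mul,
      Matrix.mul_one]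
  have hRiso : Iso K (JA ⊗ₖ JB) R.1 := by
    rw [hRdef, Units.val_mul, hnval]
    exact H.hAB.iso_mul hATg (H.iso_inv (hgi))
  have hRw : R.1 * kc α w = kc α w := by
    rw [hRval, Matrix.mul_assoc, hhw, kron_mul_kc, hT'w, Matrix.mul_one]
  have hRperp : ∀ y, ph K JB w ⬝ᵥ y = 0 → ∃ E : Matrix α α F, R.1 * kc α y = kc α y + kc α w * E := by
    intro y hy
    obtain ⟨E, hE⟩ := hperp y hy
    refine ⟨E, ?_⟩
    rw [hRval, Matrix.mul_assoc, hE, Matrix.mul_add, ← Matrix.mul_assoc, kron_mul_kc, kron_mul_kc, hT'w,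
      Matrix.mulVec_mulVec, hT'T, Matrix.one_mulVec, Matrix.mul_one, Matrix.mul_one]
  -- the radical part
  have hRrad : Rad K JA JB w R := H.rad_mk wz hRiso hRw hRperp
  have hRinv : Rad K JA JB w R⁻¹ := by
    have hiw : (R⁻¹).1 * kc α w = kc α w := by
      conv_lhs => rw [← hRw]
      rw [← Matrix.mul_assoc, R.inv_mul, Matrix.one_mul]
    refine H.rad_mk wz (H.iso_inv hRiso) hiw fun y hy => ?_
    obtain ⟨E, hE⟩ := hRperp y hy
    refine ⟨-E, ?_⟩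
    have h1 := congrArg ((R⁻¹).1 * ·) hE
    simp only [← Matrix.mul_assoc, R.inv_mul, Matrix.one_mul, Matrix.mul_add, hiw] at h1
    rw [Matrix.mul_neg]; linear_combination (norm := abel) -h1
  have hcT : ∀ {X : Matrix β β F}, Iso K JB X → Iso K JB (T * X * T') := fun {X} hX => by
    show cj K (T * X * T') * JB * (T * X * T') = JB
    have e' : cj K T' * (cj K T * JB * T) * T' = JB := by
      rw [← Matrix.mul_assoc, ← Matrix.mul_assoc, ← cj_mul, hTT', cj_one, Matrix.one_mul, Matrix.mul_assoc, hTT',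
        Matrix.mul_one]
    rw [hTT] at e'
    refine Eq.trans ?_ e'
    rw [show cj K (T * X * T') * JB * (T * X * T') = cj K T' * (cj K X * (cj K T * JB * T) * X) * T' by
      rw [cj_mul, cj_mul]; simp only [Matrix.mul_assoc], hTT]
    simp only [Matrix.mul_smul, Matrix.smul_mul]
    rw [show cj K X * JB * X = JB from hX]
  have hni : (n⁻¹).1 = A' ⊗ₖ T := by
    refine left_inv_eq_right_inv (a := n.1) n.inv_mul ?_
    rw [hnval, ← Matrix.mul_kronecker_mul, hAA, hT'T, Matrix.one_kronecker_one]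
  have hconj : ∀ t ∈ M', (∃ X : Matrix β β F, Iso K JB X ∧ X.det = 1 ∧ t.1 = (1 : Matrix α α F) ⊗ₖ X) →
      R⁻¹ * t * (R⁻¹)⁻¹ ∈ M' := by
    rintro t - ⟨X, hX, dX, htX⟩
    obtain ⟨s, hsM, hs⟩ := H₁.right _ (hcT hX) (by
      rw [Matrix.det_mul, Matrix.det_mul, dX, mul_one, ← Matrix.det_mul, hTT', Matrix.det_one])
    have e : n⁻¹ * t * n = s := Units.ext (by
      rw [Units.val_mul, Units.val_mul, hni, htX, hnval, ← Matrix.mul_kronecker_mul, ← Matrix.mul_kronecker_mul,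
        Matrix.mul_one, hA', hs])
    rw [show R⁻¹ * t * (R⁻¹)⁻¹ = g * (n⁻¹ * t * n) * g⁻¹ by
      simp only [hRdef, _root_.mul_inv_rev, inv_inv, mul_assoc], e]
    exact hrel s hsM
  set L : β → F := fun l => (kr α θ * (R.1 - 1) : Matrix α (α × β) F) i₀ (i₀, l) with hLdef
  have hLev : ∀ a, ph K JB w ⬝ᵥ a = 0 → R.1 * kc α a = kc α a + (L ⬝ᵥ a) • kc α w := by
    intro a ha
    obtain ⟨E, hE⟩ := hRperp a ha
    have hiw : (R⁻¹).1 * kc α w = kc α w := hRinv.2.1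
    have hEi : (R⁻¹).1 * kc α a = kc α a + kc α w * (-E) := by
      have h1 := congrArg ((R⁻¹).1 * ·) hE
      simp only [← Matrix.mul_assoc, R.inv_mul, Matrix.one_mul, Matrix.mul_add, hiw] at h1
      rw [Matrix.mul_neg]; linear_combination (norm := abel) -h1
    obtain ⟨s, hs⟩ : ∃ s : F, E = s • 1 := by
      obtain ⟨s, hs⟩ := H₂.scalar_levels hS hw hw0 hRinv hconj ha hEi
      exact ⟨-s, by rw [neg_smul, ← hs, neg_neg]⟩
    have e : L ⬝ᵥ a = s := by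
      have e1 : (kr α θ * (R.1 - 1)) * kc α a = s • 1 := by
        rw [Matrix.mul_assoc, Matrix.sub_mul, Matrix.one_mul, hE, add_sub_cancel_left, ← Matrix.mul_assoc, kr_mul_kc,
          hθ, one_smul, Matrix.one_mul, hs]
      have e2 := congrFun₂ e1 i₀ i₀
      rw [Matrix.smul_apply, Matrix.one_apply_eq, smul_eq_mul, mul_one] at e2
      rw [← e2, Matrix.mul_apply, Fintype.sum_prod_type, Fintype.sum_eq_single i₀]
      · simp [kc_apply, dotProduct, hLdef]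
      · intro b hb; simp [kc_apply, hb]
    rw [hE, hs, e, Matrix.mul_smul, Matrix.mul_one]
  have hLw : L ⬝ᵥ w = 0 := by
    have h0 := hLev w hw
    rw [hRw, left_eq_add] at h0
    by_contra hne
    have h2 := congrArg ((kr α θ) * ·) h0
    simp only [Matrix.mul_smul, kr_mul_kc, hθ, one_smul, Matrix.mul_zero] at h2
    have h1 := congrFun₂ h2 i₀ i₀
    rw [Matrix.smul_apply, Matrix.one_apply_eq, smul_eq_mul, mul_one] at h1
    exact hne h1
  obtain ⟨ψ, hψL⟩ := H.hB.surj L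
  have hψw : ph K JB w ⬝ᵥ ψ = 0 := by rw [H.hB.swap, hψL, hLw, map_zero]
  obtain ⟨k, hk⟩ := H.hB.exists_k ψ
  obtain ⟨t, htM, -, ht⟩ := H.inM_trl hw hψw hk
  have htv : t.1 = (1 : Matrix α α F) ⊗ₖ trl K JB w ψ k := by
    rw [ht, trl]
    simp only [Matrix.kronecker_add, TensorOrth.kron_sub, Matrix.kronecker_smul, Matrix.one_kronecker_one,
      kc_mul_kr]
  obtain ⟨r2, hr2⟩ : ∃ r2, r2 = R * t := ⟨_, rfl⟩
  have hfix : ∀ a, ph K JB w ⬝ᵥ a = 0 → r2.1 * kc α a = kc α a := by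
    intro a ha
    rw [hr2, Units.val_mul, Matrix.mul_assoc, ht]
    simp only [Matrix.add_mul, Matrix.sub_mul, Matrix.one_mul, Matrix.smul_mul, Matrix.mul_assoc, kr_mul_kc, ha,
      hψL, zero_smul, Matrix.mul_zero, smul_zero, add_zero, Matrix.mul_sub, Matrix.mul_smul, Matrix.mul_one,
      hRw, hLev a ha, add_sub_cancel_right]
  have hr2i : Iso K (JA ⊗ₖ JB) r2.1 := by
    rw [hr2, Units.val_mul]; exact H.hAB.iso_mul hRiso (H.le t htM).1
  obtain ⟨C, hC⟩ := H.rad_zero hw hw0 hr2i hfix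
  have hr2inv : (r2⁻¹).1 = 1 + Zm K JB w (-C) := by
    refine left_inv_eq_right_inv (a := r2.1) r2.inv_mul ?_
    rw [hC, show Zm K JB w (-C) = -Zm K JB w C by rw [← neg_one_smul F C, zm_smul, neg_one_smul], ← sub_eq_add_neg,
      one_kron_sub K JB hw]
  have hg' : g = t * r2⁻¹ * n := by rw [hr2, hRdef, _root_.mul_inv_rev, _root_.mul_inv_rev, inv_inv]; group
  obtain ⟨ν, hν⟩ := K.exists_norm μ hμr
  have hνn : K.bar ν * ν = μ := by rw [mul_comm] at hν ⊢; first | exact hν | (rw [mul_comm]; exact hν)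
  have hν0 : ν ≠ 0 := fun e => hμ0 (by rw [← hνn, e, mul_zero])
  have hνb : K.bar ν ≠ 0 := fun e => hν0 (by rw [← K.bar_bar ν, e, map_zero])
  refine ⟨trl K JB w ψ k, -C, ν⁻¹ • A, ν • T', ν, H.hB.iso_trl hw hψw hk, H.hB.det_trl hw hψw k, ?_, ?_, ?_, hν0,
    ?_⟩
  · show cj K (ν⁻¹ • A) * JA * (ν⁻¹ • A) = JA
    rw [cj_smul, Matrix.smul_mul, Matrix.smul_mul, Matrix.mul_smul, hAJ, smul_smul, smul_smul, map_inv₀, ← hνn]
    rw [show (K.bar ν)⁻¹ * ν⁻¹ * (K.bar ν * ν) = 1 by field_simp, one_smul]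
  · show cj K (ν • T') * JB * (ν • T') = JB
    have e' : cj K T' * (cj K T * JB * T) * T' = JB := by
      rw [← Matrix.mul_assoc, ← Matrix.mul_assoc, ← cj_mul, hTT', cj_one, Matrix.one_mul, Matrix.mul_assoc, hTT',
        Matrix.mul_one]
    rw [hTT, Matrix.mul_smul, Matrix.smul_mul, ← hνn] at e'
    rw [cj_smul, Matrix.smul_mul, Matrix.smul_mul, Matrix.mul_smul, smul_smul]
    exact e'
  · rw [Matrix.smul_mulVec, hT'w]
  · conv_lhs => rw [hg']
    rw [Units.val_mul, Units.val_mul, htv, hr2inv, hnval, Matrix.kronecker_smul, Matrix.smul_kronecker, smul_smul,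
      mul_inv_cancel₀ hν0, one_smul]

end CfsgLib.Classical.TensorWreathU
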