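import Cfsg.Agent.Lib.Classical.TensorWreathU.Descend
import Cfsg.Agent.Lib.Classical.TensorWreath.ThreeBase

set_option autoImplicit false
set_option linter.unusedSectionVars false

/-!
A monomial conjugate of a root comes from a monomial conjugator.
-/

namespace CfsgLib.Classical.TensorWreathU

open Matrix CfsgLib.Classical.TensorWreath
open CfsgLib.Classical.TensorUnitary (cj ph IsHerm Iso adj tau)
open CfsgLib.ClassicalAut (Unitary.Conj)
open scoped MatrixGroups Kronecker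

variable {F : Type*} [Field F] [Finite F] {q : ℕ} {K : Unitary.Conj F q}
variable {τ : Type} [Fintype τ] [DecidableEq τ] {m : ℕ}
variable {J : Matrix (Fin m) (Fin m) F} {M M' : Subgroup (GL (Ix τ m) F)} {g : GL (Ix τ m) F} {i : τ}

variable (K J)

/-- A proper intermediate group, with the statements for fewer factors. -/
structure Ctx (M : Subgroup (GL (Ix τ m) F)) : Prop where
  hyp : Hyp K J M
  notTop : ¬ Top K J M
  low : Low K J τ
  two : 2 ≤ Fintype.card τ

variable {K J}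

theorem uRoot_mk {u : Fin m → F} (hu0 : u ≠ 0) (hu : ph K J u ⬝ᵥ u = 0) {c : F} (hc0 : c ≠ 0)
    (hc : c + K.bar c = 0) (i : τ) : URoot K J i (embM i (c • nu K J u)) :=
  ⟨u, c, hu0, hu, hc0, hc, rfl⟩

theorem URoot.exists_nu {X : Matrix (Ix τ m) (Ix τ m) F} (h : URoot K J i X) :
    ∃ (u : Fin m → F) (c : F), u ≠ 0 ∧ ph K J u ⬝ᵥ u = 0 ∧ c ≠ 0 ∧ c + K.bar c = 0 ∧ X = embM i (c • nu K J u) := h

theorem smul_nu_sq {u : Fin m → F} (hu : ph K J u ⬝ᵥ u = 0) (c d : F) :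
    c • nu K J u * (d • nu K J u) = 0 := by
  rw [smul_mul_smul_comm, nu_sq hu, smul_zero]

theorem smul_nu_ne (hJ : IsHerm K J) {u : Fin m → F} (hu : u ≠ 0) {c : F} (hc : c ≠ 0) : c • nu K J u ≠ 0 :=
  smul_ne_zero hc (nu_ne_zero hJ hu)

theorem smul_nu_ne_scalar [NeZero m] (hJ : IsHerm K J) {u : Fin m → F} (hu0 : u ≠ 0) (hu : ph K J u ⬝ᵥ u = 0)
    {c : F} (hc : c ≠ 0) (x : F) : c • nu K J u ≠ x • 1 :=
  ne_scalar_of_sq_zero (smul_nu_ne hJ hu0 hc) (smul_nu_sq hu c c) x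

theorem bar_eq_self (h2 : (2 : F) = 0) {c : F} (hc : c + K.bar c = 0) : K.bar c = c := by
  linear_combination hc - c * h2

theorem URoot.rank_le (hJ : IsHerm K J) [NeZero m] {X : Matrix (Ix τ m) (Ix τ m) F} (h : URoot K J i X) (j : τ) :
    X.rank ≤ Fintype.card (Ix (Rest j) m) :=
  rootAt_rank (h.rootAt hJ) j

theorem URoot.sq_zero (hJ : IsHerm K J) [NeZero m] {X : Matrix (Ix τ m) (Ix τ m) F} (h : URoot K J i X) :
    X * X = 0 :=
  rootAt_sq (h.rootAt hJ)

theorem URoot.ne_zero (hJ : IsHerm K J) [NeZero m] {X : Matrix (Ix τ m) (Ix τ m) F} (h : URoot K J i X) :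
    X ≠ 0 :=
  rootAt_ne_zero (h.rootAt hJ)

namespace Ctx

theorem exists_root (C : Ctx K J M) {X : Matrix (Ix τ m) (Ix τ m) F} (hX : URoot K J i X) :
    ∃ x ∈ M, x.1 = 1 + X ∧ Mono x.1 := by
  obtain ⟨x, hx, hx'⟩ := C.hyp.inM_uRoot hX
  refine ⟨x, hx, hx', ?_⟩
  obtain ⟨u, c, -, -, -, -, rfl⟩ := hX
  rw [hx', ← embM_one (F := F) (m := m) i, ← embM_add]
  exact mono_pure _

/-- The centraliser of a root is monomial. -/
theorem mono_of_commute_root (C : Ctx K J M) (hg : g ∈ M) {X : Matrix (Ix τ m) (Ix τ m) F} (hX : URoot K J i X)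
    (h : g.1 * X = X * g.1) : Mono g.1 := by
  refine C.hyp.mono_of_root C.hyp C.low C.two C.notTop C.notTop (C.hyp.le g hg).1 (Rel.refl hg) hX (j := i) ?_
  rwa [h, mul_assoc, g.mul_inv, mul_one]

/-- An involution commuting with a root and of at most its rank lives on that factor or off it. -/
theorem split_root (C : Ctx K J M) (h2 : (2 : F) = 0) {z : GL (Ix τ m) F} (hz : z ∈ M) (hzz : z * z = 1)
    {X : Matrix (Ix τ m) (Ix τ m) F} (hX : URoot K J i X) (hc : z.1 * X = X * z.1)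
    (hr : (z.1 - 1).rank ≤ Fintype.card (Ix (Rest i) m)) :
    (∃ P, z.1 = ins i P 1) ∨ ∃ n : Matrix (Fin m) (Fin m) F, n * n = 0 ∧ n.rank ≤ 1 ∧ z.1 = embM i (1 + n) := by
  haveI := C.hyp.neZero
  have hm := C.hyp.three
  obtain ⟨h, σ, hzv⟩ := C.mono_of_commute_root hz hX hc
  have hzd : (pureM h * permM F m σ).det ≠ 0 := by rw [← hzv, (C.hyp.le z hz).2]; exact one_ne_zero
  obtain ⟨u, c, hu0, hu, hc0, -, rfl⟩ := hX
  have hσ : σ i = i := fix_of_commute_embM hzd (smul_nu_ne_scalar C.hyp.hJ hu0 hu hc0) (hzv ▸ hc)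
  have hz1 : pureM h * permM F m σ * (pureM h * permM F m σ) = 1 := by
    rw [← hzv, ← Units.val_mul, hzz, Units.val_one]
  obtain ⟨n, A, hn, hsplit, hA, -⟩ := exists_split_invol hm h2 hz1 hσ
  rw [← hzv, hA.eq_ins, embM_eq_ins, ins_mul, one_mul, mul_one] at hsplit
  obtain ⟨P, hP⟩ : ∃ P, P = restM i A := ⟨_, rfl⟩
  rw [← hP] at hsplit
  by_cases hP1 : P = 1
  · refine Or.inr ⟨n, hn, ?_, by rw [hsplit, hP1, embM_eq_ins]⟩
    rw [hsplit, hP1, ← embM_eq_ins, embM_add, embM_one, add_sub_cancel_left] at hr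
    exact Nat.le_of_mul_le_mul_left (by rw [mul_one]; exact (le_rank_embM i n).trans hr) Fintype.card_pos
  refine Or.inl ⟨P, ?_⟩
  rw [hsplit]
  by_contra hne
  have hn0 : n ≠ 0 := fun h0 => hne (by rw [h0, add_zero])
  have h1 := le_rank_ins_sub_one (i := i) (A := P) (b := 1 + n)
  rw [add_sub_cancel_left, ← hsplit] at h1
  have hs := two_mul_rank_le hn
  rw [Fintype.card_fin] at hs
  have hs0 := rank_pos hn0
  have hp0 : 0 < (P - 1).rank := rank_pos (sub_ne_zero.2 hP1)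
  have hpN := Matrix.rank_le_card_width (P - 1)
  generalize (P - 1).rank = p at *
  generalize n.rank = s at *
  generalize Fintype.card (Ix (Rest i) m) = N at *
  generalize (z.1 - 1).rank = R at *
  obtain ⟨N', rfl⟩ : ∃ N', N = p + N' := ⟨N - p, by omega⟩
  obtain ⟨m', rfl⟩ : ∃ m', m = s + m' := ⟨m - s, by omega⟩
  rw [show p + N' - p = N' by omega, show s + m' - s = m' by omega] at h1
  nlinarith

theorem of_rel_mem {x : GL (Ix τ m) F} (hR : Rel M M' g) (hx : g * x * g⁻¹ ∈ M') : x ∈ M := (hR x).2 hx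

end Ctx

theorem classify_conj (hJ : IsHerm K J) (hm : 3 ≤ m) {X : Matrix (Ix τ m) (Ix τ m) F} (hX : URoot K J i X)
    (g : GL (Ix τ m) F) (hI : Iso K (JJ J τ) (1 + g.1 * X * (g⁻¹).1)) (hk : Mono (1 + g.1 * X * (g⁻¹).1)) :
    (∃ j, URoot K J j (g.1 * X * (g⁻¹).1)) ∨
      ((2 : F) = 0 ∧ m = 3 ∧ ∃ (h : τ → Matrix (Fin m) (Fin m) F) (a b : τ), a ≠ b ∧
        1 + g.1 * X * (g⁻¹).1 = pureM h * permM F m (Equiv.swap a b)) := by
  rcases TensorWreath.classify_conj hm (hX.rootAt hJ) g hk with ⟨j, hj⟩ | h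
  · exact Or.inl ⟨j, uRoot_of_rootAt hJ hm hj hI⟩
  · exact Or.inr h

/-- A conjugator with a monomial image of a root is monomial. -/
theorem mono_of_mono_conj (C : Ctx K J M) (C' : Ctx K J M') (hgi : Iso K (JJ J τ) g.1) (hR : Rel M M' g)
    {X : Matrix (Ix τ m) (Ix τ m) F} (hX : URoot K J i X) (hk : Mono (1 + g.1 * X * (g⁻¹).1)) : Mono g.1 := by
  classical
  haveI := C.hyp.neZero
  haveI : Nonempty (Ix τ m) := ⟨fun _ => 0⟩
  have hJ := C.hyp.hJ
  have hm := C.hyp.three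
  obtain ⟨x, hxM, hxv, -⟩ := C.exists_root hX
  obtain ⟨y, hy⟩ : ∃ y, y = g * x * g⁻¹ := ⟨_, rfl⟩
  have hyM : y ∈ M' := hy ▸ (hR x).1 hxM
  have hyv : y.1 = 1 + g.1 * X * (g⁻¹).1 := hy ▸ conj_val g hxv
  rcases classify_conj hJ hm hX g (hyv ▸ (C'.hyp.le y hyM).1) hk with ⟨j, hj⟩ | ⟨h2, hm3, h, a, b, hab, hkv⟩
  · exact C.hyp.mono_of_root C'.hyp C.low C.two C.notTop C'.notTop hgi hR hX hj
  exfalso
  rw [← hyv] at hkv
  have hx2 : x * x = 1 := TensorWreath.Ctx.invol_sq h2 hxv (hX.sq_zero hJ)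
  have hy2 : y * y = 1 := by rw [hy, show g * x * g⁻¹ * (g * x * g⁻¹) = g * (x * x) * g⁻¹ by group, hx2]; group
  have hq : q ≠ 2 := fun e => by have := C.hyp.hex e; omega
  obtain ⟨r, hr, hr0, hrr⟩ := TensorUnitary.exists_real K hq
  obtain ⟨θ, hθ0, hθ⟩ := TensorUnitary.exists_skew K
  have hθs : θ + K.bar θ = 0 := by rw [hθ, add_neg_cancel]
  obtain ⟨u, hu0, hu, -⟩ := hJ.exists_iso_perp (fun x : Fin 0 => x.elim0) (by simp only [Fintype.card_fin]; omega)
  have hd : (pureM h).det ≠ 0 := fun h0 => by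
    have := (C'.hyp.le y hyM).2
    rw [hkv, Matrix.det_mul, h0, zero_mul] at this
    exact zero_ne_one this
  obtain ⟨v, hv⟩ : ∃ v : F → Matrix (Fin m) (Fin m) F, v = fun c => tau K J u c := ⟨_, rfl⟩
  have vadd : ∀ c d, v c * v d = v (c + d) := fun c d => by
    have nn : Matrix.vecMulVec u (ph K J u) * Matrix.vecMulVec u (ph K J u) = 0 := nu_sq hu
    simp only [hv, tau, mul_add, mul_one, add_mul, one_mul, smul_mul_smul_comm, nn, smul_zero, add_zero, add_smul,
      add_assoc]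
    try abel
  obtain ⟨w, hw⟩ : ∃ w : F → Matrix (Ix τ m) (Ix τ m) F,
      w = fun c => embM b (h b * v c * (h b)⁻¹) * embM a (v c) := ⟨_, rfl⟩
  have wadd : ∀ c d, w c * w d = w (c + d) := fun c d => by
    simp only [hw]
    rw [mul_assoc, ← mul_assoc (embM a (v c)), embM_comm hab, mul_assoc (embM b (h b * v d * (h b)⁻¹)),
      ← mul_assoc, embM_mul, embM_mul, vadd, ← vadd c d]
    congr 2
    simp only [← mul_assoc]
    rw [mul_assoc (h b * v c) (h b)⁻¹ (h b), mul_eq_one_comm.1 (nonsing_inv_of_pureM hd b), mul_one]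
  have wzero : w 0 = 1 := by
    simp only [hw, hv, tau, zero_smul, add_zero, mul_one, nonsing_inv_of_pureM hd, embM_one]
  have step : ∀ c : F, c + K.bar c = 0 → c ≠ 0 →
      ∃ (z : GL (Ix τ m) F) (P : Matrix (Ix (Rest i) m) (Ix (Rest i) m) F),
        z.1 = ins i P 1 ∧ g.1 * z.1 * (g⁻¹).1 = y.1 * w c ∧ y.1 * w c = w c * y.1 := by
    intro c hc hc0
    obtain ⟨A, hAM, hA⟩ := C'.hyp.inM_embM a (hJ.iso_tau hu hc) (TensorUnitary.det_tau K hu c)
    have hAv : A.1 = embM a (v c) := by rw [hA, hv]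
    have hcc : c + c = 0 := by rw [← two_mul, h2, zero_mul]
    have hA2 : A * A = 1 := Units.ext (by
      rw [Units.val_mul, hAv, embM_mul, vadd, hcc, Units.val_one, hv]
      simp only [tau, zero_smul, add_zero, embM_one])
    have hAi : A⁻¹ = A := inv_eq_of_mul_eq_one_right hA2
    obtain ⟨B, hB⟩ : ∃ B, B = y * A * y := ⟨_, rfl⟩
    have hBv : B.1 = embM b (h b * v c * (h b)⁻¹) := by
      rw [hB, Units.val_mul, Units.val_mul, hkv, hAv, mono_mul_embM (g' := fun j => (h j)⁻¹) _ a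
        (nonsing_inv_of_pureM hd _), Equiv.swap_apply_left, mul_assoc, ← hkv, ← Units.val_mul, hy2, Units.val_one,
        mul_one]
    have hBA : B * A = A * B := Units.ext (by
      rw [Units.val_mul, Units.val_mul, hAv, hBv, embM_comm hab.symm])
    obtain ⟨yA, hyA⟩ : ∃ yA, yA = A * y * A := ⟨_, rfl⟩
    have hyyA : y * yA = B * A := by rw [hyA, hB]; simp only [mul_assoc]
    have hyAy : yA * y = y * yA := by rw [hyyA, hBA, hyA, hB]; simp only [mul_assoc]
    have hyAe : yA = y * (B * A) := by rw [← hyyA, ← mul_assoc, hy2, one_mul]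
    have hwv : (B * A).1 = w c := by rw [Units.val_mul, hBv, hAv, hw]
    obtain ⟨z, hz⟩ : ∃ z, z = g⁻¹ * yA * g := ⟨_, rfl⟩
    have hgz : g * z * g⁻¹ = yA := by rw [hz]; group
    have hzM : z ∈ M := Ctx.of_rel_mem hR (hgz ▸ hyA ▸ M'.mul_mem (M'.mul_mem hAM hyM) hAM)
    have hzx : z * x = x * z := by
      calc z * x = g⁻¹ * (yA * y) * g := by rw [hz, hy]; group
        _ = g⁻¹ * (y * yA) * g := by rw [hyAy]
        _ = x * z := by rw [hz, hy]; group
    have hze : z = g⁻¹ * A * g * x * (g⁻¹ * A * g)⁻¹ := by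
      rw [hz, hyA, hy, _root_.mul_inv_rev, _root_.mul_inv_rev, inv_inv, hAi]; group
    have hzz : z * z = 1 := by
      rw [hze, show ∀ e : GL (Ix τ m) F, e * x * e⁻¹ * (e * x * e⁻¹) = e * (x * x) * e⁻¹ from fun e => by group, hx2]
      group
    have hrk : (z.1 - 1).rank ≤ Fintype.card (Ix (Rest i) m) := by
      rw [hze, conj_val _ hxv, add_sub_cancel_left, rank_conj]
      exact hX.rank_le hJ i
    rcases C.split_root h2 hzM hzz hX ((commute_val_iff hxv).1 hzx) hrk with ⟨P, hP⟩ | ⟨n, hn, hn1, hzn⟩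
    · refine ⟨z, P, hP, ?_, ?_⟩
      · rw [← Units.val_mul, ← Units.val_mul, hgz, hyAe, Units.val_mul, hwv]
      · have he : y * (B * A) = B * A * y := by
          rw [← hyyA, mul_assoc y yA y, hyAy]
        rw [← hwv, ← Units.val_mul, ← Units.val_mul, he]
    exfalso
    obtain ⟨u₀, c₀, hu₀0, hu₀, hc₀0, -, rfl⟩ := hX
    have hzxg : g * (x * z) * g⁻¹ = B * A := by rw [← hyyA, hz, hy]; group
    have e1 : (x * z).1 = embM i ((1 + c₀ • nu K J u₀) * (1 + n)) := by
      rw [Units.val_mul, hxv, hzn, ← embM_one (F := F) (m := m) i, ← embM_add, embM_mul, nu]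
    obtain ⟨b', hb'⟩ : ∃ b', b' = (1 + c₀ • nu K J u₀) * (1 + n) := ⟨_, rfl⟩
    have hb2 : b' * b' = 1 := embM_injective i (by
      rw [← embM_mul, hb', ← e1, ← Units.val_mul, mul_assoc, ← mul_assoc z, hzx, mul_assoc x z z, hzz, mul_one, hx2,
        Units.val_one, embM_one])
    have hs : (b' - 1).rank ≤ 1 := by
      have := two_mul_rank_le (A := b' - 1) (by rw [sq_of_char_two h2, hb2, sub_self])
      rw [Fintype.card_fin] at this
      omega
    have hup : ((B * A).1 - 1).rank ≤ Fintype.card (Ix (Rest i) m) := by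
      obtain ⟨p1, p2, hp⟩ := exists_vecMulVec_of_rank_le_one hs
      have e2 : (B * A).1 - 1 = g.1 * ((x * z).1 - 1) * (g⁻¹).1 := by
        rw [mul_sub, mul_one, sub_mul, g.mul_inv, ← Units.val_mul, ← Units.val_mul, hzxg]
      rw [e2, rank_conj, e1, ← hb', ← embM_one (F := F) (m := m) i, ← embM_sub, hp]
      exact rank_embM_vecMulVec_le i p1 p2
    have hB0 : B.1 - 1 ≠ 0 := by
      rw [sub_ne_zero, hBv]
      intro h0
      have h1 := congrArg (fun Y => (h b)⁻¹ * Y * h b) (embM_injective b (h0.trans (embM_one (F := F) (m := m) b).symm))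
      simp only [mul_one, mul_eq_one_comm.1 (nonsing_inv_of_pureM hd b), ← mul_assoc, one_mul] at h1
      rw [mul_assoc, mul_eq_one_comm.1 (nonsing_inv_of_pureM hd b), mul_one, hv] at h1
      simp only [tau, add_eq_left] at h1
      exact smul_nu_ne hJ hu0 hc0 h1
    have hBc : Cen a B.1 := hBv ▸ cen_embM hab _
    have hwins : (B * A).1 = ins a (restM a B.1) (v c) := by
      rw [Units.val_mul, hAv]
      conv_lhs => rw [hBc.eq_ins, embM_eq_ins, ins_mul, mul_one, one_mul]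
    have hlow := le_rank_ins_sub_one (i := a) (A := restM a B.1) (b := v c)
    rw [← hwins] at hlow
    have hvr : (v c - 1).rank = 1 := by
      refine le_antisymm ?_ (rank_pos ?_)
      · rw [hv]; simp only [tau, add_sub_cancel_left, ← Matrix.smul_vecMulVec]
        exact Matrix.rank_vecMulVec_le _ _
      · rw [hv]; simp only [tau, add_sub_cancel_left]; exact smul_nu_ne hJ hu0 hc0
    have hp0 : 0 < (restM a B.1 - 1).rank := rank_pos fun h0 => hB0 (by
      rw [hBc.eq_ins, sub_eq_zero.1 h0, ins_one_one, sub_self])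
    have hpN := Matrix.rank_le_card_width (restM a B.1 - 1)
    rw [hvr, card_rest] at hlow
    rw [card_rest] at hup hpN
    generalize (restM a B.1 - 1).rank = p at *
    generalize m ^ (Fintype.card τ - 1) = N at *
    generalize ((B * A).1 - 1).rank = R at *
    obtain ⟨N', rfl⟩ : ∃ N', N = p + N' := ⟨N - p, by omega⟩
    rw [show p + N' - p = N' by omega, show m - 1 = 2 by omega] at hlow
    omega
  have hrs : θ * r + K.bar (θ * r) = 0 := by rw [map_mul, hr, hθ]; ring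
  have hsum : θ + θ * r + K.bar (θ + θ * r) = 0 := by rw [map_add]; linear_combination hθs + hrs
  have hsum0 : θ + θ * r ≠ 0 := fun e => hrr (by
    have h0 : θ * (1 + r) = 0 := by linear_combination e
    linear_combination r * (mul_eq_zero.1 h0).resolve_left hθ0 - r * h2)
  obtain ⟨z1, P1, p1, e1, c1⟩ := step θ hθs hθ0
  obtain ⟨z2, P2, p2, e2, c2⟩ := step (θ * r) hrs (mul_ne_zero hθ0 hr0)
  obtain ⟨z3, P3, p3, e3, c3⟩ := step _ hsum hsum0
  have hprod : z1.1 * z2.1 * z3.1 = x.1 := by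
    refine conj_inj g ?_
    rw [← mul_inv_cancel_mid, ← mul_inv_cancel_mid, e1, e2, e3, c1]
    calc w θ * y.1 * (y.1 * w (θ * r)) * (y.1 * w (θ + θ * r))
        = w θ * (y.1 * y.1) * (w (θ * r) * y.1) * w (θ + θ * r) := by simp only [mul_assoc]
      _ = w θ * (y.1 * w (θ * r)) * w (θ + θ * r) := by
          rw [← c2, show y.1 * y.1 = 1 by rw [← Units.val_mul, hy2, Units.val_one], mul_one]
      _ = y.1 * (w θ * w (θ * r) * w (θ + θ * r)) := by simp only [mul_assoc]; rw [← mul_assoc, ← c1, mul_assoc]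
      _ = y.1 := by rw [wadd, wadd, show θ + θ * r + (θ + θ * r) = 0 by rw [← two_mul, h2, zero_mul], wzero, mul_one]
      _ = g.1 * x.1 * (g⁻¹).1 := by rw [hy, Units.val_mul, Units.val_mul]
  have hcen : Cen i x.1 := by
    rw [← hprod, p1, p2, p3]
    exact ((cen_ins_one i P1).mul (cen_ins_one i P2)).mul (cen_ins_one i P3)
  obtain ⟨u₀, c₀, hu₀0, hu₀, hc₀0, -, rfl⟩ := hX
  have hall : ∀ a b : Fin m, Commute (e a b : Matrix (Fin m) (Fin m) F) (c₀ • nu K J u₀) := fun a b => by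
    refine embM_injective i (?_ : embM i (e a b * _) = (embM i (_ * e a b) : Matrix (Ix τ m) (Ix τ m) F))
    have := hcen (e a b)
    rw [hxv, mul_add, mul_one, add_mul, one_mul, add_right_inj, embM_mul, embM_mul] at this
    exact this
  obtain ⟨s, hs⟩ := Matrix.mem_range_scalar_iff_commute_single'.2 hall
  exact smul_nu_ne_scalar hJ hu₀0 hu₀ hc₀0 s (by rw [← hs, Matrix.scalar_apply, Matrix.smul_one_eq_diagonal])

namespace Ctx

theorem mono_of_conj_root (C : Ctx K J M) (hg : g ∈ M) {X : Matrix (Ix τ m) (Ix τ m) F} (hX : URoot K J i X)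
    (h : Mono (1 + g.1 * X * (g⁻¹).1)) : Mono g.1 :=
  mono_of_mono_conj C C (C.hyp.le g hg).1 (Rel.refl hg) hX h

/-- A monomial conjugate of a root is a root. -/
theorem uRoot_of_mono_conj (C : Ctx K J M) (hg : g ∈ M) {X : Matrix (Ix τ m) (Ix τ m) F} (hX : URoot K J i X)
    (h : Mono (1 + g.1 * X * (g⁻¹).1)) : ∃ j, URoot K J j (g.1 * X * (g⁻¹).1) := by
  haveI := C.hyp.neZero
  obtain ⟨hs, σ, hgv⟩ := C.mono_of_conj_root hg hX h
  obtain ⟨x, hxM, hxv, -⟩ := C.exists_root hX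
  exact ⟨σ i, uRoot_of_rootAt C.hyp.hJ C.hyp.three ((hX.rootAt C.hyp.hJ).mono_conj hgv)
    (conj_val g hxv ▸ (C.hyp.le _ (M.mul_mem (M.mul_mem hg hxM) (M.inv_mem hg))).1)⟩

end Ctx

end CfsgLib.Classical.TensorWreathU
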