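import Cfsg.Agent.Lib.Classical.TensorWreathU.Pure
import Cfsg.Agent.Lib.Classical.TensorWreathU.Model
import Cfsg.Agent.Lib.Classical.TensorUnitary.Main

set_option autoImplicit false
set_option linter.unusedSectionVars false

/-!
All roots on all factors give all isometries of determinant one; only scalars occur next to a root in a proper
intermediate group.
-/

namespace CfsgLib.Classical.TensorWreathU

open Matrix CfsgLib.Classical.TensorWreath
open CfsgLib.Classical.TensorUnitary (cj ph ph_dot ph_ten_dot IsHerm Iso adj Rk Zm)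
open CfsgLib.Classical.TensorSymp (ten ten_dot ten_add_left ten_smul_left)
open CfsgLib.Classical.TensorMax (kc kr)
open CfsgLib.ClassicalAut (Unitary.Conj)
open scoped MatrixGroups Kronecker

variable {F : Type*} [Field F] [Finite F] {q : ℕ} {K : Unitary.Conj F q}
variable {τ : Type} [Fintype τ] [DecidableEq τ] {m : ℕ}
variable {J : Matrix (Fin m) (Fin m) F} {M : Subgroup (GL (Ix τ m) F)}

/-- A pure tensor. -/
def tn {κ : Type} [Fintype κ] (x : κ → Fin m → F) : Ix κ m → F := fun i => ∏ j, x j (i j)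

theorem ph_tn {κ : Type} [Fintype κ] [DecidableEq κ] (x : κ → Fin m → F) :
    ph K (JJ J κ) (tn x) = tn fun j => ph K J (x j) := by
  funext i
  show ∑ y : Ix κ m, K.bar (∏ j, x j (y j)) * ∏ j, J (y j) (i j) = ∏ j, ∑ k, K.bar (x j k) * J k (i j)
  simp only [map_prod, Fintype.prod_sum, ← Finset.prod_mul_distrib]

theorem tn_dot {κ : Type} [Fintype κ] [DecidableEq κ] (x y : κ → Fin m → F) : tn x ⬝ᵥ tn y = ∏ j, x j ⬝ᵥ y j := by
  simp only [dotProduct, tn, Fintype.prod_sum, ← Finset.prod_mul_distrib]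

theorem pureM_vecMulVec {κ : Type} [Fintype κ] [DecidableEq κ] (a b : κ → Fin m → F) :
    pureM (fun j => Matrix.vecMulVec (a j) (b j)) = Matrix.vecMulVec (tn a) (tn b) := by
  ext x y
  simp only [pureM_apply, Matrix.vecMulVec_apply, tn, Finset.prod_mul_distrib]

theorem pureM_nu {κ : Type} [Fintype κ] [DecidableEq κ] (x : κ → Fin m → F) :
    pureM (fun j => nu K J (x j)) = Matrix.vecMulVec (tn x) (ph K (JJ J κ) (tn x)) := by
  rw [ph_tn, ← pureM_vecMulVec]; rfl

/-- Pure tensors of spanning vectors span. -/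
theorem span_tn {κ : Type} [Fintype κ] [DecidableEq κ] (S : κ → Set (Fin m → F))
    (hS : ∀ j v, v ∈ Submodule.span F (S j)) (v : Ix κ m → F) :
    v ∈ Submodule.span F {z | ∃ y, (∀ j, y j ∈ S j) ∧ z = tn y} := by
  have key : ∀ s : Finset κ, ∀ y : κ → Fin m → F, (∀ j ∉ s, y j ∈ S j) →
      tn y ∈ Submodule.span F {z | ∃ y, (∀ j, y j ∈ S j) ∧ z = tn y} := by
    intro s
    induction s using Finset.induction with
    | empty => exact fun y hy => Submodule.subset_span ⟨y, fun j => hy j (Finset.notMem_empty j), rfl⟩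
    | insert a s ha IH =>
      intro y hy
      have hupd : ∀ (x : Fin m → F) (i : Ix κ m), tn (Function.update y a x) i =
          x (i a) * ∏ j ∈ Finset.univ.erase a, y j (i j) := fun x i => by
        rw [tn, ← Finset.mul_prod_erase _ _ (Finset.mem_univ a), Function.update_self]
        congr 1
        exact Finset.prod_congr rfl fun j hj => by rw [Function.update_of_ne (Finset.ne_of_mem_erase hj)]
      suffices ∀ x ∈ Submodule.span F (S a), tn (Function.update y a x) ∈
          Submodule.span F {z | ∃ y, (∀ j, y j ∈ S j) ∧ z = tn y} by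
        simpa using this (y a) (hS a _)
      intro x hx
      induction hx using Submodule.span_induction with
      | mem x hx =>
        refine IH _ fun j hj => ?_
        by_cases hja : j = a
        · subst hja; rwa [Function.update_self]
        · rw [Function.update_of_ne hja]; exact hy j (by simp [hja, hj])
      | zero =>
        rw [show tn (Function.update y a 0) = 0 from funext fun i => by rw [hupd, Pi.zero_apply, zero_mul]; rfl]
        exact zero_mem _
      | add x x' _ _ h h' =>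
        rw [show tn (Function.update y a (x + x')) = tn (Function.update y a x) + tn (Function.update y a x') from
          funext fun i => by rw [Pi.add_apply, hupd, hupd, hupd, Pi.add_apply, add_mul]]
        exact add_mem h h'
      | smul c x _ h =>
        rw [show tn (Function.update y a (c • x)) = c • tn (Function.update y a x) from
          funext fun i => by rw [Pi.smul_apply, hupd, hupd, Pi.smul_apply, smul_eq_mul, smul_eq_mul, mul_assoc]]
        exact Submodule.smul_mem _ _ h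
  rw [pi_eq_sum_univ' v]
  refine Submodule.sum_mem _ fun i _ => Submodule.smul_mem _ _ ?_
  have e : (Pi.single i 1 : Ix κ m → F) = tn fun j => Pi.single (i j) 1 := funext fun x => by
    rw [tn, Pi.single_apply]
    by_cases h : x = i
    · subst h; simp
    · obtain ⟨j, hj⟩ := Function.ne_iff.1 h
      rw [if_neg h, Finset.prod_eq_zero (Finset.mem_univ j) (by simp [Pi.single_apply, hj])]
  rw [e]
  exact key Finset.univ _ fun j hj => absurd (Finset.mem_univ j) hj

theorem span_iso_off (hJ : IsHerm K J) {x : Fin m → F} (hx0 : x ≠ 0) (hx : ph K J x ⬝ᵥ x = 0) (v : Fin m → F) :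
    v ∈ Submodule.span F {y | y ≠ 0 ∧ ph K J y ⬝ᵥ y = 0 ∧ ph K J x ⬝ᵥ y ≠ 0} := by
  obtain ⟨z, xz, zx, zz⟩ := hJ.exists_dual hx hx0
  obtain ⟨θ, hθ0, hθ⟩ := TensorUnitary.exists_skew K
  have good : ∀ y, ph K J y ⬝ᵥ y = 0 → ph K J x ⬝ᵥ y ≠ 0 →
      y ∈ Submodule.span F {y | y ≠ 0 ∧ ph K J y ⬝ᵥ y = 0 ∧ ph K J x ⬝ᵥ y ≠ 0} := fun y h1 h2 =>
    Submodule.subset_span ⟨fun e => h2 (by rw [e, dotProduct_zero]), h1, h2⟩
  refine Submodule.span_le.2 ?_ (hJ.span_off_iso hx zz xz v)
  rintro a (rfl | ⟨h1, h2⟩)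
  swap
  · exact good a h1 h2
  have m1 := good z zz (by rw [xz]; exact one_ne_zero)
  have m2 := good (z + θ • a) (by
    simp only [TensorUnitary.ph_add, TensorUnitary.ph_smul, add_dotProduct, smul_dotProduct, dotProduct_add,
      dotProduct_smul, smul_eq_mul, zz, xz, zx, hx, hθ]
    ring) (by rw [dotProduct_add, dotProduct_smul, xz, hx, smul_zero, add_zero]; exact one_ne_zero)
  have : a = θ⁻¹ • (z + θ • a - z) := by rw [add_sub_cancel_left, smul_smul, inv_mul_cancel₀ hθ0, one_smul]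
  have h' := Submodule.smul_mem _ θ⁻¹ (Submodule.sub_mem _ m2 m1)
  rwa [← this] at h'

theorem ins_zero_left (a : τ) (N : Matrix (Fin m) (Fin m) F) :
    ins a (0 : Matrix (Ix (Rest a) m) (Ix (Rest a) m) F) N = 0 := by ext x y; simp [ins_apply]

theorem ins_zero_right (a : τ) (A : Matrix (Ix (Rest a) m) (Ix (Rest a) m) F) :
    ins a A (0 : Matrix (Fin m) (Fin m) F) = 0 := by ext x y; simp [ins_apply]

namespace Hyp

/-- All matrices next to a root. -/
theorem inM_rank_one (H : Hyp K J M) (ht : 2 ≤ Fintype.card τ) (hfull : Full K J M Finset.univ) (a : τ)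
    {w : Fin m → F} (hw0 : w ≠ 0) (hw : ph K J w ⬝ᵥ w = 0) (X : Ix (Rest a) m → F) {c : F} (hc : c + K.bar c = 0) :
    InM M (1 + ins a (c • Matrix.vecMulVec X (ph K (JJ J (Rest a)) X)) (nu K J w)) := by
  haveI := H.neZero
  have hJ := H.hJ
  haveI : Nonempty (Rest a) := Fintype.card_pos_iff.1 (by
    rw [Fintype.card_subtype_compl, Fintype.card_subtype_eq]; omega)
  obtain ⟨W, hW⟩ : ∃ W, W = JJ J (Rest a) := ⟨_, rfl⟩
  have hWh : IsHerm K W := hW ▸ herm_JJ hJ _
  obtain ⟨z, wz, zw, zz⟩ := hJ.exists_dual hw hw0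
  obtain ⟨e, we, ze, ee⟩ := hJ.exists_aniso (by rw [Fintype.card_fin]; exact H.three) hw zz wz
  obtain ⟨θ, hθ0, hθ⟩ := TensorUnitary.exists_skew K
  have hθs : θ + K.bar θ = 0 := by rw [hθ, add_neg_cancel]
  let T : (Rest a → Fin m → F) → Prop := fun x => ∀ j, x j ≠ 0 ∧ ph K J (x j) ⬝ᵥ x j = 0
  have tn_iso : ∀ x, T x → ph K W (tn x) ⬝ᵥ tn x = 0 := fun x hx => by
    rw [hW, ph_tn, tn_dot]
    exact Finset.prod_eq_zero (Finset.mem_univ (Classical.arbitrary _)) (hx _).2
  let R : (Ix (Rest a) m → F) → Matrix (Ix (Rest a) m) (Ix (Rest a) m) F := fun V =>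
    Matrix.vecMulVec V (ph K W V)
  have hR2 : ∀ x, T x → R (tn x) * R (tn x) = 0 := fun x hx => by
    show Matrix.vecMulVec _ _ * Matrix.vecMulVec _ _ = 0
    rw [Matrix.vecMulVec_mul_vecMulVec, tn_iso x hx, zero_smul, Matrix.vecMulVec_zero]
  -- the skew matrices next to a product of roots
  have hG : ∀ x, T x → ∀ p, ph K J w ⬝ᵥ p = 0 → ph K J z ⬝ᵥ p = 0 → InM M (1 + ins a (R (tn x)) (gm K J p w)) := by
    intro x hx p₀ wp₀ zp₀
    let D : Matrix (Fin m) (Fin m) F → Prop := fun B => InM M (1 + ins a (R (tn x)) B)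
    have hsq : ∀ B B', ins a (R (tn x)) B * ins a (R (tn x)) B' = 0 := fun B B' => by
      rw [ins_mul, hR2 x hx, ins_zero_left]
    have hsub : ∀ B B', D B → D B' → D (B - B') := fun B B' hB hB' => by
      show InM M _
      have h1 := InM.neg hB' (hsq _ _)
      rw [sub_eq_add_neg] at h1
      rw [ins_sub_right, sub_eq_add_neg]
      exact InM.add hB h1 (by rw [mul_neg, hsq, neg_zero])
    have hy : ∀ y, y ≠ 0 → ph K J y ⬝ᵥ y = 0 → D (θ • nu K J y) := fun y hy0 hy => by
      obtain ⟨u, hu⟩ : ∃ u : τ → Fin m → F, u = fun j => if h : j = a then y else x ⟨j, h⟩ := ⟨_, rfl⟩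
      have h1 := hfull u (fun j _ => by
        rw [hu]; dsimp only; split_ifs with h
        · exact ⟨hy0, hy⟩
        · exact hx ⟨j, h⟩) θ hθs
      show InM M _
      convert h1 using 2
      show ins a (Matrix.vecMulVec (tn x) (ph K W (tn x))) _ = _
      rw [ins_smul_right, hW, ← pureM_nu, ins_pureM, nT]
      congr 2
      funext j
      by_cases hj : j = a
      · subst hj; simp [pick, hu]
      · simp [pick, hu, hj, extend]
    obtain ⟨b, hb⟩ := K.exists_moved
    have hb0 : b ≠ 0 := fun e0 => hb (by rw [e0, map_zero])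
    obtain ⟨ζ, hζ⟩ : ∃ ζ, ζ = K.bar b / b := ⟨_, rfl⟩
    have hζ1 : ζ ≠ 1 := fun e0 => hb (by rw [hζ, div_eq_one_iff_eq hb0] at e0; exact e0)
    have hζn : K.bar ζ * ζ = 1 := by
      rw [hζ, map_div₀, K.bar_bar, div_mul_div_comm, mul_comm, div_self]
      exact mul_ne_zero (fun e0 => hb0 (by rw [← K.bar_bar b, e0, map_zero])) hb0
    obtain ⟨r, hr⟩ : ∃ r, r = -(θ * θ * (ζ - 1)) := ⟨_, rfl⟩
    have hr0 : r ≠ 0 := by rw [hr]; exact neg_ne_zero.2 (mul_ne_zero (mul_ne_zero hθ0 hθ0) (sub_ne_zero.2 hζ1))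
    obtain ⟨p, hp⟩ : ∃ p, p = r⁻¹ • p₀ := ⟨_, rfl⟩
    have wp : ph K J w ⬝ᵥ p = 0 := by rw [hp, dotProduct_smul, wp₀, smul_zero]
    have zp : ph K J z ⬝ᵥ p = 0 := by rw [hp, dotProduct_smul, zp₀, smul_zero]
    obtain ⟨k, hk⟩ := hJ.exists_k p
    have mem : ∀ ξ l, K.bar ξ * ξ = 1 → l + K.bar l = k + K.bar k → D (θ • nu K J (z + ξ • p + l • w)) := by
      intro ξ l hξ hl
      refine hy _ (fun e0 => ?_) ?_
      · have := congrArg (ph K J w ⬝ᵥ ·) e0
        simp [dotProduct_add, dotProduct_smul, wz, wp, hw] at this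
      · simp only [TensorUnitary.ph_add, TensorUnitary.ph_smul, add_dotProduct, smul_dotProduct, dotProduct_add,
          dotProduct_smul, smul_eq_mul, zz, zw, wz, hw, wp, zp, hJ.orth_comm wp, hJ.orth_comm zp]
        linear_combination hl + hk + (ph K J p ⬝ᵥ p) * hξ
    have h4 := hsub _ _ (hsub _ _ (mem ζ (k + θ) hζn (by rw [map_add]; linear_combination hθs))
      (mem 1 (k + θ) (by simp) (by rw [map_add]; linear_combination hθs))) (hsub _ _ (mem ζ k hζn rfl)
      (mem 1 k (by simp) rfl))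
    have e0 : gm K J p₀ w = gm K J (r • p) w := by rw [hp, smul_smul, mul_inv_cancel₀ hr0, one_smul]
    rw [e0]
    convert h4 using 3
    simp only [gm, nu, hr, TensorUnitary.ph_add, TensorUnitary.ph_smul, Matrix.add_vecMulVec, Matrix.vecMulVec_add,
      Matrix.smul_vecMulVec, Matrix.vecMulVec_smul, map_neg, map_mul, map_sub, map_add, map_one, hθ, smul_add]
    module
  -- the additive group of matrices next to the root
  let L : Matrix (Ix (Rest a) m) (Ix (Rest a) m) F → Prop := fun C => InM M (1 + ins a C (nu K J w))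
  have Lsq : ∀ C C', ins a C (nu K J w) * ins a C' (nu K J w) = 0 := fun C C' => by
    rw [ins_mul, nu_sq hw, ins_zero_right]
  have Ladd : ∀ C C', L C → L C' → L (C + C') := fun C C' h h' => by
    show InM M _
    rw [ins_add_left]; exact InM.add h h' (Lsq _ _)
  have L0 : L 0 := by show InM M _; rw [ins_zero_left, add_zero]; exact inM_one
  have hcr : ∀ x y, T x → T y → (∀ j, ph K J (x j) ⬝ᵥ y j ≠ 0) → ∀ d : F,
      L (d • Matrix.vecMulVec (tn y) (ph K W (tn x)) - K.bar d • Matrix.vecMulVec (tn x) (ph K W (tn y))) := by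
    intro x y hx hy hxy d
    obtain ⟨lam, hlam⟩ : ∃ lam, lam = ph K W (tn x) ⬝ᵥ tn y := ⟨_, rfl⟩
    have hlam0 : lam ≠ 0 := by
      rw [hlam, hW, ph_tn, tn_dot]; exact Finset.prod_ne_zero_iff.2 fun j _ => hxy j
    have hlam' : K.bar lam ≠ 0 := fun e0 => hlam0 (by rw [← K.bar_bar lam, e0, map_zero])
    obtain ⟨γ, hγ⟩ : ∃ γ, γ = K.bar (d / K.bar lam) := ⟨_, rfl⟩
    obtain ⟨p', hp'⟩ : ∃ p', p' = (γ / (ph K J e ⬝ᵥ e)) • e := ⟨_, rfl⟩
    have wp' : ph K J w ⬝ᵥ p' = 0 := by rw [hp', dotProduct_smul, we, smul_zero]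
    have hee : ph K J e ⬝ᵥ p' = γ := by rw [hp', dotProduct_smul, smul_eq_mul, div_mul_cancel₀ _ ee]
    have h1 := hG x hx e we ze
    have h2 := hG y hy p' wp' (by rw [hp', dotProduct_smul, ze, smul_zero])
    have ng : ∀ p, ph K J w ⬝ᵥ p = 0 → ∀ (s : F) (A A' : Matrix (Ix (Rest a) m) (Ix (Rest a) m) F),
        ins a A (-(s • nu K J w)) * ins a A' (gm K J p w) = 0 := fun p hp s A A' => by
      rw [ins_mul, neg_mul, smul_mul_assoc, nu_mul_gm hw hp, smul_zero, neg_zero, ins_zero_right]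
    have := InM.comm4 h1 h2 (by rw [ins_mul, hR2 x hx, ins_zero_left]) (by rw [ins_mul, hR2 y hy, ins_zero_left])
      (by rw [ins_mul, gm_mul hJ hw we wp']; exact ng e we _ _ _)
      (by rw [ins_mul, gm_mul hJ hw wp' we]; exact ng p' wp' _ _ _)
    show InM M _
    convert this using 2
    have exy : R (tn x) * R (tn y) = lam • Matrix.vecMulVec (tn x) (ph K W (tn y)) := by
      show Matrix.vecMulVec _ _ * Matrix.vecMulVec _ _ = _
      rw [Matrix.vecMulVec_mul_vecMulVec, ← hlam, Matrix.vecMulVec_smul]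
    have eyx : R (tn y) * R (tn x) = K.bar lam • Matrix.vecMulVec (tn y) (ph K W (tn x)) := by
      show Matrix.vecMulVec _ _ * Matrix.vecMulVec _ _ = _
      rw [Matrix.vecMulVec_mul_vecMulVec, hlam, ← hWh.swap, Matrix.vecMulVec_smul]
    rw [ins_mul, ins_mul, gm_mul hJ hw we wp', gm_mul hJ hw wp' we, hJ.swap e p', hee, exy, eyx,
      ← neg_smul, ← neg_smul, ins_smul_right, ins_smul_right,
      ins_smul_left, ins_smul_left, ins_sub_left, ins_smul_left, ins_smul_left, hγ, map_div₀, K.bar_bar]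
    match_scalars <;> (try simp only [map_div₀, K.bar_bar]) <;> field_simp
  let Cr : (Ix (Rest a) m → F) → (Ix (Rest a) m → F) → Prop := fun x y => ∀ d : F,
    L (d • Matrix.vecMulVec y (ph K W x) - K.bar d • Matrix.vecMulVec x (ph K W y))
  have cr_left : ∀ (S : Set (Ix (Rest a) m → F)) y, (∀ x ∈ S, Cr x y) → ∀ x ∈ Submodule.span F S, Cr x y := by
    intro S y h x hx
    induction hx using Submodule.span_induction with
    | mem x hx => exact h x hx
    | zero => intro d; simpa [TensorUnitary.ph_zero] using L0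
    | add x x' _ _ h h' =>
      intro d
      convert Ladd _ _ (h d) (h' d) using 1
      rw [TensorUnitary.ph_add, Matrix.vecMulVec_add, Matrix.add_vecMulVec]
      module
    | smul c x _ h =>
      intro d
      convert h (K.bar c * d) using 1
      rw [TensorUnitary.ph_smul, Matrix.vecMulVec_smul, Matrix.smul_vecMulVec, map_mul, K.bar_bar, smul_smul,
        smul_smul, mul_comm d, mul_comm (K.bar d)]
  have cr_symm : ∀ x y, Cr x y → Cr y x := fun x y h d => by
    convert h (-K.bar d) using 1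
    rw [map_neg, K.bar_bar]
    module
  have cr1 : ∀ x, T x → ∀ y, Cr (tn x) y := fun x hx y => by
    refine cr_symm _ _ (cr_left _ _ ?_ y (span_tn (fun j => {v | v ≠ 0 ∧ ph K J v ⬝ᵥ v = 0 ∧ ph K J (x j) ⬝ᵥ v ≠ 0})
      (fun j v => span_iso_off hJ (hx j).1 (hx j).2 v) y))
    rintro _ ⟨y, hy, rfl⟩
    exact cr_symm _ _ fun d =>
      hcr x y hx (fun j => ⟨(hy j).1, (hy j).2.1⟩) (fun j => (hy j).2.2) d
  have cr2 : ∀ x y, Cr x y := fun x y => by
    refine cr_left _ _ ?_ x (span_tn (fun _ => {v | v ≠ 0 ∧ ph K J v ⬝ᵥ v = 0})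
      (fun j v => Submodule.span_mono (show {u | u ≠ 0 ∧ ph K J u ⬝ᵥ u = 0 ∧ ph K J w ⬝ᵥ u ≠ 0} ⊆ {u | u ≠ 0 ∧ ph K J u ⬝ᵥ u = 0} from
        fun u hu => ⟨hu.1, hu.2.1⟩) (span_iso_off hJ hw0 hw v)) x)
    rintro _ ⟨x, hx, rfl⟩
    exact cr1 x hx y
  obtain ⟨s, hs⟩ := K.exists_trace
  have h := cr2 X X (c * s / (s + K.bar s))
  rw [← sub_smul, hW] at h
  convert h using 4
  rw [map_div₀, map_mul, map_add, K.bar_bar, eq_neg_of_add_eq_zero_right hc, add_comm (K.bar s) s, div_sub_div_same,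
    eq_div_iff hs]
  ring

theorem ph_comp_spl (a : τ) (V : Ix (Rest a) m × Fin m → F) :
    ph K (JJ J τ) (V ∘ spl a) = ph K (JJ J (Rest a) ⊗ₖ J) V ∘ spl a := by
  funext x
  simp only [ph, Matrix.vecMul, dotProduct, Function.comp_apply]
  rw [← Equiv.sum_comp (spl a).symm, JJ_eq a]
  refine Finset.sum_congr rfl fun y _ => ?_
  simp [back]

/-- The transvections with centre a product with an isotropic vector. -/
theorem cent_ten (H : Hyp K J M) (ht : 2 ≤ Fintype.card τ) (hfull : Full K J M Finset.univ) (a : τ)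
    (X : Ix (Rest a) m → F) {w : Fin m → F} (hw : ph K J w ⬝ᵥ w = 0) : Cent K (JJ J τ) M (ten X w ∘ spl a) := by
  refine ⟨?_, fun c hc => ?_⟩
  · rw [ph_comp_spl, comp_equiv_dotProduct_comp_equiv, ph_ten_dot, hw, mul_zero]
  by_cases hw0 : w = 0
  · subst hw0
    refine ⟨1, M.one_mem, ?_⟩
    rw [show ten X (0 : Fin m → F) ∘ spl a = 0 from funext fun p => by simp [ten], Matrix.zero_vecMulVec, smul_zero,
      add_zero, Units.val_one]
  obtain ⟨g, hg, hg'⟩ := H.inM_rank_one ht hfull a hw0 hw X hc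
  refine ⟨g, hg, hg'.trans ?_⟩
  congr 1
  rw [ins_smul_left, ph_comp_spl, TensorUnitary.ph_kron_ten]
  congr 1
  ext x y
  simp only [ins_apply, nu, Matrix.vecMulVec_apply, Function.comp_apply, ten, spl_apply]
  ring

theorem tn_split (a : τ) (x : τ → Fin m → F) : tn x = ten (tn fun j : Rest a => x j.1) (x a) ∘ spl a := by
  funext i
  simp only [tn, Function.comp_apply, ten, spl_apply]
  rw [← Finset.mul_prod_erase _ _ (Finset.mem_univ a), mul_comm]
  congr 1
  exact Finset.prod_subtype _ (by simp) _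

/-- All roots on all factors give everything. -/
theorem top_of_full (H : Hyp K J M) (ht : 2 ≤ Fintype.card τ) (hfull : Full K J M Finset.univ) : Top K J M := by
  haveI := H.neZero
  have hJ := H.hJ
  obtain ⟨a, a', haa⟩ := Fintype.exists_pair_of_one_lt_card (show 1 < Fintype.card τ by omega)
  haveI : Nonempty (Rest a) := ⟨⟨a', haa.symm⟩⟩
  obtain ⟨u, hu0, hu, -⟩ := hJ.exists_iso_perp (fun i : Fin 0 => i.elim0)
    (by simp only [Fintype.card_fin]; have := H.three; omega)
  obtain ⟨v, huv, -, hv⟩ := hJ.exists_dual hu hu0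
  obtain ⟨j⟩ : Nonempty (Rest a) := inferInstance
  intro g hg hd
  refine mem_of_centres (herm_JJ hJ τ) (herm_JJ hJ (Rest a)) hJ (spl a) (JJ_eq a)
    (by rw [Fintype.card_fin]; have := H.three; omega) ?_ (u := tn fun _ : Rest a => u) (v := tn fun _ : Rest a => v)
    ?_ ?_ ?_ (fun X b hb => H.cent_ten ht hfull a X hb) (fun b => ?_) hg hd
  · rw [Fintype.card_fun, Fintype.card_fin]
    calc 4 ≤ 3 ^ 2 := by norm_num
      _ ≤ m ^ 2 := Nat.pow_le_pow_left H.three 2
      _ ≤ m ^ Fintype.card τ := Nat.pow_le_pow_right (by have := H.three; omega) ht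
  · rw [ph_tn, tn_dot]; exact Finset.prod_eq_zero (Finset.mem_univ j) hu
  · rw [ph_tn, tn_dot]; exact Finset.prod_eq_zero (Finset.mem_univ j) hv
  · rw [ph_tn, tn_dot]; exact Finset.prod_eq_one fun _ _ => huv
  · obtain ⟨x, hx⟩ : ∃ x : τ → Fin m → F, x = Function.update (fun _ => v) a b := ⟨_, rfl⟩
    have e : ten (tn fun _ : Rest a => v) b ∘ spl a = tn x := by
      rw [tn_split a x, hx, Function.update_self,
        show (fun j : Rest a => Function.update (fun _ => v) a b j.1) = fun _ => v from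
          funext fun j => Function.update_of_ne j.2 _ _]
    have hxa : x a' = v := by rw [hx, Function.update_of_ne haa.symm]
    rw [e, tn_split a' x, hxa]
    exact H.cent_ten ht hfull a' _ hv

/-- In a proper intermediate group only scalars occur next to a root. -/
theorem eq_smul_one (H : Hyp K J M) (hlow : ∀ l : τ, 2 ≤ Fintype.card (Rest l) → AllMono K J (Rest l))
    (ht : 2 ≤ Fintype.card τ) (hTop : ¬ Top K J M) {i : τ} {u : Fin m → F} (hu0 : u ≠ 0)
    (hu : ph K J u ⬝ᵥ u = 0) {Y : Matrix (Ix τ m) (Ix τ m) F} (hY : Cen i Y)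
    (h : InM M (1 + embM i (nu K J u) * Y)) : ∃ c : F, Y = c • 1 := by
  haveI := H.neZero
  by_contra hns
  obtain ⟨j, hj⟩ : ∃ j, ¬ Cen j Y := by
    by_contra hall
    push Not at hall
    exact hns (exists_eq_smul_one_of_cen hall)
  have hji : j ∉ ({i} : Finset τ) := fun hm' => hj (Finset.mem_singleton.1 hm' ▸ hY)
  rw [← nT_singleton (K := K) (J := J) i u] at h
  obtain ⟨u', Y', a1, a2, a3, a4⟩ := H.grow_step (Finset.singleton_nonempty i) (u := fun _ => u)
    (fun l _ => ⟨hu0, hu⟩) (fun l hl => by rw [Finset.mem_singleton.1 hl]; exact hY) h hji hj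
  obtain ⟨T, v, c, b1, b2, b3, b4⟩ := H.exists_nT _ rfl
    (by rw [Finset.card_insert_of_notMem hji, Finset.card_singleton]) a1 a2 a3 a4
  exact hTop (H.top_of_full ht (H.full_univ hlow b1 b2 b3 b4))

/-- The same in the view at a factor. -/
theorem small (H : Hyp K J M) (hlow : ∀ l : τ, 2 ≤ Fintype.card (Rest l) → AllMono K J (Rest l))
    (ht : 2 ≤ Fintype.card τ) (hTop : ¬ Top K J M) (i : τ) :
    TensorUnitary.Small K J (M.map (two i).toMonoidHom) := by
  haveI := H.neZero
  rintro w hw hw0 C ⟨x, ⟨g, hg, rfl⟩, hx⟩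
  have e : g.1 = 1 + embM i (nu K J w) * ins i C 1 := by
    rw [← back_two i g, show (two i g).1 = _ from hx, back_add, back_one, Zm, TensorMax.kc_mul_mul_kr, back_kron,
      embM_eq_ins, ins_mul, one_mul, mul_one]
    rfl
  obtain ⟨c, hc⟩ := H.eq_smul_one hlow ht hTop hw0 hw (cen_ins_one i C) ⟨g, hg, e⟩
  refine ⟨c, ins_one_injective i ?_⟩
  show ins i C 1 = ins i (c • 1) 1
  rw [hc, ins_smul_left, ins_one_one]

/-- A group with all of the other factors at one of them is everything. -/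
theorem top_of_down [NeZero m] (H : Hyp K J M) {l : τ} (h2 : 2 ≤ Fintype.card (Rest l))
    (h : Top K J (TensorWreath.down l M)) : Top K J M := by
  have hc : Fintype.card (Rest l) = Fintype.card τ - 1 := by
    rw [Fintype.card_subtype_compl, Fintype.card_subtype_eq]
  exact H.top_of_full (by omega) (H.full_univ_of_down (by omega) h)

end Hyp

end CfsgLib.Classical.TensorWreathU
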