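import Cfsg.Agent.Lib.Classical.TensorWreathU.Pair
import Cfsg.Agent.Lib.Classical.TensorWreathU.Odd
import Cfsg.Agent.Lib.Classical.TensorWreathU.Alg

set_option autoImplicit false
set_option linter.unusedSectionVars false

/-!
Characteristic two: the centraliser of a product of two roots is monomial.
-/

namespace CfsgLib.Classical.TensorWreathU

open Matrix CfsgLib.Classical.TensorWreath
open CfsgLib.Classical.TensorUnitary (cj ph IsHerm Iso adj tau Rk)
open CfsgLib.Classical.TensorMax (kc kr)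
open CfsgLib.ClassicalAut (Unitary.Conj)
open scoped MatrixGroups Kronecker

variable {F : Type*} [Field F] [Finite F] {q : ℕ} {K : Unitary.Conj F q}
variable {τ : Type} [Fintype τ] [DecidableEq τ] {m : ℕ}
variable {J : Matrix (Fin m) (Fin m) F} {M : Subgroup (GL (Ix τ m) F)}

theorem skew_of_real (h2 : (2 : F) = 0) {c : F} (hc : K.bar c = c) : c + K.bar c = 0 := by
  rw [hc]; linear_combination c * h2

theorem nu_ne (hJ : IsHerm K J) {u u' : Fin m → F} (hu0 : u ≠ 0) (hu : ∀ a : F, u' ≠ a • u) {c c' : F}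
    (hc : c' ≠ 0) : c • nu K J u ≠ c' • nu K J u' := fun e => by
  obtain ⟨y, hy⟩ := hJ.exists_one (fun h0 : u' = 0 => hu 0 (by rw [h0, zero_smul]))
  have := congrArg (· *ᵥ y) e
  simp only [Matrix.smul_mulVec, nu, Matrix.vecMulVec_mulVec, op_smul_eq_smul, hy, smul_smul, mul_one] at this
  refine hu (c'⁻¹ * (c * ph K J u ⬝ᵥ y)) ?_
  rw [mul_smul, this, smul_smul, inv_mul_cancel₀ hc, one_smul]

theorem eq_of_val_scalar [NeZero m] (h2 : (2 : F) = 0) {r r' : GL (Ix τ m) F} (hr : r * r = 1) (hr' : r' * r' = 1)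
    {β : F} (h : (r * r').1 = β • (1 : Matrix (Ix τ m) (Ix τ m) F)) : r = r' := by
  haveI : Nonempty (Ix τ m) := ⟨fun _ => 0⟩
  have e1 : r.1 = β • r'.1 := by
    have := congrArg (· * r'.1) h
    rwa [Units.val_mul, mul_assoc, ← Units.val_mul r', hr', Units.val_one, mul_one, smul_mul_assoc, one_mul] at this
  have e2 : (1 : Matrix (Ix τ m) (Ix τ m) F) = (β * β) • 1 := by
    calc (1 : Matrix (Ix τ m) (Ix τ m) F) = r.1 * r.1 := by rw [← Units.val_mul, hr, Units.val_one]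
      _ = _ := by rw [e1, smul_mul_smul_comm, ← Units.val_mul, hr', Units.val_one]
  have e3 : β = 1 := by
    have h1 := congrFun₂ e2 (fun _ => 0) (fun _ => 0)
    rw [Matrix.smul_apply, Matrix.one_apply_eq, smul_eq_mul, mul_one] at h1
    exact sub_eq_zero.1 (mul_self_eq_zero.1 (show (β - 1) * (β - 1) = 0 by linear_combination (1 - β) * h2 - h1))
  exact Units.ext (by rw [e1, e3, one_smul])

/-- Two roots generate an element satisfying a cubic. -/
theorem pair_trace [NeZero m] (hJ : IsHerm K J) {o p : τ} {P Q : Matrix (Ix τ m) (Ix τ m) F} (hP : URoot K J o P)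
    (hQ : URoot K J p Q) : ∃ t : F, P * Q * P = t • P ∧ Q * P * Q = t • Q := by
  have hPP := hP.sq_zero hJ
  have hQQ := hQ.sq_zero hJ
  obtain ⟨a, c, -, -, -, -, rfl⟩ := hP.exists_nu
  obtain ⟨b, d, -, -, -, -, rfl⟩ := hQ.exists_nu
  by_cases hop : o = p
  · subst hop
    refine ⟨c * d * ((ph K J a ⬝ᵥ b) * (ph K J b ⬝ᵥ a)), ?_, ?_⟩
    · simp only [embM_mul, ← embM_smul, smul_mul_assoc, mul_smul_comm, nu, Matrix.vecMulVec_mul_vecMulVec,
        Matrix.vecMulVec_smul, smul_dotProduct, smul_smul, smul_eq_mul]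
      congr 2
      ring
    · simp only [embM_mul, ← embM_smul, smul_mul_assoc, mul_smul_comm, nu, Matrix.vecMulVec_mul_vecMulVec,
        Matrix.vecMulVec_smul, smul_dotProduct, smul_smul, smul_eq_mul]
      congr 2
      ring
  · refine ⟨0, ?_, ?_⟩
    · rw [mul_assoc, embM_comm (Ne.symm hop), ← mul_assoc, hPP, zero_mul, zero_smul]
    · rw [mul_assoc, embM_comm hop, ← mul_assoc, hQQ, zero_mul, zero_smul]

/-- In three dimensions two orthogonal isotropic vectors are parallel. -/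
theorem parallel_three (hJ : IsHerm K J) (hm : m = 3) {w s : Fin m → F} (hw0 : w ≠ 0) (hw : ph K J w ⬝ᵥ w = 0)
    (hs : ph K J s ⬝ᵥ s = 0) (hws : ph K J w ⬝ᵥ s = 0) : ∃ a : F, s = a • w := by
  obtain ⟨z, wz, zw, zz⟩ := hJ.exists_dual hw hw0
  refine ⟨ph K J z ⬝ᵥ s, ?_⟩
  obtain ⟨s', hs'⟩ : ∃ s', s' = s - (ph K J z ⬝ᵥ s) • w := ⟨_, rfl⟩
  rw [← sub_eq_zero, ← hs']
  have ws' : ph K J w ⬝ᵥ s' = 0 := by rw [hs', dotProduct_sub, dotProduct_smul, hws, hw, smul_zero, sub_zero]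
  have zs' : ph K J z ⬝ᵥ s' = 0 := by
    rw [hs', dotProduct_sub, dotProduct_smul, zw, smul_eq_mul, mul_one, sub_self]
  have ss' : ph K J s' ⬝ᵥ s' = 0 := by
    rw [hs']
    simp only [TensorUnitary.ph_sub, TensorUnitary.ph_smul, sub_dotProduct, dotProduct_sub, smul_dotProduct,
      dotProduct_smul, hs, hw, hws, hJ.orth_comm hws, smul_eq_mul, mul_zero, sub_zero]
  by_contra hne
  have hli : LinearIndependent F ![w, z, s'] := by
    rw [Fintype.linearIndependent_iff]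
    intro g hg
    simp only [Fin.sum_univ_three, Matrix.cons_val_zero, Matrix.cons_val_one, Matrix.cons_val] at hg
    have h1 := congrArg (ph K J z ⬝ᵥ ·) hg
    have h2 := congrArg (ph K J w ⬝ᵥ ·) hg
    simp only [dotProduct_add, dotProduct_smul, zw, zz, zs', hw, wz, ws', smul_eq_mul, mul_zero, mul_one, add_zero,
      zero_add, dotProduct_zero] at h1 h2
    rw [h1, h2, zero_smul, zero_smul, zero_add, zero_add] at hg
    have h3 := (smul_eq_zero.1 hg).resolve_right hne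
    intro k
    fin_cases k <;> assumption
  have htop := hli.span_eq_top_of_card_eq_finrank (by rw [Module.finrank_pi, Fintype.card_fin, Fintype.card_fin, hm])
  refine hne (hJ.eq_zero_of_orth fun y => ?_)
  have hy : y ∈ Submodule.span F (Set.range ![w, z, s']) := htop ▸ Submodule.mem_top
  induction hy using Submodule.span_induction with
  | mem y hy =>
    obtain ⟨k, rfl⟩ := hy
    fin_cases k
    · exact hJ.orth_comm ws'
    · exact hJ.orth_comm zs'
    · exact ss'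
  | zero => rw [dotProduct_zero]
  | add y y' _ _ h h' => rw [dotProduct_add, h, h', add_zero]
  | smul a y _ h => rw [dotProduct_smul, h, smul_zero]

theorem Cen.of_root {l o : τ} (h : o ≠ l) {R : Matrix (Ix τ m) (Ix τ m) F} (hR : URoot K J o R) : Cen l (1 + R) := by
  obtain ⟨u, c, -, -, -, -, rfl⟩ := hR
  exact (Cen.one l).add (cen_embM (Ne.symm h) _)

namespace Ctx

/-- The products of two roots at `l` with their partners. -/
theorem pair_view (C : Ctx K J M) {l o o' : τ} (ho : o ≠ l) (ho' : o' ≠ l) {R R' : Matrix (Ix τ m) (Ix τ m) F}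
    (hR : URoot K J o R) (hR' : URoot K J o' R') {r r' y y' : GL (Ix τ m) F} (hrv : r.1 = 1 + R)
    (hrv' : r'.1 = 1 + R') {b b' : Matrix (Fin m) (Fin m) F} (hyv : y.1 = 1 + embM l b) (hyv' : y'.1 = 1 + embM l b') :
    ∃ B, (r * r').1 = ins l B 1 ∧ ((y * r) * (y' * r')).1 = ins l B ((1 + b) * (1 + b')) := by
  haveI := C.hyp.neZero
  have h1 : Cen l r.1 := hrv ▸ Cen.of_root ho hR
  have h1' : Cen l r'.1 := hrv' ▸ Cen.of_root ho' hR'
  refine ⟨restM l r.1 * restM l r'.1, ?_, ?_⟩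
  · rw [Units.val_mul, h1.eq_ins, h1'.eq_ins, ins_mul, mul_one]
    rw [← h1.eq_ins, ← h1'.eq_ins]
  · rw [Units.val_mul, Units.val_mul, Units.val_mul, hyv, hyv', ← embM_one (F := F) (m := m) l, ← embM_add, ← embM_add,
      embM_eq_ins, embM_eq_ins, h1.eq_ins, h1'.eq_ins, ins_mul, ins_mul, ins_mul, ← h1.eq_ins, ← h1'.eq_ins]
    simp only [one_mul, mul_one]

/-- Four or more dimensions: the partners of two roots of a hyperbolic line coincide. -/
theorem partners_eq_four (C : Ctx K J M) (h2 : (2 : F) = 0) (hm : 4 ≤ m) {l o o' : τ} (ho : o ≠ l) (ho' : o' ≠ l)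
    {a v : Fin m → F} (haa : ph K J a ⬝ᵥ a = 0) (hvv : ph K J v ⬝ᵥ v = 0) (hav : ph K J a ⬝ᵥ v = 1)
    {R R' : Matrix (Ix τ m) (Ix τ m) F} (hR : URoot K J o R) (hR' : URoot K J o' R') {r r' y y' k : GL (Ix τ m) F}
    (hrv : r.1 = 1 + R) (hrv' : r'.1 = 1 + R') (hyv : y.1 = 1 + embM l (nu K J a)) (hyv' : y'.1 = 1 + embM l (nu K J v))
    (hkk : k * k = 1) (hc' : y' * r' * k = k * (y' * r')) (h1 : RootConj K J M (y * r * k))
    (h1' : RootConj K J M (y' * r' * k)) : r = r' := by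
  haveI := C.hyp.neZero
  have hJ := C.hyp.hJ
  obtain ⟨B, hB1, hB2⟩ := C.pair_view ho ho' hR hR' hrv hrv' hyv hyv'
  obtain ⟨N, hN⟩ : ∃ N, N = Fintype.card (Ix (Rest l) m) := ⟨_, rfl⟩
  have hprod : (y * r) * (y' * r') = (y * r * k) * (y' * r' * k) := by
    rw [hc', mul_assoc (y * r) k, ← mul_assoc k k, hkk, one_mul]
  have hu : (((y * r) * (y' * r')).1 - 1).rank ≤ 2 * N := by
    rw [hprod, Units.val_mul, show (y * r * k).1 * (y' * r' * k).1 - 1 =
      ((y * r * k).1 - 1) * (y' * r' * k).1 + ((y' * r' * k).1 - 1) by rw [sub_mul, one_mul]; abel, two_mul]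
    exact (TensorWreath.rank_add_le' _ _).trans (Nat.add_le_add
      ((Matrix.rank_mul_le_left _ _).trans (hN ▸ h1.rank_le hJ l)) (hN ▸ h1'.rank_le hJ l))
  have hlow := rank_two_plane (K := K) hJ h2 (by omega) haa hvv hav B
  rw [hB2, ins, ← Matrix.submatrix_one_equiv (α := F) (spl (m := m) l)] at hu
  change ((B ⊗ₖ ((1 + nu K J a) * (1 + nu K J v)) - 1).submatrix (spl l) (spl l)).rank ≤ 2 * N at hu
  rw [Matrix.rank_submatrix] at hu
  rw [← hN] at hlow
  have hu' : (B ⊗ₖ ((1 + Rk K J a a) * (1 + Rk K J v v)) - 1).rank ≤ 2 * N := hu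
  have hB : B = 1 := by
    by_contra hne
    have h3 := rank_pos (sub_ne_zero.2 hne)
    have h4 : 0 < (B - 1).rank * (m - 3) := Nat.mul_pos h3 (by omega)
    omega
  exact eq_of_val_scalar h2 (TensorWreath.Ctx.invol_sq h2 hrv (hR.sq_zero hJ))
    (TensorWreath.Ctx.invol_sq h2 hrv' (hR'.sq_zero hJ)) (β := 1) (by rw [hB1, hB, ins_one_one, one_smul])

/-- Three or more factors: the partners of two roots of a hyperbolic line coincide. -/
theorem partners_eq_three (C : Ctx K J M) (h2 : (2 : F) = 0) {i l o o' : τ} (ho : o ≠ l) (ho' : o' ≠ l)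
    {u v : Fin m → F} (huu : ph K J u ⬝ᵥ u = 0) (hvv : ph K J v ⬝ᵥ v = 0) (huv : ph K J u ⬝ᵥ v = 1) {c : F}
    (hc0 : c ≠ 0) (hc1 : c ≠ 1) {R R' : Matrix (Ix τ m) (Ix τ m) F} (hR : URoot K J o R) (hR' : URoot K J o' R')
    {X : Matrix (Ix τ m) (Ix τ m) F} (hX : URoot K J i X) {x r r' y y' h : GL (Ix τ m) F} (hxv : x.1 = 1 + X)
    (hxx : x * x = 1) (hh : h ∈ M) (hrM : r ∈ M) (hrM' : r' ∈ M) (hrv : r.1 = 1 + R) (hrv' : r'.1 = 1 + R')
    (hyv : y.1 = 1 + embM l (nu K J u)) (hyv' : y'.1 = 1 + embM l (c • nu K J v))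
    (hc : y * r * (h * x * h⁻¹) = h * x * h⁻¹ * (y * r)) (hc' : y' * r' * (h * x * h⁻¹) = h * x * h⁻¹ * (y' * r'))
    (h1 : RootConj K J M (y * r * (h * x * h⁻¹))) (h1' : RootConj K J M (y' * r' * (h * x * h⁻¹))) : r = r' := by
  haveI := C.hyp.neZero
  haveI : Nonempty (Ix (Rest l) m) := ⟨fun _ => 0⟩
  have hJ := C.hyp.hJ
  obtain ⟨B, hB1, hB2⟩ := C.pair_view ho ho' hR hR' hrv hrv' hyv hyv'
  obtain ⟨k, hk⟩ : ∃ k, k = h * x * h⁻¹ := ⟨_, rfl⟩
  rw [← hk] at hc hc' h1 h1'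
  have hkk : k * k = 1 := by rw [hk]; calc h * x * h⁻¹ * (h * x * h⁻¹) = h * (x * x) * h⁻¹ := by group
                                       _ = 1 := by rw [hxx]; group
  have back_root : ∀ w, RootConj K J M (w * k) → w * k = k * w → ∃ (o₁ : τ) (R₁ : Matrix (Ix τ m) (Ix τ m) F),
      URoot K J o₁ R₁ ∧ (h⁻¹ * (w * k) * h).1 = 1 + R₁ := fun w hw hwk => by
    have e : h⁻¹ * (w * k) * h * x = x * (h⁻¹ * (w * k) * h) := by
      rw [show h⁻¹ * (w * k) * h * x = h⁻¹ * (w * k * k) * h by rw [hk]; group,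
        show x * (h⁻¹ * (w * k) * h) = h⁻¹ * (k * (w * k)) * h by rw [hk]; group, ← mul_assoc k, ← hwk]
    have := hw.conj (M.inv_mem hh)
    rw [inv_inv] at this
    exact C.root_of_commute this hX hxv e
  obtain ⟨o₁, P, hP, hPv⟩ := back_root _ h1 hc
  obtain ⟨o₂, Q, hQ, hQv⟩ := back_root _ h1' hc'
  obtain ⟨w, hw⟩ : ∃ w, w = (y * r) * (y' * r') := ⟨_, rfl⟩
  have hwc : w = h * ((h⁻¹ * (y * r * k) * h) * (h⁻¹ * (y' * r' * k) * h)) * h⁻¹ := by
    rw [hw, show h * (h⁻¹ * (y * r * k) * h * (h⁻¹ * (y' * r' * k) * h)) * h⁻¹ = y * r * k * (y' * r' * k) by group,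
      hc', mul_assoc (y * r) k, ← mul_assoc k k, hkk, one_mul]
  obtain ⟨t, ht1, ht2⟩ := pair_trace hJ hP hQ
  have hS := cubic_of_pair h2 (hP.sq_zero hJ) (hQ.sq_zero hJ) ht1 ht2
  obtain ⟨S, hSd⟩ : ∃ S, S = P + Q + P * Q := ⟨_, rfl⟩
  rw [← hSd] at hS
  obtain ⟨W, hW⟩ : ∃ W, W = h.1 * S * (h⁻¹).1 := ⟨_, rfl⟩
  have hwv : w.1 = 1 + W := by
    rw [hwc, conj_val h (Y := S) (by rw [Units.val_mul, hPv, hQv, hSd, mul_add, mul_one, add_mul, one_mul]; abel), hW]
  have hWc : W * W * W + t • (W * W) + t • W = 0 := by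
    rw [hW, mul_inv_cancel_mid, mul_inv_cancel_mid,
      show h.1 * (S * S * S) * (h⁻¹).1 + t • (h.1 * (S * S) * (h⁻¹).1) + t • (h.1 * S * (h⁻¹).1) =
        h.1 * (S * S * S + t • (S * S) + t • S) * (h⁻¹).1 by
          simp only [mul_add, add_mul, mul_smul_comm, smul_mul_assoc], hS, mul_zero, zero_mul]
  obtain ⟨A, hA⟩ : ∃ A, A = (1 + nu K J u) * (1 + c • nu K J v) := ⟨_, rfl⟩
  rw [← hw, hwv, ← hA] at hB2
  obtain ⟨s, hs⟩ : ∃ s, s = t + 1 := ⟨_, rfl⟩
  have hY : ∀ Y, Y = 1 + W → Y * Y * Y + s • (Y * Y) + s • Y + 1 = 0 := by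
    rintro Y rfl
    rw [hs]
    simp only [mul_add, add_mul, one_mul, mul_one]
    linear_combination (norm := skip) hWc
    match_scalars <;> (ring_nf; try simp [h2, show (4 : F) = 0 by linear_combination 2 * h2,
      show (3 : F) = 1 by linear_combination h2, show (6 : F) = 0 by linear_combination 3 * h2])
  have hview := hY _ hB2.symm
  rw [ins_mul, ins_mul, ← ins_smul_left, ← ins_smul_left, ← ins_one_one l, ← back_kron, ← back_kron, ← back_kron,
    ← back_kron, ← back_add, ← back_add, ← back_add,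
    show (0 : Matrix (Ix τ m) (Ix τ m) F) = back l 0 by ext p p'; simp [back]] at hview
  have hv0 := back_inj l hview
  have con : ∀ χ ξ : Fin m → F, (χ ⬝ᵥ ((A * A * A) *ᵥ ξ)) • (B * B * B) + (s * (χ ⬝ᵥ ((A * A) *ᵥ ξ))) • (B * B) +
      (s * (χ ⬝ᵥ (A *ᵥ ξ))) • B + (χ ⬝ᵥ ξ) • (1 : Matrix (Ix (Rest l) m) (Ix (Rest l) m) F) = 0 := fun χ ξ => by
    have := congrArg (fun Z => (kr (Ix (Rest l) m) χ : Matrix (Ix (Rest l) m) (Ix (Rest l) m × Fin m) F) * Z *
      kc (Ix (Rest l) m) ξ) hv0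
    simp only [Matrix.mul_add, Matrix.add_mul, TensorMax.kr_mul_kron, Matrix.mul_assoc, TensorMax.kr_mul_kc,
      Matrix.mul_smul, Matrix.smul_mul, Matrix.mul_one, Matrix.vecMul_one, ← Matrix.dotProduct_mulVec, smul_smul,
      Matrix.mul_zero, Matrix.zero_mul] at this
    simpa only [Matrix.mul_assoc, mul_comm s] using this
  have hvu : ph K J v ⬝ᵥ u = 1 := by rw [hJ.swap, huv, map_one]
  have Av : A *ᵥ v = u + v := by
    rw [hA]
    simp only [nu, ← Matrix.mulVec_mulVec, Matrix.add_mulVec, Matrix.one_mulVec, Matrix.smul_mulVec,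
      Matrix.vecMulVec_mulVec, op_smul_eq_smul, hvv, zero_smul, smul_zero, add_zero, huv, one_smul]
    abel
  have Au : A *ᵥ u = (1 + c) • u + c • v := by
    rw [hA]
    simp only [nu, ← Matrix.mulVec_mulVec, Matrix.add_mulVec, Matrix.one_mulVec, Matrix.smul_mulVec,
      Matrix.vecMulVec_mulVec, op_smul_eq_smul, huu, hvu, huv, dotProduct_add, dotProduct_smul, smul_eq_mul,
      zero_add, mul_one, one_smul]
    module
  have A2 : (A * A) *ᵥ v = (1 + c + 1) • u + (c + 1) • v := by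
    rw [← Matrix.mulVec_mulVec, Av, Matrix.mulVec_add, Au, Av]; module
  have A3 : (A * A * A) *ᵥ v = ((1 + c + 1) * (1 + c) + (c + 1)) • u + ((1 + c + 1) * c + (c + 1)) • v := by
    rw [mul_assoc, ← Matrix.mulVec_mulVec, A2, Matrix.mulVec_add, Matrix.mulVec_smul, Matrix.mulVec_smul, Au, Av]
    module
  have h4n : (4 : F) = 0 := by linear_combination 2 * h2
  have h3n : (3 : F) = 1 := by linear_combination h2
  have e1 := con (ph K J v) v
  have e3 := con (ph K J u) v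
  rw [A2, A3, Av] at e1 e3
  simp only [dotProduct_add, dotProduct_smul, huu, hvv, huv, hvu, smul_eq_mul, mul_one, mul_zero, add_zero, zero_add,
    zero_smul] at e1 e3
  obtain ⟨e, ue, ve, ee⟩ := hJ.exists_aniso (by simp only [Fintype.card_fin]; exact C.hyp.three) huu hvv huv
  have Ae : A *ᵥ e = e := by
    rw [hA]
    simp only [nu, ← Matrix.mulVec_mulVec, Matrix.add_mulVec, Matrix.one_mulVec, Matrix.smul_mulVec,
      Matrix.vecMulVec_mulVec, op_smul_eq_smul, ve, zero_smul, smul_zero, add_zero, ue]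
  have e4 := con (ph K J e) e
  rw [mul_assoc A A A, ← Matrix.mulVec_mulVec, ← Matrix.mulVec_mulVec, Ae, Ae, Ae] at e4
  have e4' : B * B * B + s • (B * B) + s • B + 1 = 0 := by
    refine smul_right_injective _ ee (?_ : (ph K J e ⬝ᵥ e) • _ = _ • (0 : Matrix (Ix (Rest l) m) (Ix (Rest l) m) F))
    rw [smul_zero, ← e4]
    module
  obtain ⟨B', hB'⟩ : ∃ B', B' = restM l (r * r')⁻¹.1 := ⟨_, rfl⟩
  have hBB : B' * B = 1 := by
    refine mul_eq_one_comm.1 (ins_one_injective l (show ins l (B * B') 1 = ins l 1 1 from ?_))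
    have hi : Cen l (r * r')⁻¹.1 := by
      have hr2 := (rootConj_of_root hR hrM hrv).sq hJ h2
      have hr2' := (rootConj_of_root hR' hrM' hrv').sq hJ h2
      rw [_root_.mul_inv_rev, inv_eq_of_mul_eq_one_right hr2, inv_eq_of_mul_eq_one_right hr2', Units.val_mul, hrv, hrv']
      exact (Cen.of_root ho' hR').mul (Cen.of_root ho hR)
    rw [ins_one_one, ← mul_one (1 : Matrix (Fin m) (Fin m) F), ← ins_mul, ← hB1, hB', ← hi.eq_ins, Units.mul_inv]
  obtain ⟨β, hβ⟩ := scalar_of_cubics h2 hBB (s := s) hc0 hc1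
    (by linear_combination (norm := skip) e1; match_scalars <;> (ring_nf; try simp [h2, h4n, h3n]))
    (by linear_combination (norm := skip) e3; match_scalars <;> (ring_nf; try simp [h2, h4n, h3n]))
    e4'
  exact eq_of_val_scalar h2 ((rootConj_of_root hR hrM hrv).sq hJ h2) ((rootConj_of_root hR' hrM' hrv').sq hJ h2)
    (β := β) (by rw [hB1, hβ, ins_smul_left, ins_one_one])

end Ctx

/-- An orthogonal hyperbolic pair next to an isotropic vector. -/
theorem exists_plane (hJ : IsHerm K J) (hm : 4 ≤ m) {u : Fin m → F} (hu0 : u ≠ 0) (hu : ph K J u ⬝ᵥ u = 0) :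
    ∃ a v : Fin m → F, ph K J a ⬝ᵥ a = 0 ∧ ph K J v ⬝ᵥ v = 0 ∧ ph K J u ⬝ᵥ a = 0 ∧ ph K J u ⬝ᵥ v = 0 ∧
      ph K J a ⬝ᵥ v = 1 ∧ (∀ s : F, a ≠ s • u) ∧ (∀ s : F, v ≠ s • u) := by
  obtain ⟨z, uz, zu, zz⟩ := hJ.exists_dual hu hu0
  obtain ⟨a, ha0, haa, hperp⟩ := hJ.exists_iso_perp ![ph K J u, ph K J z] (by simp only [Fintype.card_fin]; omega)
  have ua : ph K J u ⬝ᵥ a = 0 := hperp 0
  have za : ph K J z ⬝ᵥ a = 0 := hperp 1
  obtain ⟨y0, hy0⟩ := hJ.exists_one ha0
  obtain ⟨y, hy⟩ : ∃ y, y = y0 - (ph K J u ⬝ᵥ y0) • z - (ph K J z ⬝ᵥ y0) • u := ⟨_, rfl⟩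
  have uy : ph K J u ⬝ᵥ y = 0 := by
    rw [hy, dotProduct_sub, dotProduct_sub, dotProduct_smul, dotProduct_smul, uz, hu]; simp
  have ay : ph K J a ⬝ᵥ y = 1 := by
    rw [hy, dotProduct_sub, dotProduct_sub, dotProduct_smul, dotProduct_smul, hy0, hJ.orth_comm za,
      hJ.orth_comm ua]; simp
  obtain ⟨k, hk⟩ := hJ.exists_k y
  have hya : ph K J y ⬝ᵥ a = 1 := by rw [hJ.swap, ay, map_one]
  refine ⟨a, y + k • a, haa, ?_, ua, ?_, ?_, fun s e => ha0 ?_, fun s e => one_ne_zero (α := F) ?_⟩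
  · simp only [TensorUnitary.ph_add, TensorUnitary.ph_smul, add_dotProduct, smul_dotProduct, dotProduct_add,
      dotProduct_smul, smul_eq_mul, haa, ay, hya, mul_zero, add_zero]
    linear_combination hk
  · rw [dotProduct_add, dotProduct_smul, uy, ua, smul_zero, add_zero]
  · rw [dotProduct_add, dotProduct_smul, ay, haa, smul_zero, add_zero]
  · rw [e, dotProduct_smul, zu, smul_eq_mul, mul_one] at za
    rw [e, za, zero_smul]
  · have := congrArg (ph K J a ⬝ᵥ ·) e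
    simp only [dotProduct_add, dotProduct_smul, ay, haa, hJ.orth_comm ua, smul_zero, add_zero] at this
    exact this

namespace Ctx

/-- Two factors of dimension three. -/
theorem mono_of_commute_small (C : Ctx K J M) (h2 : (2 : F) = 0) (hm : m = 3) {i j : τ} (hij : i ≠ j)
    (huniv : ∀ o, o = i ∨ o = j) {u w : Fin m → F} {c d : F} (hu0 : u ≠ 0) (hu : ph K J u ⬝ᵥ u = 0) (hc0 : c ≠ 0)
    (hc : K.bar c = c) (hw0 : w ≠ 0) (hw : ph K J w ⬝ᵥ w = 0) (hd0 : d ≠ 0) (hd : K.bar d = d)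
    {x x' h : GL (Ix τ m) F} (hxM : x ∈ M) (hxv : x.1 = 1 + embM i (c • nu K J u))
    (hxv' : x'.1 = 1 + embM j (d • nu K J w)) {f : τ → Matrix (Fin m) (Fin m) F} (hf : ∀ o, f o * f o = 1)
    (hfi : f i = 1 + c • nu K J u) (hzv : (x * x').1 = pureM f) (hh : h ∈ M) (hhm : ¬ Mono h.1)
    (hhz : h * (x * x') = x * x' * h) : False := by
  haveI := C.hyp.neZero
  haveI : Fact (Nat.Prime 2) := ⟨Nat.prime_two⟩
  have hJ := C.hyp.hJ
  have hX : URoot K J i (embM i (c • nu K J u)) := uRoot_mk hu0 hu hc0 (skew_of_real h2 hc) i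
  have hxx := TensorWreath.Ctx.invol_sq h2 hxv (hX.sq_zero hJ)
  obtain ⟨k, hk⟩ : ∃ k, k = h * x * h⁻¹ := ⟨_, rfl⟩
  have hkM : k ∈ M := hk ▸ M.mul_mem (M.mul_mem hh hxM) (M.inv_mem hh)
  have hkm : ¬ Mono k.1 := fun hm' => hhm (C.mono_of_mono_image hh hX hxv (hk ▸ hm'))
  obtain ⟨r₀, hr₀, hr₀0, hr₀1⟩ := TensorUnitary.exists_real K (fun e => by have := C.hyp.hex e; omega)
  obtain ⟨c', hc'⟩ : ∃ c', c' = c * r₀ := ⟨_, rfl⟩
  have hc'0 : c' ≠ 0 := hc' ▸ mul_ne_zero hc0 hr₀0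
  have hc'r : K.bar c' = c' := by rw [hc', map_mul, hc, hr₀]
  have hcc : c' ≠ c := fun e => hr₀1 (by
    have : r₀ = 1 := mul_left_cancel₀ hc0 (by rw [← hc', e, mul_one])
    rw [this, one_mul, sub_self])
  have hY : URoot K J i (embM i (c' • nu K J u)) := uRoot_mk hu0 hu hc'0 (skew_of_real h2 hc'r) i
  obtain ⟨y, hyM, hyv, -⟩ := C.exists_root hY
  have hxz : x * (x * x') = x * x' * x := ((commute_val_iff hxv).2 (by
    rw [hzv]; exact (embM_comm_pure (by rw [hfi, mul_add, add_mul, mul_one, one_mul, smul_nu_sq hu])).symm)).symm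
  have hyz : y * (x * x') = x * x' * y := ((commute_val_iff hyv).2 (by
    rw [hzv]; exact (embM_comm_pure (by rw [hfi, mul_add, add_mul, mul_one, one_mul, smul_nu_sq hu, smul_nu_sq hu])).symm)).symm
  obtain ⟨o, R, r, hoi, hR, hrM, hrv, -, hrz, hrk, -⟩ := C.partner h2 hX hY hf hfi (fun e => hcc (by
    rw [hfi] at e
    exact (smul_left_injective F (nu_ne_zero hJ hu0) (add_left_cancel e)).symm)) hzv hxM hxv hyM hyv hxz hyz hh hhm hhz
  rw [← hk] at hrk
  obtain ⟨s, δ, hs0, hs, hδ0, hδ, rfl⟩ := hR.exists_nu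
  obtain rfl : o = j := (huniv o).resolve_left hoi
  have hxr : r * x = x * r := (commute_val_iff hxv).2 (by
    rw [hrv, add_mul, mul_add, one_mul, mul_one, embM_comm hij.symm])
  have hxr' : x' * r = r * x' := by
    have : x * (x' * r) = x * (r * x') := by rw [← mul_assoc, ← mul_assoc, ← hxr, mul_assoc r, hrz, mul_assoc]
    exact mul_left_cancel this
  obtain ⟨α, rfl⟩ := parallel_three hJ hm hw0 hw hs (orth_of_comm hJ hw0 hw hs0 hd0 hδ0 hxv' hrv hxr')
  obtain ⟨δ', hδ'⟩ : ∃ δ', δ' = δ * (α * K.bar α) := ⟨_, rfl⟩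
  rw [nu_smul, smul_smul, ← hδ'] at hrv
  obtain ⟨A, hA⟩ : ∃ A : Matrix (Ix τ m) (Ix τ m) F, A = embM i (nu K J u) := ⟨_, rfl⟩
  obtain ⟨B, hB⟩ : ∃ B : Matrix (Ix τ m) (Ix τ m) F, B = embM o (nu K J w) := ⟨_, rfl⟩
  rw [embM_smul, ← hA] at hxv hyv
  rw [embM_smul, ← hB] at hxv' hrv
  have hAA : A * A = 0 := by rw [hA, embM_mul, nu_sq hu, embM_zero]
  have hBB : B * B = 0 := by rw [hB, embM_mul, nu_sq hw, embM_zero]
  have hAB : A * B = B * A := by rw [hA, hB, embM_comm hij]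
  have hval : ∀ (a b : GL (Ix τ m) F) (α β : F), a.1 = 1 + α • A → b.1 = 1 + β • B →
      (a * b).1 = 1 + (α • A + β • B + (α * β) • (A * B)) := fun a b α β ha hb => by
    rw [Units.val_mul, ha, hb, mul_add, mul_one, add_mul, one_mul, smul_mul_smul_comm]
    abel
  have hkz : k * (x * x') = x * x' * k := by
    rw [hk, mul_assoc, (Commute.inv_left (hhz : Commute h (x * x'))).eq, ← mul_assoc, mul_assoc h, hxz, ← mul_assoc,
      hhz, mul_assoc (x * x'), mul_assoc (x * x')]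
  have c1 := (commute_val_iff (hval _ _ _ _ hxv hxv')).1 hkz
  have c2 := (commute_val_iff (hval _ _ _ _ hyv hrv)).1 hrk.symm
  obtain ⟨Z, hZ⟩ : ∃ Z, Z = c • A + d • B + (c * d) • (A * B) := ⟨_, rfl⟩
  obtain ⟨Z', hZ'⟩ : ∃ Z', Z' = c' • A + δ' • B + (c' * δ') • (A * B) := ⟨_, rfl⟩
  rw [← hZ] at c1
  rw [← hZ'] at c2
  obtain ⟨κ, hκ⟩ : ∃ κ, κ = c * δ' + c' * d := ⟨_, rfl⟩
  have hABA : A * (A * B) = 0 := by rw [← mul_assoc, hAA, zero_mul]
  have hBAB : B * (A * B) = 0 := by rw [hAB, ← mul_assoc, hBB, zero_mul]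
  have hE : k.1 * (A * B) = A * B * k.1 := by
    by_cases hκ0 : κ = 0
    swap
    · have e : Z * Z' = κ • (A * B) := by
        rw [hZ, hZ']
        simp only [mul_add, add_mul, smul_mul_smul_comm, hAA, hBB, ← hAB, hABA, hBAB, mul_assoc A B, hBB, mul_zero,
          smul_zero, add_zero, zero_add]
        rw [← add_smul, hκ]
        congr 1
        ring
      have h1 : k.1 * (κ • (A * B)) = κ • (A * B) * k.1 := by
        rw [← e, ← mul_assoc, c1, mul_assoc, c2, mul_assoc]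
      rw [mul_smul_comm, smul_mul_assoc] at h1
      exact smul_right_injective _ hκ0 h1
    · have hdd : d + δ' ≠ 0 := fun e => by
        have e' : δ' = d := (eq_of_add_two h2 e).symm
        rw [hκ, e', ← add_mul, mul_eq_zero, or_iff_left hd0] at hκ0
        exact hcc (eq_of_add_two h2 hκ0).symm
      have e : c' • Z + c • Z' = (c * c' * (d + δ')) • (A * B) := by
        rw [hZ, hZ']
        match_scalars
        · linear_combination c * c' * h2
        · linear_combination hκ0 - hκ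
        · ring
      have h1 : k.1 * (c' • Z + c • Z') = (c' • Z + c • Z') * k.1 := by
        simp only [mul_add, add_mul, mul_smul_comm, smul_mul_assoc, c1, c2]
      rw [e, mul_smul_comm, smul_mul_assoc] at h1
      exact smul_right_injective _ (mul_ne_zero (mul_ne_zero hc0 hc'0) hdd) h1
  obtain ⟨z₁, wz, zw, -⟩ := hJ.exists_dual hw hw0
  obtain ⟨Y, hYd⟩ : ∃ Y, Y = h.1 * (c • A) * (h⁻¹).1 := ⟨_, rfl⟩
  have hkv : k.1 = 1 + Y := by rw [hk, hYd, conj_val h hxv]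
  have hP8 := stable_pow (h := h.1) (h' := (h⁻¹).1) (Z := Z) (X := c • A) (Y := Y) (G := embM o (nu K J z₁))
    h2 hAA hBB hAB (by rw [hA, embM_comm hij]) (by
      rw [hB, embM_mul, embM_mul]
      simp only [nu, Matrix.vecMulVec_mul_vecMulVec, Matrix.vecMulVec_smul, smul_dotProduct, wz, zw, one_smul])
    hd0 hZ h.mul_inv h.inv_mul ((commute_val_iff (hZ ▸ hval _ _ _ _ hxv hxv')).1 hhz) rfl hYd (by
      rw [hkv, add_mul, mul_add, one_mul, mul_one] at hE
      exact add_left_cancel hE)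
  obtain ⟨P, hP⟩ : ∃ P, P = c • A + Y + c • A * Y := ⟨_, rfl⟩
  rw [← hP] at hP8
  have hkk : k * k = 1 := by rw [hk, show h * x * h⁻¹ * (h * x * h⁻¹) = h * (x * x) * h⁻¹ by group, hxx]; group
  have h8 : (x * k) ^ (2 ^ 3) = 1 := Units.ext (by
    rw [Units.val_pow_eq_pow_val, Units.val_one, show (x * k).1 = 1 + P by
      rw [Units.val_mul, hxv, hkv, hP, mul_add, mul_one, add_mul, one_mul]; abel]
    have sq2 : ∀ X : Matrix (Ix τ m) (Ix τ m) F, (1 + X) ^ 2 = 1 + X ^ 2 := fun X => by rw [sq, sq, one_add_sq h2]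
    rw [show (2 : ℕ) ^ 3 = 2 * 2 * 2 by norm_num, pow_mul, pow_mul, sq2, sq2, sq2, ← pow_mul, ← pow_mul, hP8,
      add_zero])
  refine hkm (C.mono_of_pGroup (p := 2) hX hxM (by rw [embM_smul, ← hA]; exact hxv) ?_ hkM
    (isPGroup_two_of_pow hxx hkk h8))
  rw [hxv, hA, ← embM_smul, ← embM_one (F := F) (m := m) i, ← embM_add]
  exact mono_pure _

/-- The centraliser of a product of two commuting roots is monomial. -/
theorem mono_of_commute_two (C : Ctx K J M) (h2 : (2 : F) = 0) {i j : τ} {X X' : Matrix (Ix τ m) (Ix τ m) F}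
    (hX : URoot K J i X) (hX' : URoot K J j X') {x x' h : GL (Ix τ m) F} (hxM : x ∈ M) (hxv : x.1 = 1 + X)
    (hxv' : x'.1 = 1 + X') (hxx' : x * x' = x' * x) (h1 : x * x' ≠ 1) (hh : h ∈ M)
    (hhz : h * (x * x') = x * x' * h) : Mono h.1 := by
  by_cases hij : i = j
  · subst hij
    exact C.mono_of_commute_same hX hX' hxv hxv' hxx' h1 hh hhz
  haveI := C.hyp.neZero
  have hJ := C.hyp.hJ
  have hm := C.hyp.three
  by_contra hhm
  obtain ⟨u, c, hu0, hu, hc0, hcs, rfl⟩ := hX.exists_nu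
  obtain ⟨w, d, hw0, hw, hd0, hds, rfl⟩ := hX'.exists_nu
  have hc := bar_eq_self h2 hcs
  have hd := bar_eq_self h2 hds
  obtain ⟨f, hfd⟩ : ∃ f : τ → Matrix (Fin m) (Fin m) F, f = Function.update (1 : τ → Matrix (Fin m) (Fin m) F) i (1 + c • nu K J u) *
      Function.update (1 : τ → Matrix (Fin m) (Fin m) F) j (1 + d • nu K J w) := ⟨_, rfl⟩
  have hfi : f i = 1 + c • nu K J u := by simp [hfd, hij]
  have hfo : ∀ o, o ≠ i → o ≠ j → f o = 1 := fun o a b => by simp [hfd, a, b]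
  have hfj : f j = 1 + d • nu K J w := by simp [hfd, Ne.symm hij]
  have hf : ∀ o, f o * f o = 1 := fun o => by
    by_cases a : o = i
    · subst a; rw [hfi]; exact two_mul_one_add_sq h2 (smul_nu_sq hu c c)
    by_cases b : o = j
    · subst b; rw [hfj]; exact two_mul_one_add_sq h2 (smul_nu_sq hw d d)
    rw [hfo o a b, mul_one]
  have hzv : (x * x').1 = pureM f := by
    rw [Units.val_mul, hxv, hxv', ← embM_one (F := F) (m := m) i, ← embM_add]
    rw [embM_one, ← embM_one (F := F) (m := m) j, ← embM_add, embM, embM, pureM_mul, hfd]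
  obtain ⟨k, hk⟩ : ∃ k, k = h * x * h⁻¹ := ⟨_, rfl⟩
  have hkM : k ∈ M := hk ▸ M.mul_mem (M.mul_mem hh hxM) (M.inv_mem hh)
  have hkm : ¬ Mono k.1 := fun hm' => hhm (C.mono_of_mono_image hh hX hxv (hk ▸ hm'))
  have hxx := TensorWreath.Ctx.invol_sq h2 hxv (hX.sq_zero hJ)
  have hkk : k * k = 1 := by rw [hk, show h * x * h⁻¹ * (h * x * h⁻¹) = h * (x * x) * h⁻¹ by group, hxx]; group
  have comm : ∀ {l : τ} {b : Matrix (Fin m) (Fin m) F} {y : GL (Ix τ m) F}, y.1 = 1 + embM l b →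
      f l * b = b * f l → y * (x * x') = x * x' * y := fun hyv hb =>
    ((commute_val_iff hyv).2 (by rw [hzv]; exact (embM_comm_pure hb).symm)).symm
  have hxz : x * (x * x') = x * x' * x :=
    comm hxv (by rw [hfi, mul_add, add_mul, mul_one, one_mul])
  -- the data of a root in the centraliser
  have part : ∀ (l : τ) (a : Fin m → F) (e : F), a ≠ 0 → ph K J a ⬝ᵥ a = 0 → e ≠ 0 → K.bar e = e →
      f l * (e • nu K J a) = e • nu K J a * f l → f l ≠ 1 + e • nu K J a →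
      ∃ (o : τ) (R : Matrix (Ix τ m) (Ix τ m) F) (r y : GL (Ix τ m) F), o ≠ l ∧ URoot K J o R ∧ r ∈ M ∧ r.1 = 1 + R ∧
        URoot K J l (embM l (e • nu K J a)) ∧ y.1 = 1 + embM l (e • nu K J a) ∧ y * r * k = k * (y * r) ∧
        RootConj K J M (y * r * k) := by
    intro l a e ha0 ha he0 he hb hne
    have hY : URoot K J l (embM l (e • nu K J a)) := uRoot_mk ha0 ha he0 (skew_of_real h2 he) l
    obtain ⟨y, hyM, hyv, -⟩ := C.exists_root hY
    obtain ⟨o, R, r, h₁, h₂, h₃, h₄, -, -, h₅, h₆⟩ :=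
      C.partner h2 hX hY hf hfi hne hzv hxM hxv hyM hyv hxz (comm hyv hb) hh hhm hhz
    rw [← hk] at h₅ h₆
    exact ⟨o, R, r, y, h₁, h₂, h₃, h₄, hY, hyv, h₅, h₆⟩
  -- two roots of one factor with the same partner
  have coll : ∀ {l o : τ} {a a' : Fin m → F} {e e' : F} {R : Matrix (Ix τ m) (Ix τ m) F} {r y y' : GL (Ix τ m) F},
      o ≠ l → URoot K J o R → r.1 = 1 + R → URoot K J l (embM l (e • nu K J a)) →
      URoot K J l (embM l (e' • nu K J a')) → y.1 = 1 + embM l (e • nu K J a) → y'.1 = 1 + embM l (e' • nu K J a') →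
      ph K J a ⬝ᵥ a' = 0 → e • nu K J a ≠ e' • nu K J a' →
      y * r * k = k * (y * r) → y' * r * k = k * (y' * r) → False := by
    intro l o a a' e e' R r y y' hol hR hrv hY hY' hyv hyv' haa hne hc₁ hc₂
    have hr2 := TensorWreath.Ctx.invol_sq h2 hrv (hR.sq_zero hJ)
    have hry : r * y' = y' * r := (commute_val_iff hyv').2
      (by rw [hrv]; exact ((Cen.of_root hol hR) _).symm)
    have e1 : y * r * (y' * r) = y * y' := by
      rw [mul_assoc y, ← mul_assoc r, hry, mul_assoc y', hr2, mul_one]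
    have hyy : y * y' = y' * y := (commute_val_iff hyv').2 (by
      rw [hyv, add_mul, mul_add, one_mul, mul_one, embM_mul, embM_mul, smul_mul_smul_comm, smul_mul_smul_comm, nu, nu,
        Matrix.vecMulVec_mul_vecMulVec, Matrix.vecMulVec_mul_vecMulVec, haa, hJ.orth_comm haa]
      simp)
    have hy2 := TensorWreath.Ctx.invol_sq h2 hyv' (hY'.sq_zero hJ)
    refine hkm (C.mono_of_commute_same hY hY' hyv hyv' hyy (fun e0 => hne ?_) hkM ?_)
    · have h3 : y = y' := by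
        rw [← mul_one y, ← hy2, ← mul_assoc, e0, one_mul]
      have h4 := congrArg Units.val h3
      rw [hyv, hyv', add_right_inj] at h4
      exact embM_injective l h4
    · rw [← e1, ← mul_assoc k, ← hc₁, mul_assoc (y * r) k, ← hc₂, ← mul_assoc]
  by_cases h4 : 4 ≤ m
  · obtain ⟨a, v, haa, hvv, ua, uv, av, ha, hv⟩ := exists_plane hJ h4 hu0 hu
    have hcm : ∀ b, ph K J u ⬝ᵥ b = 0 → f i * ((1 : F) • nu K J b) = (1 : F) • nu K J b * f i := fun b ub => by
      rw [hfi, mul_add, add_mul, mul_one, one_mul, one_smul, smul_mul_assoc, mul_smul_comm, nu, nu,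
        Matrix.vecMulVec_mul_vecMulVec, Matrix.vecMulVec_mul_vecMulVec, ub, hJ.orth_comm ub]
      simp
    have hnf : ∀ b : Fin m → F, (∀ s : F, b ≠ s • u) → f i ≠ 1 + (1 : F) • nu K J b := fun b hb e =>
      nu_ne hJ hu0 hb (c := c) one_ne_zero (add_left_cancel (hfi.symm.trans e))
    obtain ⟨b, hb⟩ : ∃ b, b = u + a := ⟨_, rfl⟩
    have hbb : ph K J b ⬝ᵥ b = 0 := by
      rw [hb]; simp [TensorUnitary.ph_add, hu, haa, ua, hJ.orth_comm ua]
    have ub : ph K J u ⬝ᵥ b = 0 := by rw [hb, dotProduct_add, hu, ua, add_zero]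
    have bv : ph K J b ⬝ᵥ v = 1 := by rw [hb, TensorUnitary.ph_add, add_dotProduct, uv, av, zero_add]
    have ab : ph K J a ⬝ᵥ b = 0 := by rw [hb, dotProduct_add, hJ.orth_comm ua, haa, add_zero]
    have hbu : ∀ s : F, b ≠ s • u := fun s e => ha (s - 1) (by rw [sub_smul, one_smul, ← e, hb, add_sub_cancel_left])
    have ne0 : ∀ {b : Fin m → F}, (∀ s : F, b ≠ s • u) → b ≠ 0 := fun hb e => hb 0 (by rw [e, zero_smul])
    obtain ⟨o, R, r, y, a1, a2, -, a4, a5, a6, a7, a8⟩ :=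
      part i a 1 (ne0 ha) haa one_ne_zero (map_one _) (hcm a ua) (hnf a ha)
    obtain ⟨o', R', r', y', b1, b2, -, b4, b5, b6, b7, b8⟩ :=
      part i b 1 (ne0 hbu) hbb one_ne_zero (map_one _) (hcm b ub) (hnf b hbu)
    obtain ⟨o'', R'', r'', y'', c1, c2, -, c4, -, c6, c7, c8⟩ :=
      part i v 1 (ne0 hv) hvv one_ne_zero (map_one _) (hcm v uv) (hnf v hv)
    have hne : (1 : F) • nu K J a ≠ (1 : F) • nu K J b := fun e => by
      have hab : ∀ s : F, b ≠ s • a := fun s e' => hu0 (by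
        have h5 : u = (s - 1) • a := by
          rw [hb] at e'; rw [sub_smul, one_smul, ← e', add_sub_cancel_right]
        by_cases hs : s - 1 = 0
        · rw [h5, hs, zero_smul]
        · exact absurd (show a = (s - 1)⁻¹ • u by rw [h5, smul_smul, inv_mul_cancel₀ hs, one_smul]) (ha _))
      exact nu_ne hJ (ne0 ha) hab one_ne_zero e
    rw [one_smul] at a6 b6 c6
    have e1 := C.partners_eq_four h2 h4 a1 c1 haa hvv av a2 c2 a4 c4 a6 c6 hkk c7 a8 c8
    have e2 := C.partners_eq_four h2 h4 b1 c1 hbb hvv bv b2 c2 b4 c4 b6 c6 hkk c7 b8 c8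
    rw [e2, ← e1] at b7
    exact coll a1 a2 a4 a5 b5 (by rw [one_smul]; exact a6) (by rw [one_smul]; exact b6) ab hne a7 b7
  have hm3 : m = 3 := by omega
  by_cases hl : ∃ l, l ≠ i ∧ l ≠ j
  · obtain ⟨l, hli, hlj⟩ := hl
    obtain ⟨z, uz, zu, zz⟩ := hJ.exists_dual hu hu0
    obtain ⟨r₀, hr₀, hr₀0, hr₀1⟩ := TensorUnitary.exists_real K (fun e => by have := C.hyp.hex e; omega)
    have hr1 : r₀ ≠ 1 := fun e => hr₀1 (by rw [e, one_mul, sub_self])
    obtain ⟨e₁, he₁⟩ : ∃ e₁, e₁ = 1 + r₀ := ⟨_, rfl⟩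
    have he₁0 : e₁ ≠ 0 := fun e => hr1 (by linear_combination (he₁.symm.trans e) - h2)
    have he₁1 : e₁ ≠ 1 := fun e => hr₀0 (by linear_combination he₁.symm.trans e)
    have hfl : f l = 1 := hfo l hli hlj
    have hcm : ∀ B : Matrix (Fin m) (Fin m) F, f l * B = B * f l := fun B => by rw [hfl, one_mul, mul_one]
    have hnf : ∀ (b : Fin m → F) (e : F), b ≠ 0 → e ≠ 0 → f l ≠ 1 + e • nu K J b := fun b e hb he h3 => by
      rw [hfl, left_eq_add] at h3
      exact smul_ne_zero he (nu_ne_zero hJ hb) h3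
    have z0 : z ≠ 0 := fun e => by rw [e, dotProduct_zero] at uz; exact zero_ne_one uz
    obtain ⟨o, R, r, y, a1, a2, a3, a4, -, a6, a7, a8⟩ :=
      part l u 1 hu0 hu one_ne_zero (map_one _) (hcm _) (hnf u 1 hu0 one_ne_zero)
    obtain ⟨o', R', r', y', b1, b2, b3, b4, b5, b6, b7, b8⟩ :=
      part l z r₀ z0 zz hr₀0 hr₀ (hcm _) (hnf z r₀ z0 hr₀0)
    obtain ⟨o'', R'', r'', y'', c1, c2, c3, c4, c5, c6, c7, c8⟩ :=
      part l z e₁ z0 zz he₁0 (by rw [he₁, map_add, map_one, hr₀]) (hcm _) (hnf z e₁ z0 he₁0)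
    rw [one_smul] at a6
    rw [hk] at a7 a8 b7 b8 c7 c8
    have e1 := C.partners_eq_three h2 a1 b1 hu zz uz hr₀0 hr1 a2 b2 hX hxv hxx hh a3 b3 a4 b4 a6 b6 a7 b7 a8 b8
    have e2 := C.partners_eq_three h2 a1 c1 hu zz uz he₁0 he₁1 a2 c2 hX hxv hxx hh a3 c3 a4 c4 a6 c6 a7 c7 a8 c8
    rw [← hk] at b7 c7
    rw [← e2, e1] at c7
    refine coll b1 b2 b4 b5 c5 b6 c6 zz (fun e => ?_) b7 c7
    have := smul_left_injective F (nu_ne_zero hJ z0) e
    rw [he₁] at this
    exact one_ne_zero (α := F) (by linear_combination -this)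
  · push Not at hl
    exact C.mono_of_commute_small h2 hm3 hij
      (fun o => (em (o = i)).elim Or.inl fun ho => Or.inr (hl o ho))
      hu0 hu hc0 hc hw0 hw hd0 hd hxM hxv hxv' hf hfi hzv hh hhm hhz

end Ctx

end CfsgLib.Classical.TensorWreathU
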