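import Cfsg.Agent.Lib.Classical.TensorWreathU.Form
import Cfsg.Agent.Lib.Classical.TensorUnitary.Stab

set_option autoImplicit false
set_option linter.unusedSectionVars false

/-!
Two factors when only the special unitary group of the second one is known to lie in the group: commutators with
translations, and the criterion for a central element to be scalar.
-/

namespace CfsgLib.Classical.TensorWreathU

open Matrix CfsgLib.Classical.TensorUnitary CfsgLib.Classical.TensorMax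
open CfsgLib.Classical.TensorSymp (ten kr_mul_apply kc_mul_apply eq_of_mul_kc_all)
open CfsgLib.ClassicalAut (Unitary.Conj)
open scoped MatrixGroups Kronecker

variable {F : Type*} [Field F] [Finite F] {q : ℕ} (K : Unitary.Conj F q)
variable {α β : Type} [Fintype α] [DecidableEq α] [Fintype β] [DecidableEq β]

/-- The weak setting. -/
structure Weak (JA : Matrix α α F) (JB : Matrix β β F) (M : Subgroup (GL (α × β) F)) : Prop where
  hA : TensorUnitary.IsHerm K JA
  hB : TensorUnitary.IsHerm K JB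
  two_le : 2 ≤ Fintype.card α
  three : 3 ≤ Fintype.card β
  hex : q = 2 → 4 ≤ Fintype.card β
  le : ∀ g ∈ M, Iso K (JA ⊗ₖ JB) g.1 ∧ g.1.det = 1
  right : ∀ T : Matrix β β F, Iso K JB T → T.det = 1 → TensorMax.InM M ((1 : Matrix α α F) ⊗ₖ T)

variable {K} {JA : Matrix α α F} {JB : Matrix β β F} {M : Subgroup (GL (α × β) F)}

theorem Weak.h0 (H : Weak K JA JB M) : TensorUnitary.Hyp K JA JB (full K (JA ⊗ₖ JB)) :=
  hyp_full H.hA H.hB H.two_le H.three

theorem Weak.mem_h0 (H : Weak K JA JB M) {g : GL (α × β) F} (hg : g ∈ M) : g ∈ full K (JA ⊗ₖ JB) := H.le g hg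

theorem zm_mul_of_orth (K : Unitary.Conj F q) (JB : Matrix β β F) {a b : β → F} (h : ph K JB a ⬝ᵥ b = 0)
    (C C' : Matrix α α F) : (Zm K JB a C * Zm K JB b C' : Matrix (α × β) (α × β) F) = 0 := by
  simp only [Zm, Matrix.mul_assoc, kr_kc_mul, h, zero_smul, Matrix.mul_zero]

theorem one_kron_sub (K : Unitary.Conj F q) (JB : Matrix β β F) {w : β → F} (hw : ph K JB w ⬝ᵥ w = 0)
    (C : Matrix α α F) : (1 + Zm K JB w C : Matrix (α × β) (α × β) F) * (1 - Zm K JB w C) = 1 := by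
  rw [Matrix.mul_sub, Matrix.mul_one, Matrix.add_mul, Matrix.one_mul, zm_mul K JB hw]
  abel

theorem Weak.rad_comm (H : Weak K JA JB M) {w : β → F} (hw : ph K JB w ⬝ᵥ w = 0) (hw0 : w ≠ 0) {h : GL (α × β) F}
    (hh : Rad K JA JB w h)
    (hconj : ∀ t ∈ M, (∃ T : Matrix β β F, Iso K JB T ∧ T.det = 1 ∧ t.1 = (1 : Matrix α α F) ⊗ₖ T) → h * t * h⁻¹ ∈ M) {p : β → F}
    (hp : ph K JB w ⬝ᵥ p = 0) {E : Matrix α α F} (he : h.1 * kc α p = kc α p + kc α w * E) :
    TensorMax.InM M (1 + Zm K JB w (E - adj K JA E)) := by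
  have H0 := H.h0
  obtain ⟨k, hk⟩ := H.hB.exists_k p
  obtain ⟨t, -, ⟨T, hT⟩, ht⟩ := H0.inM_trl hw hp hk
  obtain ⟨t', ht'M, ht'⟩ := H.right _ (H.hB.iso_trl hw hp hk) (H.hB.det_trl hw hp k)
  have htt : t' = t := Units.ext (by
    rw [ht', ht, trl]
    simp only [Matrix.kronecker_add, TensorOrth.kron_sub, Matrix.kronecker_smul, Matrix.one_kronecker_one,
      kc_mul_kr])
  have htM : t ∈ M := htt ▸ ht'M
  obtain ⟨z, wz, zw, -⟩ := H.hB.exists_dual hw hw0
  have tapp : ∀ X : Matrix (α × β) α F, t.1 * X = X + kc α p * (kr α (ph K JB w) * X) -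
      kc α w * (kr α (ph K JB p) * X) + k • (kc α w * (kr α (ph K JB w) * X)) := fun X => by
    simp only [ht, Matrix.add_mul, Matrix.sub_mul, Matrix.one_mul, Matrix.smul_mul, Matrix.mul_assoc]
  have tlev : ∀ y, ph K JB w ⬝ᵥ y = 0 →
      t.1 * kc α y = kc α y + kc α w * ((-(ph K JB p ⬝ᵥ y)) • (1 : Matrix α α F)) := fun y hy => by
    rw [tapp, kr_mul_kc, kr_mul_kc, hy]
    simp only [zero_smul, Matrix.mul_zero, smul_zero, add_zero, Matrix.mul_smul, Matrix.mul_one]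
    module
  have tfix : t.1 * kc α w = kc α w := by
    rw [tlev w hw, H.hB.orth_comm hp, neg_zero, zero_smul, Matrix.mul_zero, add_zero]
  have trad : Rad K JA JB w t := H0.rad_mk wz (H.le t htM).1 tfix fun y hy => ⟨_, tlev y hy⟩
  obtain ⟨Y, hY⟩ : ∃ Y, Y = h.1 * kc α z - kc α z := ⟨_, rfl⟩
  have hYw : kr α (ph K JB w) * Y = 0 := by
    rw [hY, Matrix.mul_sub, ← Matrix.mul_assoc, H0.adjoint_fix hh.1 hh.2.1, sub_self]
  have hYp : kr α (ph K JB p) * Y = -adj K JA E := by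
    have h1 := congrArg (· * h.1 * kc α z) (H0.adjoint hh.1 he)
    simp only [Matrix.mul_assoc, ← Matrix.mul_assoc (h⁻¹).1, h.inv_mul, Matrix.one_mul, Matrix.add_mul] at h1
    rw [← Matrix.mul_assoc (kr α (ph K JB w)), H0.adjoint_fix hh.1 hh.2.1, kr_mul_kc, kr_mul_kc, wz, one_smul,
      Matrix.mul_one] at h1
    rw [hY, Matrix.mul_sub, kr_mul_kc]
    linear_combination (norm := abel) -h1
  have hhz : h.1 * kc α z = kc α z + Y := by rw [hY]; abel
  have hz1 : (h * t).1 * kc α z = (t * h).1 * kc α z + kc α w * (E - adj K JA E) := by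
    rw [Units.val_mul, Units.val_mul, Matrix.mul_assoc, Matrix.mul_assoc, hhz, Matrix.mul_add t.1,
      tapp (kc α z), tapp Y, hYw, hYp, kr_mul_kc, kr_mul_kc, wz]
    simp only [one_smul, Matrix.mul_one, Matrix.mul_smul, Matrix.mul_zero, smul_zero, add_zero, Matrix.mul_add,
      Matrix.mul_sub, hhz, he, hh.2.1, Matrix.mul_neg]
    module
  have hperp : ∀ y, ph K JB w ⬝ᵥ y = 0 → (h * t).1 * kc α y = (t * h).1 * kc α y := by
    intro y hy
    obtain ⟨Ey, hEy⟩ := hh.2.2 (kc α y) (by rw [kr_mul_kc, hy, zero_smul])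
    rw [H0.rad_mul_apply hh hEy (tlev y hy), H0.rad_mul_apply trad (tlev y hy) hEy, add_comm Ey]
  refine ⟨h * t * (t * h)⁻¹, by
    rw [_root_.mul_inv_rev, ← mul_assoc]
    exact M.mul_mem (hconj t htM ⟨_, H.hB.iso_trl hw hp hk, H.hB.det_trl hw hp k, htt ▸ ht'⟩) (M.inv_mem htM), ?_⟩
  obtain ⟨D, hD⟩ : ∃ D, D = 1 + Zm K JB w (E - adj K JA E) := ⟨_, rfl⟩
  rw [← hD]
  have hfix : (t * h).1 * kc α w = kc α w := by rw [Units.val_mul, Matrix.mul_assoc, hh.2.1, tfix]
  have e : (h * t).1 = D * (t * h).1 := by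
    refine eq_of_mul_kc_all fun y => ?_
    have hth : kr α (ph K JB w) * (t * h).1 = kr α (ph K JB w) :=
      H0.adjoint_fix (by rw [Units.val_mul]; exact iso_mul (H.le t htM).1 hh.1) hfix
    rw [hD, Matrix.add_mul, Matrix.one_mul, Matrix.add_mul, Zm, Matrix.mul_assoc _ _ (t * h).1, hth,
      Matrix.mul_assoc _ _ (kc α y), kr_mul_kc, Matrix.mul_smul, Matrix.mul_one]
    set c := ph K JB w ⬝ᵥ y with hc
    obtain ⟨y0, hy0⟩ : ∃ y0, y0 = y - c • z := ⟨_, rfl⟩
    have hy : kc α y = kc α y0 + c • kc α z := by rw [← kc_smul, ← kc_add, hy0, sub_add_cancel]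
    rw [hy, Matrix.mul_add, Matrix.mul_smul, hz1, Matrix.mul_add, Matrix.mul_smul, hperp y0 (by
      rw [hy0, dotProduct_sub, dotProduct_smul, wz, smul_eq_mul, mul_one, sub_self]), smul_add]
    abel
  rw [Units.val_mul, e, Matrix.mul_assoc, Units.mul_inv, Matrix.mul_one]

theorem Weak.scalar_levels (H : Weak K JA JB M) (hS : Small K JB M) {w : β → F} (hw : ph K JB w ⬝ᵥ w = 0)
    (hw0 : w ≠ 0) {h : GL (α × β) F} (hh : Rad K JA JB w h)
    (hconj : ∀ t ∈ M, (∃ T : Matrix β β F, Iso K JB T ∧ T.det = 1 ∧ t.1 = (1 : Matrix α α F) ⊗ₖ T) → h * t * h⁻¹ ∈ M)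
    {y : β → F} (hy : ph K JB w ⬝ᵥ y = 0) {E : Matrix α α F} (he : h.1 * kc α y = kc α y + kc α w * E) :
    ∃ c : F, E = c • 1 := by
  have key : ∀ c : F, ∃ s : F, c • E - K.bar c • adj K JA E = s • 1 := fun c => by
    have h1 := H.rad_comm hw hw0 hh hconj (p := c • y)
      (by rw [dotProduct_smul, hy, smul_zero]) (E := c • E) (by
        rw [kc_smul, Matrix.mul_smul, he, Matrix.mul_smul, smul_add])
    rw [H.hA.adj_smul] at h1
    exact hS w hw hw0 _ h1
  obtain ⟨τ, hτ⟩ := K.exists_moved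
  obtain ⟨a, ha⟩ := key 1
  obtain ⟨b, hb⟩ := key τ
  rw [map_one, one_smul, one_smul, sub_eq_iff_eq_add'] at ha
  refine ⟨(τ - K.bar τ)⁻¹ * (b - K.bar τ * a), ?_⟩
  rw [← smul_smul, eq_inv_smul_iff₀ (sub_ne_zero.2 hτ.symm)]
  linear_combination (norm := module) hb - K.bar τ • ha

/-- An element scaling an isotropic vector by a prescribed scalar. -/
theorem exists_scaling {γ : Type} [Fintype γ] [DecidableEq γ] {J : Matrix γ γ F} (hJ : TensorUnitary.IsHerm K J)
    (h3 : 3 ≤ Fintype.card γ) {w : γ → F} (hw : ph K J w ⬝ᵥ w = 0) (hw0 : w ≠ 0) {ζ : F} (hζ : ζ ≠ 0) :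
    ∃ S, Iso K J S ∧ S.det = 1 ∧ S *ᵥ w = ζ • w := by
  obtain ⟨z, wz, zw, zz⟩ := hJ.exists_dual hw hw0
  obtain ⟨e, we, ze, ee⟩ := hJ.exists_aniso h3 hw zz wz
  have ew := hJ.orth_comm we
  have ez := hJ.orth_comm ze
  have hζ' : K.bar ζ ≠ 0 := fun h => hζ (by rw [← K.bar_bar ζ, h, map_zero])
  obtain ⟨f, hf⟩ : ∃ f, f = ph K J e ⬝ᵥ e := ⟨_, rfl⟩
  rw [← hf] at ee
  have hfr : K.bar f = f := hf ▸ hJ.self_real e
  let U : Matrix γ (Fin 3) F := Matrix.of fun x i => ![(ζ - 1) • w, ((K.bar ζ)⁻¹ - 1) • z, ((K.bar ζ / ζ - 1) / f) • e] i x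
  let V : Matrix (Fin 3) γ F := Matrix.of ![ph K J z, ph K J w, ph K J e]
  have app : ∀ x, (1 + U * V) *ᵥ x = x + ((ζ - 1) * (ph K J z ⬝ᵥ x)) • w +
      (((K.bar ζ)⁻¹ - 1) * (ph K J w ⬝ᵥ x)) • z + (((K.bar ζ / ζ - 1) / f) * (ph K J e ⬝ᵥ x)) • e := fun x => by
    rw [Matrix.add_mulVec, Matrix.one_mulVec, ← Matrix.mulVec_mulVec]
    ext a
    simp only [U, V, Matrix.mulVec, dotProduct, Fin.sum_univ_three, Matrix.of_apply, Pi.add_apply, Pi.smul_apply,
      smul_eq_mul, Matrix.cons_val_zero, Matrix.cons_val_one, Matrix.cons_val_two, Matrix.tail_cons,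
      Matrix.head_cons]
    ring
  refine ⟨1 + U * V, hJ.iso_of_form fun x y => ?_, ?_, ?_⟩
  · rw [app, app]
    simp only [ph_add, ph_smul, add_dotProduct, smul_dotProduct, dotProduct_add, dotProduct_smul, smul_eq_mul,
      map_mul, map_sub, map_one, map_inv₀, map_div₀, K.bar_bar, hfr, hw, wz, zw, zz, we, ew, ze, ez, ← hf,
      ← hJ.swap w x, ← hJ.swap z x, ← hJ.swap e x]
    field_simp
    ring
  · have hVU : V * U = Matrix.diagonal ![ζ - 1, (K.bar ζ)⁻¹ - 1, K.bar ζ / ζ - 1] := by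
      ext i j
      fin_cases i <;> fin_cases j <;>
        (refine Eq.trans (show _ = _ ⬝ᵥ _ from rfl) ?_
         simp [V, U])
      all_goals
        (rw [show ∀ (φ v : γ → F) (c : F), ((fun j => φ j) ⬝ᵥ fun j => c * v j) = c * (φ ⬝ᵥ v) from
           fun φ v c => dotProduct_smul c φ v]
         simp [hw, wz, zw, zz, we, ew, ze, ez, ← hf, ee])
    rw [Matrix.det_one_add_mul_comm, hVU, ← Matrix.diagonal_one, Matrix.diagonal_add, Matrix.det_diagonal,
      Fin.prod_univ_three]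
    simp
    field_simp
  · rw [app, zw, hw, ew]
    module

/-- Central elements paired with their conjugates are scalar. -/
theorem Weak.scalar_of_pairs (H : Weak K JA JB M) (hS : Small K JB M) {w : β → F} (hw : ph K JB w ⬝ᵥ w = 0)
    (hw0 : w ≠ 0) {D : Matrix α α F}
    (h : ∀ T : Matrix β β F, Iso K JB T → T.det = 1 →
      TensorMax.InM M ((1 + Zm K JB w D) * (1 - Zm K JB (T *ᵥ w) D))) :
    ∃ c : F, D = c • 1 := by
  by_cases hq : q = 2
  swap
  · obtain ⟨a, ha, ha0, haa⟩ := exists_real K hq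
    obtain ⟨ζ, hζ⟩ := K.exists_norm a ha
    have hζ0 : ζ ≠ 0 := fun e => ha0 (by rw [← hζ, e]; simp)
    obtain ⟨S, hSi, hSd, hSw⟩ := exists_scaling H.hB H.three hw hw0 hζ0
    have hn : ζ * K.bar ζ = a := by first | exact hζ | (rw [mul_comm]; exact hζ)
    have h1 := h S hSi hSd
    rw [hSw, zm_smul_vec, hn, Matrix.mul_sub, Matrix.mul_one, Matrix.add_mul, Matrix.one_mul, zm_mul K JB hw,
      add_zero, zm_smul, add_sub_assoc, ← one_smul F (Zm K JB w D), smul_smul, mul_one, ← sub_smul, ← zm_smul] at h1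
    obtain ⟨c, hc⟩ := hS w hw hw0 _ h1
    have h1a : (1 : F) - a ≠ 0 := sub_ne_zero.2 fun e => haa (by rw [← e]; ring)
    exact ⟨(1 - a)⁻¹ * c, by rw [← smul_smul, ← hc, smul_smul, inv_mul_cancel₀ h1a, one_smul]⟩
  have h4 := H.hex hq
  have h2 : (2 : F) = 0 := two_zero K hq
  cases nonempty_fintype F
  have hcard : Fintype.card F = 4 := by rw [← Nat.card_eq_fintype_card, K.card, hq]; rfl
  have hnorm : ∀ c : F, c ≠ 0 → c * K.bar c = 1 := fun c hc => by
    rw [K.bar_apply, hq, ← pow_succ']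
    have := FiniteField.pow_card_sub_one_eq_one c hc
    rwa [hcard] at this
  obtain ⟨z, wz, zw, zz⟩ := H.hB.exists_dual hw hw0
  obtain ⟨u, hu0, hu, hu'⟩ := H.hB.exists_iso_perp ![ph K JB w, ph K JB z] (by simp; omega)
  have wu : ph K JB w ⬝ᵥ u = 0 := hu' 0
  have zu : ph K JB z ⬝ᵥ u = 0 := hu' 1
  have uw := H.hB.orth_comm wu
  obtain ⟨Q, hQ⟩ : ∃ Q : (β → F) → Matrix (α × β) (α × β) F, Q = fun v => Zm K JB v D := ⟨_, rfl⟩
  have orth : ∀ a b c d : F, ph K JB (a • w + b • u) ⬝ᵥ (c • w + d • u) = 0 := fun a b c d => by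
    simp only [ph_add, ph_smul, add_dotProduct, smul_dotProduct, dotProduct_add, dotProduct_smul, smul_eq_mul, hw,
      hu, wu, uw, mul_zero, add_zero]
  have base : ∀ a b : F, a • w + b • u ≠ 0 → TensorMax.InM M (1 + (Q w - Q (a • w + b • u))) := fun a b hne => by
    obtain ⟨T, c, hT, dT, hc, hTw⟩ := H.hB.move hw hw0 (orth a b a b) hne
    have h1 := h T hT dT
    rw [hTw, zm_smul_vec, hnorm c hc, one_smul, Matrix.mul_sub, Matrix.mul_one, Matrix.add_mul, Matrix.one_mul,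
      zm_mul_of_orth K JB (by
        have := orth 1 0 a b
        simpa using this), add_zero, add_sub_assoc] at h1
    rw [hQ]; exact h1
  have hne : ∀ a b : F, b ≠ 0 → a • w + b • u ≠ 0 := fun a b hb e => by
    have e1 := congrArg (ph K JB z ⬝ᵥ ·) e
    simp only [dotProduct_add, dotProduct_smul, zw, zu, smul_eq_mul, mul_one, mul_zero, add_zero,
      dotProduct_zero] at e1
    rw [e1, zero_smul, zero_add, smul_eq_zero] at e
    exact hu0 (e.resolve_left hb)
  have qmul : ∀ a b c d : F, Q (a • w + b • u) * Q (c • w + d • u) = 0 := fun a b c d => by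
    rw [hQ]; exact zm_mul_of_orth K JB (orth a b c d) _ _
  have qw : ∀ c d : F, Q w * Q (c • w + d • u) = 0 := fun c d => by
    have := qmul 1 0 c d; rwa [one_smul, zero_smul, add_zero] at this
  have qw' : ∀ c d : F, Q (c • w + d • u) * Q w = 0 := fun c d => by
    have := qmul c d 1 0; rwa [one_smul, zero_smul, add_zero] at this
  have qww : Q w * Q w = 0 := by have := qw 1 0; rwa [one_smul, zero_smul, add_zero] at this
  obtain ⟨ω, hω⟩ := K.exists_moved
  have hω1 : ω ≠ 1 := fun e => hω (by rw [e, map_one])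
  have hω0 : ω ≠ 0 := fun e => hω (by rw [e, map_zero])
  have hωb : K.bar ω = ω * ω := by rw [K.bar_apply, hq, sq]
  have hω3 : ω * (ω * ω) = 1 := by rw [← hωb]; exact hnorm ω hω0
  have hω2 : ω * ω + ω + 1 = 0 := by
    have e : (ω - 1) * (ω * ω + ω + 1) = 0 := by linear_combination hω3
    exact (mul_eq_zero.1 e).resolve_left (sub_ne_zero.2 hω1)
  obtain ⟨g1, hg1, e1⟩ := base 1 1 (hne 1 1 one_ne_zero)
  obtain ⟨g2, hg2, e2⟩ := base 1 ω (hne 1 ω hω0)
  obtain ⟨g3, hg3, e3⟩ := base 1 (ω * ω) (hne 1 (ω * ω) (mul_ne_zero hω0 hω0))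
  have hfin : TensorMax.InM M (1 + Zm K JB u D) := by
    refine ⟨g1 * g2 * g3, M.mul_mem (M.mul_mem hg1 hg2) hg3, ?_⟩
    rw [Units.val_mul, Units.val_mul, e1, e2, e3]
    simp only [Matrix.mul_add, Matrix.add_mul, Matrix.mul_sub, Matrix.sub_mul, Matrix.one_mul, Matrix.mul_one,
      qmul, qw, qw', qww, Matrix.zero_mul, sub_zero, zero_sub, add_zero, zero_add, neg_zero]
    rw [show Zm K JB u D = Q u by rw [hQ]]
    have hexp : ∀ b : F, Q ((1 : F) • w + b • u) =
        Q w + (b * K.bar b) • Q u + (K.bar b • (kc α w * D * kr α (ph K JB u)) + b • (kc α u * D * kr α (ph K JB w))) := by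
      intro b
      simp only [hQ, Zm, one_smul, ph_add, ph_smul, kc_add, kc_smul, kr_add, kr_smul, Matrix.add_mul, Matrix.mul_add,
        Matrix.smul_mul, Matrix.mul_smul, smul_smul, mul_comm b (K.bar b)]
      module
    rw [hexp, hexp, hexp, hnorm 1 one_ne_zero, hnorm ω hω0, hnorm _ (mul_ne_zero hω0 hω0), map_one, map_mul, hωb,
      one_smul]
    have h4' : ω * ω * (ω * ω) = ω := by linear_combination ω * hω3
    rw [h4']
    linear_combination (norm := module) -(hω2 • (kc α w * D * kr α (ph K JB u))) -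
      hω2 • (kc α u * D * kr α (ph K JB w)) - h2 • ((2 : F) • Q u)
  exact hS u hu hu0 D hfin

end CfsgLib.Classical.TensorWreathU
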